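import Cfsg.Agent.Lib.InvChar.HeRec.Convert
import Cfsg.Agent.Lib.InvChar.SporHeInvolIso

/-!
# A frame from an isomorphism with the centraliser of a transvection in `SL(5, 2)`

The code of a matrix commuting with the transvection is read off its entries; it acts on the 16 affine
points as the matrix does.
-/

set_option autoImplicit false
set_option maxRecDepth 100000

namespace CfsgLib.InvChar.HeRec.Tri

open TransvFive

/-- Three bits. -/
def bits3 (a b c : ZMod 2) : ℕ := a.val + 2 * b.val + 4 * c.val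

theorem bits3_lt : ∀ a b c : ZMod 2, bits3 a b c < 8 := by decide

theorem top_row : ∀ a b c d : ZMod 2, ∀ i : Fin 16,
    ((i : ℕ) &&& 1) ^^^ parThree (bits3 a b c &&& ((i : ℕ) >>> 1)) ^^^ d.val =
      (dec i 0 + d * dec i 1 + a * dec i 2 + b * dec i 3 + c * dec i 4).val := by decide +kernel

theorem low_row : ∀ a b c d : ZMod 2, ∀ i : Fin 16,
    parThree (bits3 a b c &&& ((i : ℕ) >>> 1)) ^^^ d.val =
      (d * dec i 1 + a * dec i 2 + b * dec i 3 + c * dec i 4).val := by decide +kernel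

theorem xor_bits : ∀ p < 2, ∀ q < 2, ∀ r < 2, ∀ a b c : ZMod 2,
    (p + 2 * q + 4 * r) ^^^ bits3 a b c = (p ^^^ a.val) + 2 * (q ^^^ b.val) + 4 * (r ^^^ c.val) := by
  decide +kernel

theorem singular_check : below 512 (fun A => hvalid A || !below 8 fun v => v == 0 || colMul A v != 0) = true := by
  decide +kernel

theorem one_check : below 8 (fun v => colMul 273 v == v) = true := by decide +kernel

/-- A code is trivial, `hZ`, or moves one of four test codes. -/
def centerTest (x : ℕ) : Bool :=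
  x == hOne || x == hZ || ([94, 124, 1297, 24849] : List ℕ).any (fun g => hmul x g != hmul g x)

theorem center_check : below 168 (fun n => below 128 fun q => centerTest (CModel.toH (q + 128 * n))) = true := by
  decide +kernel

/-- The code of a matrix. -/
def codeM (M : Matrix (Fin 5) (Fin 5) (ZMod 2)) : ℕ :=
  mk (bits3 (M 2 2) (M 2 3) (M 2 4) + 8 * bits3 (M 3 2) (M 3 3) (M 3 4) + 64 * bits3 (M 4 2) (M 4 3) (M 4 4))
    (bits3 (M 2 1) (M 3 1) (M 4 1)) (bits3 (M 0 2) (M 0 3) (M 0 4)) (M 0 1).val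

theorem codeM_fields (M : Matrix (Fin 5) (Fin 5) (ZMod 2)) : ∃ A u f c, A < 512 ∧ u < 8 ∧ f < 8 ∧ c ≤ 1 ∧
    A = bits3 (M 2 2) (M 2 3) (M 2 4) + 8 * bits3 (M 3 2) (M 3 3) (M 3 4) + 64 * bits3 (M 4 2) (M 4 3) (M 4 4) ∧
    u = bits3 (M 2 1) (M 3 1) (M 4 1) ∧ f = bits3 (M 0 2) (M 0 3) (M 0 4) ∧ c = (M 0 1).val ∧
    codeM M = mk A u f c := by
  refine ⟨_, _, _, _, ?_, bits3_lt _ _ _, bits3_lt _ _ _, Nat.le_of_lt_succ (ZMod.val_lt _), rfl, rfl, rfl, rfl, rfl⟩
  have h1 := bits3_lt (M 2 2) (M 2 3) (M 2 4)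
  have h2 := bits3_lt (M 3 2) (M 3 3) (M 3 4)
  have h3 := bits3_lt (M 4 2) (M 4 3) (M 4 4)
  omega

theorem act_det {A u f c B v g d : ℕ} (hA : A < 512) (hu : u < 8) (hf : f < 8) (hc : c ≤ 1) (hB : B < 512)
    (hv : v < 8) (hg : g < 8) (hd : d ≤ 1)
    (h : ∀ i < 16, HeRec.act A u f c i = HeRec.act B v g d i) : mk A u f c = mk B v g d := by
  have hb : ∀ i, (i &&& 1) ^^^ parThree (f &&& (i >>> 1)) ^^^ c ≤ 1 ∧
      (i &&& 1) ^^^ parThree (g &&& (i >>> 1)) ^^^ d ≤ 1 := fun i =>
    ⟨bit_xor (bit_xor Nat.and_le_right (parThree_le _)) hc, bit_xor (bit_xor Nat.and_le_right (parThree_le _)) hd⟩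
  have key : ∀ w < 8, colMul A w ^^^ u = colMul B w ^^^ v ∧
      parThree (f &&& w) ^^^ c = parThree (g &&& w) ^^^ d := by
    intro w hw
    have h1 := h (2 * w) (by omega)
    have hs : (2 * w) >>> 1 = w := by rw [Nat.shiftRight_eq_div_pow]; omega
    have hm : (2 * w) &&& 1 = 0 := by rw [Nat.and_one_is_mod]; omega
    have hx := hb (2 * w)
    rw [hs, hm] at hx
    simp only [HeRec.act, hs, hm, Nat.zero_xor] at h1 hx
    omega
  obtain ⟨k1, k2⟩ := key 0 (by norm_num)
  have z1 : ∀ M, colMul M 0 = 0 := fun M => by simp [colMul, parThree]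
  have z2 : ∀ a, parThree (a &&& 0) = 0 := fun a => by simp [parThree]
  rw [z1, z1, Nat.zero_xor, Nat.zero_xor] at k1
  rw [z2, z2, Nat.zero_xor, Nat.zero_xor] at k2
  subst k1 k2
  have e1 : A = B := matrix_ext hA hB fun w hw => Nat.xor_right_inj.1 (by
    rw [Nat.xor_comm u, Nat.xor_comm u]; exact (key w hw).1)
  have e2 : f = g := vec_ext hf hg fun w hw => Nat.xor_right_inj.1 (by
    rw [Nat.xor_comm c, Nat.xor_comm c]; exact (key w hw).2)
  rw [e1, e2]

/-- The code of an element of the centraliser. -/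
def codeC {s : SL5} (M : ↥(Subgroup.centralizer ({s} : Set SL5))) : ℕ :=
  codeM ((M : SL5) : Matrix (Fin 5) (Fin 5) (ZMod 2))

section

variable {s : SL5} (hs : (s : Matrix (Fin 5) (Fin 5) (ZMod 2)) = Matrix.transvection 0 1 1)

include hs

/-- The code acts as the matrix. -/
theorem act_code (M : ↥(Subgroup.centralizer ({s} : Set SL5))) {A u f c : ℕ}
    (hA : A = bits3 ((M : SL5) 2 2) ((M : SL5) 2 3) ((M : SL5) 2 4) + 8 * bits3 ((M : SL5) 3 2) ((M : SL5) 3 3) ((M : SL5) 3 4)
      + 64 * bits3 ((M : SL5) 4 2) ((M : SL5) 4 3) ((M : SL5) 4 4))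
    (hu : u = bits3 ((M : SL5) 2 1) ((M : SL5) 3 1) ((M : SL5) 4 1))
    (hf : f = bits3 ((M : SL5) 0 2) ((M : SL5) 0 3) ((M : SL5) 0 4)) (hc : c = ((M : SL5) 0 1).val) (i : Fin 16) :
    HeRec.act A u f c i = (psi hs M i : ℕ) := by
  obtain ⟨h1, -, h00, -⟩ := shape hs M.2
  have hv : ((i : ℕ) >>> 1) < 8 := by rw [Nat.shiftRight_eq_div_pow]; omega
  subst hA hu hf hc
  rw [psi_apply, HeRec.act, rows (bits3_lt _ _ _) (bits3_lt _ _ _) (bits3_lt _ _ _) hv,
    xor_bits _ (Nat.lt_succ_of_le (parThree_le _)) _ (Nat.lt_succ_of_le (parThree_le _)) _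
      (Nat.lt_succ_of_le (parThree_le _)), top_row, low_row, low_row, low_row]
  simp only [TransvFive.act, TransvFive.enc, Matrix.mulVec, dotProduct, Fin.sum_univ_five, h00, one_mul,
    h1 2 (by decide), h1 3 (by decide), h1 4 (by decide), zero_mul, zero_add]
  ring

theorem codeC_mul (M N : ↥(Subgroup.centralizer ({s} : Set SL5))) :
    codeC (M * N) = hmul (codeC M) (codeC N) := by
  obtain ⟨A, u, f, c, hA, hu, hf, hc, eA, eu, ef, ec, e1⟩ := codeM_fields ((M : SL5) : Matrix (Fin 5) (Fin 5) (ZMod 2))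
  obtain ⟨B, v, g, d, hB, hv, hg, hd, eB, ev, eg, ed, e2⟩ := codeM_fields ((N : SL5) : Matrix (Fin 5) (Fin 5) (ZMod 2))
  obtain ⟨D, w, k, m, hD, hw, hk, hm, eD, ew, ek, em, e3⟩ :=
    codeM_fields (((M * N : ↥(Subgroup.centralizer ({s} : Set SL5))) : SL5) : Matrix (Fin 5) (Fin 5) (ZMod 2))
  show codeM _ = hmul (codeM _) (codeM _)
  rw [e1, e2, e3, hmul_mk hA hu hf hB hv hg]
  refine act_det hD hw hk hm (matMul_lt _ _) (Nat.xor_lt_two_pow (n := 3) (colMul_lt _ _) hu)
    (Nat.xor_lt_two_pow (n := 3) (rowMul_lt _ _) hg) (bit_xor (bit_xor hc hd) (parThree_le _)) fun i hi => ?_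
  rw [act_comp hA hf hB hv hg hd hi]
  have a1 := act_code hs (M * N) eD ew ek em ⟨i, hi⟩
  have a2 := act_code hs N eB ev eg ed ⟨i, hi⟩
  have a3 := act_code hs M eA eu ef ec (psi hs N ⟨i, hi⟩)
  simp only at a1 a2
  rw [a1, a2, a3, map_mul, Equiv.Perm.mul_apply]

theorem codeC_one : codeC (s := s) 1 = hOne := by
  show codeM ((1 : SL5) : Matrix (Fin 5) (Fin 5) (ZMod 2)) = hOne
  rw [Matrix.SpecialLinearGroup.coe_one]
  decide

theorem codeC_injective : Function.Injective (codeC (s := s)) := by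
  intro M N h
  obtain ⟨A, u, f, c, hA, hu, hf, hc, eA, eu, ef, ec, e1⟩ := codeM_fields ((M : SL5) : Matrix (Fin 5) (Fin 5) (ZMod 2))
  obtain ⟨B, v, g, d, hB, hv, hg, hd, eB, ev, eg, ed, e2⟩ := codeM_fields ((N : SL5) : Matrix (Fin 5) (Fin 5) (ZMod 2))
  have h' : mk A u f c = mk B v g d := e1.symm.trans (h.trans e2)
  refine psi_injective hs (Equiv.ext fun i => Fin.ext ?_)
  obtain ⟨q1, q2, q3, q4⟩ := fields c hA hu hf
  obtain ⟨r1, r2, r3, r4⟩ := fields d hB hv hg
  rw [h'] at q1 q2 q3 q4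
  rw [← act_code hs M eA eu ef ec i, ← act_code hs N eB ev eg ed i, ← q1.symm.trans r1 |>.symm,
    ← q2.symm.trans r2 |>.symm, ← q3.symm.trans r3 |>.symm, ← q4.symm.trans r4 |>.symm]

theorem codeC_valid (M : ↥(Subgroup.centralizer ({s} : Set SL5))) : hvalid (codeC M) = true := by
  obtain ⟨A, u, f, c, hA, hu, hf, hc, -, -, -, -, e1⟩ := codeM_fields ((M : SL5) : Matrix (Fin 5) (Fin 5) (ZMod 2))
  obtain ⟨B, v, g, d, hB, hv, hg, hd, -, -, -, -, e2⟩ :=
    codeM_fields (((M⁻¹ : ↥(Subgroup.centralizer ({s} : Set SL5))) : SL5) : Matrix (Fin 5) (Fin 5) (ZMod 2))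
  have h : hmul (mk B v g d) (mk A u f c) = hOne := by
    rw [← e1, ← e2]
    exact (codeC_mul hs M⁻¹ M).symm.trans (by rw [inv_mul_cancel, codeC_one hs])
  rw [hmul_mk hB hv hg hA hu hf, show hOne = mk 273 0 0 0 from rfl] at h
  obtain ⟨q1, -, -, -⟩ := fields (d ^^^ c ^^^ parThree (g &&& u)) (matMul_lt B A)
    (Nat.xor_lt_two_pow (n := 3) (colMul_lt B u) hv) (Nat.xor_lt_two_pow (n := 3) (rowMul_lt g A) hf)
  obtain ⟨r1, -, -, -⟩ := fields (A := 273) (u := 0) (f := 0) 0 (by norm_num) (by norm_num) (by norm_num)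
  rw [h] at q1
  have hBA : matMul B A = 273 := q1.symm.trans r1
  have hAv : hvalid A = true := by
    have hsing := of_below singular_check hA
    rw [Bool.or_eq_true] at hsing
    rcases hsing with hsing | hsing
    · exact hsing
    · rw [Bool.not_eq_true'] at hsing
      obtain ⟨w, hw, hw0⟩ := List.all_eq_false.1 hsing
      rw [List.mem_range] at hw
      simp only [Bool.or_eq_true, beq_iff_eq, bne_iff_ne, not_or, Decidable.not_not] at hw0
      have e := colMul_matMul hB hA hw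
      rw [hBA, hw0.2, beq_iff_eq.1 (of_below one_check hw)] at e
      exact absurd (e.trans (by simp [colMul, parThree])) hw0.1
  show hvalid (codeM _) = true
  rw [e1]
  have hlow : hvalid (mk A u f c) = (decide (mk A u f c < 65536) && hvalid A) := by
    have e0 : mk A u f c % 8 = A % 8 := by unfold mk; omega
    have e1 : mk A u f c / 8 % 8 = A / 8 % 8 := by unfold mk; omega
    have e2 : mk A u f c / 64 % 8 = A / 64 % 8 := by unfold mk; omega
    simp only [hvalid, Nat.shiftRight_eq_div_pow, show (7 : ℕ) = 2 ^ 3 - 1 from rfl,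
      Nat.and_two_pow_sub_one_eq_mod]
    norm_num [e0, e1, e2, show A < 65536 by omega, Bool.and_assoc]
  rw [hlow, hAv, Bool.and_true, decide_eq_true_eq]
  unfold mk; omega

theorem codeC_surjective {x : ℕ} (hx : hvalid x = true) : ∃ M : ↥(Subgroup.centralizer ({s} : Set SL5)), codeC M = x := by
  classical
  have hcard : 21504 ≤ Nat.card ↥(Subgroup.centralizer ({s} : Set SL5)) := by
    have h1 : SporHeInvol.modelGroup hs ≤ (psi hs).range := by
      rw [SporHeInvol.modelGroup, Subgroup.closure_le]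
      rintro _ ⟨j, rfl⟩
      exact ⟨_, rfl⟩
    exact (SporHeInvol.card_model_ge hs).trans ((Subgroup.card_le_of_le h1).trans
      (Nat.card_le_card_of_surjective _ (psi hs).rangeRestrict_surjective))
  let F : ↥(Subgroup.centralizer ({s} : Set SL5)) → Fin 21504 := fun M =>
    ⟨CModel.fromH (codeC M), (CModel.toH_fromH (codeC_valid hs M)).2⟩
  have hF : Function.Injective F := fun M N h => codeC_injective hs (by
    rw [← (CModel.toH_fromH (codeC_valid hs M)).1, ← (CModel.toH_fromH (codeC_valid hs N)).1]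
    exact congrArg CModel.toH (Fin.mk.inj h))
  have hb := (Nat.bijective_iff_injective_and_card F).2
    ⟨hF, le_antisymm (by simpa using card_le hs) (by simpa using hcard)⟩
  obtain ⟨M, hM⟩ := hb.2 ⟨CModel.fromH x, (CModel.toH_fromH hx).2⟩
  refine ⟨M, ?_⟩
  rw [← (CModel.toH_fromH (codeC_valid hs M)).1,
    show CModel.fromH (codeC M) = CModel.fromH x from congrArg Fin.val hM, (CModel.toH_fromH hx).1]

theorem center_code {M : ↥(Subgroup.centralizer ({s} : Set SL5))} (hM : ∀ N, M * N = N * M) :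
    codeC M = hOne ∨ codeC M = hZ := by
  set x := codeC M with hx
  obtain ⟨h1, h2⟩ := CModel.toH_fromH (codeC_valid hs M)
  set c := CModel.fromH x with hc
  have h := of_below (of_below center_check (show c / 128 < 168 by omega)) (show c % 128 < 128 by omega)
  rw [show c % 128 + 128 * (c / 128) = c from by omega, h1] at h
  simp only [centerTest, Bool.or_eq_true, beq_iff_eq, List.any_eq_true, bne_iff_ne] at h
  rcases h with (h | h) | ⟨g, hg, hne⟩
  · exact Or.inl h
  · exact Or.inr h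
  · exfalso
    have hgv : hvalid g = true := by
      simp only [List.mem_cons, List.not_mem_nil, or_false] at hg
      rcases hg with rfl | rfl | rfl | rfl <;> decide
    obtain ⟨N, rfl⟩ := codeC_surjective hs hgv
    exact hne (by rw [← codeC_mul hs, ← codeC_mul hs, hM])

/-- An isomorphism with the centraliser of the transvection gives a frame. -/
theorem exists_frame_of_equiv {G : Type*} [Group G] {t : G} (ht : orderOf t = 2)
    (e : Subgroup.centralizer ({t} : Set G) ≃* Subgroup.centralizer ({s} : Set SL5)) :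
    ∃ ψ : ℕ → G, IsFrame t ψ := by
  classical
  let ψ : ℕ → G := fun x =>
    if h : ∃ M, codeC M = x then ((e.symm (Classical.choose h) : Subgroup.centralizer ({t} : Set G)) : G) else 1
  have key : ∀ M, ψ (codeC M) = ((e.symm M : Subgroup.centralizer ({t} : Set G)) : G) := fun M => by
    have h : ∃ N, codeC N = codeC M := ⟨M, rfl⟩
    simp only [ψ, dif_pos h]
    rw [codeC_injective hs (Classical.choose_spec h)]
  refine ⟨ψ, ⟨fun x y hx hy => ?_, fun x y hx hy hxy => ?_, fun g => ⟨fun hg => ?_, ?_⟩, ?_⟩⟩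
  · obtain ⟨M, rfl⟩ := codeC_surjective hs hx
    obtain ⟨N, rfl⟩ := codeC_surjective hs hy
    rw [← codeC_mul hs, key, key, key, map_mul, Subgroup.coe_mul]
  · obtain ⟨M, rfl⟩ := codeC_surjective hs hx
    obtain ⟨N, rfl⟩ := codeC_surjective hs hy
    rw [key, key] at hxy
    rw [e.symm.injective (Subtype.ext hxy)]
  · exact ⟨codeC (e ⟨g, hg⟩), codeC_valid hs _, by rw [key, e.symm_apply_apply]⟩
  · rintro ⟨x, hx, rfl⟩
    obtain ⟨M, rfl⟩ := codeC_surjective hs hx
    rw [key]
    exact (e.symm M).2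
  · let T : Subgroup.centralizer ({t} : Set G) := ⟨t, Subgroup.mem_centralizer_singleton_iff.2 rfl⟩
    have hcen : ∀ N, e T * N = N * e T := fun N => by
      obtain ⟨g, rfl⟩ := e.surjective N
      rw [← map_mul, ← map_mul]
      exact congrArg e (Subtype.ext (Subgroup.mem_centralizer_singleton_iff.1 g.2).symm)
    rcases center_code hs hcen with h | h
    · exfalso
      have hT : T = 1 := e.injective (codeC_injective hs (h.trans (by rw [map_one, codeC_one hs])))
      rw [show t = 1 from congrArg Subtype.val hT, orderOf_one] at ht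
      norm_num at ht
    · rw [← h, key, e.symm_apply_apply]

end

end CfsgLib.InvChar.HeRec.Tri
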