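/-!
# The classes of the products in the centralisers of pairs of commuting involutions

For each of five classes: the classes of the involutions `a` commuting with the representative `y`,
of `a * y` and of `a * hZ`, packed with base sixteen; eight means no involution.
-/

set_option autoImplicit false

namespace CfsgLib.InvChar.HeRec.Tri

/-- The packed class rows of the pair centralisers. -/
def pairRows : List (List Nat) := [
  [
    1664, 289, 1568, 289, 835, 851, 1600, 337, 86, 337, 835, 851, 118, 289, 38, 289, 835, 851, 70,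
    337, 1616, 337, 835, 851, 1536, 257, 273, 1552, 1536, 353, 273, 22, 102, 353, 273, 22, 102,
    257, 273, 1552, 1536, 1536, 771, 867, 819, 819, 1584, 54, 102, 102, 867, 771, 819, 819, 54,
    1584, 530, 514, 530, 1076, 1333, 1028, 1301, 1381, 1301, 1076, 1333, 2151, 530, 610, 530,
    1076, 1333, 1124, 1301, 1285, 1301, 1076, 1333, 1536, 1552, 273, 257, 1536, 22, 273, 353, 102,
    22, 273, 353, 102, 1552, 273, 257, 1536, 1536, 1584, 54, 819, 819, 771, 867, 102, 102, 54,
    1584, 819, 819, 867, 771],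
  [
    530, 610, 610, 1044, 1301, 1285, 1381, 2071, 530, 514, 514, 1044, 1301, 1381, 1285, 273, 273,
    273, 273, 1568, 1568, 289, 369, 1616, 86, 337, 321, 38, 38, 289, 385, 86, 1616, 337, 321, 273,
    273, 273, 273, 1632, 273, 1552, 353, 1536, 273, 22, 353, 6, 273, 22, 257, 102, 273, 1552, 257,
    1552, 353, 273, 1632, 1552, 257, 273, 102, 22, 257, 273, 6, 22, 353, 273, 1536],
  [
    1552, 257, 1552, 257, 1552, 257, 22, 353, 22, 353, 22, 353, 22, 353, 1552, 257, 1552, 257,
    257, 1552, 1552, 257, 353, 22, 22, 353, 353, 22, 22, 353, 257, 1552, 642, 546, 546, 546, 546,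
    546, 546, 1108, 1349, 1365, 1365, 1108, 1349, 1365, 1365, 1108, 1349, 1365, 1365, 2087, 626,
    546, 546, 546, 546, 546, 546, 1108, 1349, 1365, 1365, 1108, 1349, 1365, 1365, 1108, 1349,
    1365, 1365, 1536, 1536, 273, 273, 1632, 6, 273, 273, 819, 819, 819, 819, 102, 102, 273, 273,
    6, 1632, 273, 273, 819, 819, 819, 819, 1536, 1536, 273, 273, 819, 819, 1632, 6, 273, 273, 819,
    819, 102, 102, 273, 273, 819, 819, 6, 1632, 273, 273, 819, 819, 1536, 1536, 273, 273, 819,
    819, 819, 819, 1632, 6, 273, 273, 102, 102, 273, 273, 819, 819, 819, 819, 6, 1632, 273, 273,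
    1552, 257, 1552, 257, 1552, 257, 22, 353, 22, 353, 22, 353, 22, 353, 1552, 257, 1552, 257,
    257, 1552, 1552, 257, 353, 22, 22, 353, 353, 22, 22, 353, 257, 1552, 1552, 257, 1552, 257,
    1552, 257, 22, 353, 22, 353, 22, 353, 22, 353, 1552, 257, 1552, 257, 257, 1552, 1552, 257,
    353, 22, 22, 353, 353, 22, 22, 353, 257, 1552],
  [
    1600, 1616, 899, 803, 1600, 86, 835, 851, 70, 86, 883, 803, 70, 1616, 835, 851, 819, 819, 819,
    819, 1536, 1632, 771, 771, 819, 819, 1584, 54, 102, 6, 867, 867, 819, 819, 54, 1584, 562,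
    1028, 1285, 1076, 1333, 1028, 1381, 2103, 562, 1124, 1381, 1076, 1333, 1124, 1285, 819, 819,
    819, 819, 1584, 1584, 1536, 6, 771, 867, 819, 819, 54, 54, 102, 1632, 867, 771, 819, 819],
  [
    1584, 1584, 771, 771, 1584, 54, 771, 867, 54, 54, 867, 867, 54, 1584, 867, 771, 1584, 1584,
    771, 771, 771, 867, 1584, 54, 54, 54, 867, 867, 867, 771, 54, 1584, 594, 594, 594, 1156, 1317,
    1317, 1317, 1092, 1365, 1092, 1365, 1092, 1365, 1092, 1365, 1092, 1365, 1092, 1365, 2119, 594,
    594, 594, 1140, 1317, 1317, 1317, 1092, 1365, 1092, 1365, 1092, 1365, 1092, 1365, 1092, 1365,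
    1092, 1365, 1536, 1632, 273, 273, 1536, 6, 273, 273, 819, 819, 819, 819, 102, 6, 273, 273,
    102, 1632, 273, 273, 819, 819, 819, 819, 1584, 1584, 771, 771, 1584, 54, 771, 867, 54, 54,
    867, 867, 54, 1584, 867, 771, 1584, 1584, 771, 771, 771, 867, 1584, 54, 54, 54, 867, 867, 867,
    771, 54, 1584, 1536, 273, 1632, 273, 1536, 273, 6, 273, 819, 819, 819, 819, 102, 273, 6, 273,
    102, 273, 1632, 273, 819, 819, 819, 819, 1536, 273, 273, 1632, 1536, 273, 273, 6, 819, 819,
    819, 819, 102, 273, 273, 6, 102, 273, 273, 1632, 819, 819, 819, 819, 1584, 1584, 771, 771,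
    1584, 54, 771, 867, 54, 54, 867, 867, 54, 1584, 867, 771, 1584, 1584, 771, 771, 771, 867,
    1584, 54, 54, 54, 867, 867, 867, 771, 54, 1584]]

end CfsgLib.InvChar.HeRec.Tri
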