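import Cfsg.Agent.Lib.InvChar.HeRec.FusionY
import Cfsg.Agent.Lib.InvChar.HeRec.Swap.Edge
import Cfsg.Agent.Lib.InvChar.HeRec.Trichotomy.FusionData

/-!
# The possible fusion patterns in a group with the involution centraliser of `L5(2)`

No hypothesis on the order: a conjugate `y` of `t` commuting with `t` can be exchanged with `t`
up to conjugation in `C(t)`, which matches the common centralisers.
-/

set_option autoImplicit false

namespace CfsgLib.InvChar.HeRec.Tri

open Fus

/-- The class of a code; eight if it is no involution of the table. -/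
def fcls (x : ℕ) : ℕ :=
  (((invBuckets.filter fun b => b.1 == x % 512).flatMap Prod.snd).find?
    fun r => eCode r == x).elim 8 rCls

/-- A packed class of a row. -/
def sel (d r : ℕ) : ℕ := (r >>> (4 * d)) % 16

/-- The representatives `1`, `y_k`, `hZ` by position. -/
def mult (k : ℕ) : ℕ → ℕ
  | 0 => hOne
  | 1 => reps.getD k 0
  | _ => hZ

/-- The rows computed from the tables. -/
def rowsOf (k : ℕ) : List ℕ :=
  (invTab.filter fun r => hmul (eCode r) (reps.getD k 0) == hmul (reps.getD k 0) (eCode r)).map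
    fun r => rCls r + 16 * fcls (hmul (eCode r) (mult k 1)) + 256 * fcls (hmul (eCode r) (mult k 2))

theorem rowsOf_eq : ∀ k < 5, rowsOf k = pairRows.getD k [] := by decide +kernel

/-- The number of rows whose first and selected classes have the label. -/
def cnt (P : ℕ → Bool) (k d : ℕ) : ℕ :=
  (pairRows.getD k []).countP fun r => P (sel 0 r) && P (sel d r)

/-- The pattern with given bits on the first five classes; class seven is the class of `t`. -/
def pat5 (b₀ b₁ b₂ b₃ b₄ : Bool) (k : ℕ) : Bool :=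
  [b₀, b₁, b₂, b₃, b₄, false, false, true].getD k false

/-- The bits of a pattern on five classes. -/
def bits (P : ℕ → Bool) : List Bool := (List.range 5).map P

/-- None, the two affine patterns, `L5(2)`, `M24` in two frames, and Held. -/
def patterns : List (List Bool) :=
  [[false, false, false, false, false], [false, false, true, false, false],
   [false, false, false, false, true], [true, false, true, false, true],
   [true, true, true, false, true], [true, false, true, true, true],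
   [true, true, true, true, true]]

theorem pattern_search : ∀ b₀ b₁ b₂ b₃ b₄ : Bool,
    (∀ k < 5, pat5 b₀ b₁ b₂ b₃ b₄ k = true → ∃ j < 5, pat5 b₀ b₁ b₂ b₃ b₄ j = true ∧
      cnt (pat5 b₀ b₁ b₂ b₃ b₄) k 0 = cnt (pat5 b₀ b₁ b₂ b₃ b₄) j 0 ∧
      cnt (pat5 b₀ b₁ b₂ b₃ b₄) k 1 = cnt (pat5 b₀ b₁ b₂ b₃ b₄) j 2 ∧
      cnt (pat5 b₀ b₁ b₂ b₃ b₄) k 2 = cnt (pat5 b₀ b₁ b₂ b₃ b₄) j 1) →
    bits (pat5 b₀ b₁ b₂ b₃ b₄) ∈ patterns := by
  decide +kernel

variable {G : Type*} [Group G] {t : G} {ψ : ℕ → G}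

/-- The label of a class, false off the table. -/
noncomputable def lab (t : G) (ψ : ℕ → G) (k : ℕ) : Bool := decide (k < 8) && fused t ψ k

/-- An involution in the table. -/
theorem exists_row (ht : orderOf t = 2) (hψ : IsFrame t ψ) {x : ℕ} (hx : hvalid x = true)
    (h : IsConj t (ψ x)) : ∃ r ∈ invTab, eCode r = x := by
  obtain ⟨c, hc⟩ := isConj_iff.1 h
  have htt : t * t = 1 := by
    rw [← pow_two, ← ht, pow_orderOf_eq_one]
  refine tab_complete hx (hψ.inj _ _ (hvalid_sq hx) (by decide) ?_) fun e => ?_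
  · rw [hψ.map_mul _ _ hx hx, ← hc, Swap.ψ_one hψ]
    calc c * t * c⁻¹ * (c * t * c⁻¹) = c * (t * t) * c⁻¹ := by group
      _ = 1 := by rw [htt]; group
  · rw [e, Swap.ψ_one hψ] at hc
    have ht1 : t = 1 := by simpa using hc
    rw [ht1, orderOf_one] at ht
    norm_num at ht

theorem fcls_spec (ht : orderOf t = 2) (hψ : IsFrame t ψ) {x : ℕ} (hx : hvalid x = true) :
    IsConj t (ψ x) ↔ lab t ψ (fcls x) = true := by
  unfold fcls
  cases e : ((invBuckets.filter fun b => b.1 == x % 512).flatMap Prod.snd).find?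
      fun r => eCode r == x with
  | none =>
    refine ⟨fun h => ?_, fun h => by simp [lab] at h⟩
    obtain ⟨r, hr, rfl⟩ := exists_row ht hψ hx h
    obtain ⟨b, hb, hrb⟩ := List.mem_flatMap.1 hr
    have hmem : r ∈ (invBuckets.filter fun b => b.1 == eCode r % 512).flatMap Prod.snd :=
      List.mem_flatMap.2 ⟨b, List.mem_filter.2 ⟨hb, beq_iff_eq.2 (bucket_spec b hb r hrb).symm⟩, hrb⟩
    exact absurd (beq_self_eq_true (eCode r)) (List.find?_eq_none.1 e r hmem)
  | some r =>
    have hm := List.mem_of_find?_eq_some e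
    obtain ⟨b, hb, hrb⟩ := List.mem_flatMap.1 hm
    have hr : r ∈ invTab := List.mem_flatMap.2 ⟨b, (List.mem_filter.1 hb).1, hrb⟩
    have hxe : eCode r = x := beq_iff_eq.1 (List.find?_some e :)
    rw [← hxe, fused_iff hψ hr]
    simp [lab, rCls_lt]

/-- The conjugates of `t` commuting with `p` and `q` whose product with `w` is one as well. -/
noncomputable def pairN (t p q w : G) : ℕ :=
  Nat.card {s : G // IsConj t s ∧ p * s = s * p ∧ q * s = s * q ∧ IsConj t (s * w)}

theorem pairN_conj (t p q w g : G) :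
    pairN t p q w = pairN t (g * p * g⁻¹) (g * q * g⁻¹) (g * w * g⁻¹) := by
  have key : ∀ {a b : G}, a * b = b * a ↔
      (g * a * g⁻¹) * (g * b * g⁻¹) = (g * b * g⁻¹) * (g * a * g⁻¹) := fun {a b} => by
    simp only [← MulAut.conj_apply, ← map_mul, EmbeddingLike.apply_eq_iff_eq]
  have hc : ∀ a : G, IsConj t a ↔ IsConj t (g * a * g⁻¹) := fun a =>
    ⟨fun h => h.trans (isConj_iff.2 ⟨g, rfl⟩), fun h => h.trans (isConj_iff.2 ⟨g, rfl⟩).symm⟩
  refine Nat.card_congr ((MulAut.conj g).toEquiv.subtypeEquiv fun s => ?_)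
  show _ ↔ IsConj t (g * s * g⁻¹) ∧ _ = _ ∧ _ = _ ∧ IsConj t (g * s * g⁻¹ * (g * w * g⁻¹))
  rw [show g * s * g⁻¹ * (g * w * g⁻¹) = g * (s * w) * g⁻¹ by group]
  exact and_congr (hc s) (and_congr key (and_congr key (hc _)))

theorem mult_valid : ∀ k < 5, ∀ d < 3, hvalid (mult k d) = true := by decide +kernel

theorem sel_spec (a b c : ℕ) (ha : a < 16) (hb : b < 16) (hc : c < 16) :
    sel 0 (a + 16 * b + 256 * c) = a ∧ sel 1 (a + 16 * b + 256 * c) = b ∧
      sel 2 (a + 16 * b + 256 * c) = c := by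
  simp only [sel, Nat.shiftRight_eq_div_pow]
  norm_num
  omega

theorem fcls_lt (x : ℕ) : fcls x < 16 := by
  unfold fcls
  cases ((invBuckets.filter fun b => b.1 == x % 512).flatMap Prod.snd).find?
      fun r => eCode r == x with
  | none => norm_num
  | some r => exact lt_trans (rCls_lt r) (by norm_num)

theorem pairN_eq (ht : orderOf t = 2) (hψ : IsFrame t ψ) {k d : ℕ} (hk : k < 5) (hd : d < 3) :
    pairN t (ψ (reps.getD k 0)) t (ψ (mult k d)) = cnt (lab t ψ) k d := by
  classical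
  set y := reps.getD k 0 with hy
  set w := mult k d with hw
  have hyv : hvalid y = true := mult_valid k hk 1 (by norm_num)
  have hwv : hvalid w = true := mult_valid k hk d hd
  set L := invTab.filter fun r => hmul (eCode r) y == hmul y (eCode r) &&
    (lab t ψ (rCls r) && lab t ψ (fcls (hmul (eCode r) w))) with hL
  have hnd : invTab.Nodup := List.Nodup.of_map _ (List.isChain_iff_pairwise.1 tab_sorted).nodup
  have hone : ∀ r ∈ invTab, hmul (eCode r) hOne = eCode r := fun r hr => by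
    have hv := (tab_spec r hr).1
    exact hψ.inj _ _ (Swap.hvalid_hmul hv (by decide)) hv
      (by rw [hψ.map_mul _ _ hv (by decide), Swap.ψ_one hψ, mul_one])
  have hcount : cnt (lab t ψ) k d = L.length := by
    rw [cnt, ← rowsOf_eq k hk, rowsOf, List.countP_map, List.countP_eq_length_filter,
      List.filter_filter, hL]
    refine congrArg List.length (List.filter_congr fun r hr => ?_)
    obtain ⟨s0, s1, s2⟩ := sel_spec (rCls r) (fcls (hmul (eCode r) (mult k 1)))
      (fcls (hmul (eCode r) (mult k 2))) (lt_trans (rCls_lt r) (by norm_num)) (fcls_lt _) (fcls_lt _)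
    simp only [Function.comp_apply, s0, hy]
    rw [Bool.and_comm]
    congr 2
    interval_cases d
    · rw [s0, hw, Bool.eq_iff_iff]
      show lab t ψ (rCls r) = true ↔ lab t ψ (fcls (hmul (eCode r) hOne)) = true
      rw [hone r hr, ← fcls_spec ht hψ (tab_spec r hr).1, fused_iff hψ hr]
      simp [lab, rCls_lt]
    · rw [s1, hw]
    · rw [s2, hw]
  rw [hcount, ← List.toFinset_card_of_nodup (hnd.filter _), ← Nat.card_eq_finsetCard, pairN]
  have hmem : ∀ r : L.toFinset, r.1 ∈ invTab ∧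
      hmul (eCode r.1) y = hmul y (eCode r.1) ∧ IsConj t (ψ (eCode r.1)) ∧
      IsConj t (ψ (eCode r.1) * ψ w) := by
    intro r
    have h := List.mem_toFinset.1 r.2
    simp only [hL, List.mem_filter, Bool.and_eq_true, beq_iff_eq] at h
    obtain ⟨hr, he, h1, h2⟩ := h
    have hv := (tab_spec r.1 hr).1
    simp only [lab, Bool.and_eq_true] at h1
    refine ⟨hr, he, (fused_iff hψ hr).2 h1.2, ?_⟩
    rw [← hψ.map_mul _ _ hv hwv, fcls_spec ht hψ (Swap.hvalid_hmul hv hwv)]
    exact h2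
  refine (Nat.card_eq_of_bijective (fun r : L.toFinset =>
    (⟨ψ (eCode r.1), (hmem r).2.2.1, ((Swap.mul_eq_iff hψ hyv (tab_spec _ (hmem r).1).1
      (tab_spec _ (hmem r).1).1 hyv).2 (hmem r).2.1.symm),
      (Swap.ψ_comm_t hψ (tab_spec _ (hmem r).1).1).symm, (hmem r).2.2.2⟩ :
      {s : G // IsConj t s ∧ ψ y * s = s * ψ y ∧ t * s = s * t ∧ IsConj t (s * ψ w)}))
    ⟨?_, ?_⟩).symm
  · intro p q h
    exact Subtype.ext (code_injOn (hmem p).1 (hmem q).1
      (hψ.inj _ _ (tab_spec _ (hmem p).1).1 (tab_spec _ (hmem q).1).1 (congrArg Subtype.val h)))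
  · rintro ⟨s, hs, hsy, hst, hsw⟩
    obtain ⟨x, hx, rfl⟩ := Swap.code_of_comm hψ hst.symm
    obtain ⟨r, hr, rfl⟩ := exists_row ht hψ hx hs
    refine ⟨⟨r, List.mem_toFinset.2 ?_⟩, rfl⟩
    simp only [hL, List.mem_filter, Bool.and_eq_true, beq_iff_eq]
    refine ⟨hr, ((Swap.mul_eq_iff hψ hyv hx hx hyv).1 hsy).symm, ?_, ?_⟩
    · simp [lab, rCls_lt, (fused_iff hψ hr).1 hs]
    · rw [← fcls_spec ht hψ (Swap.hvalid_hmul hx hwv), hψ.map_mul _ _ hx hwv]
      exact hsw

theorem fused_seven (hψ : IsFrame t ψ) : fused t ψ 7 = true := by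
  simp only [fused, decide_eq_true_eq]
  rw [show reps.getD 7 0 = hZ from rfl, hψ.map_z]

/-- The classes five and six are never fused. -/
theorem fused_high (ht : orderOf t = 2) (hψ : IsFrame t ψ) :
    fused t ψ 5 = false ∧ fused t ψ 6 = false := by
  simp only [fused, decide_eq_false_iff_not]
  exact ⟨Swap.not_conj_fifth ht hψ, Swap.not_conj_sixth ht hψ⟩

/-- Exchange a fused representative with `t`. -/
theorem exchange (ht : orderOf t = 2) (hψ : IsFrame t ψ) {k : ℕ} (hk : k < 5)
    (hf : fused t ψ k = true) : ∃ (g : G) (j : ℕ), j < 5 ∧ fused t ψ j = true ∧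
      g * ψ (reps.getD k 0) * g⁻¹ = t ∧ g * t * g⁻¹ = ψ (reps.getD j 0) := by
  simp only [fused, decide_eq_true_eq] at hf
  obtain ⟨h, hh⟩ := isConj_iff.1 hf.symm
  have hyv : hvalid (reps.getD k 0) = true := mult_valid k hk 1 (by norm_num)
  have hst : (h * t * h⁻¹) * t = t * (h * t * h⁻¹) := by
    conv_lhs => arg 2; rw [← hh]
    conv_rhs => arg 1; rw [← hh]
    exact Swap.comm_of_eq_conj (Swap.ψ_comm_t hψ hyv).symm
  obtain ⟨x, hx, hxe⟩ := Swap.code_of_comm hψ hst
  have hc : IsConj t (ψ x) := by rw [hxe]; exact isConj_iff.2 ⟨h, rfl⟩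
  obtain ⟨r, hr, rfl⟩ := exists_row ht hψ hx hc
  obtain ⟨h1, h2, h3, h4⟩ := tab_spec r hr
  have he := (Swap.mul_eq_iff hψ h2 h1 h3 h2).2 h4
  have hfj := (fused_iff hψ hr).1 hc
  have e1 : ψ (rCjg r) * h * ψ (reps.getD k 0) * (ψ (rCjg r) * h)⁻¹ = t := by
    calc _ = ψ (rCjg r) * (h * ψ (reps.getD k 0) * h⁻¹) * (ψ (rCjg r))⁻¹ := by group
      _ = t * ψ (rCjg r) * (ψ (rCjg r))⁻¹ := by rw [hh, Swap.ψ_comm_t hψ h2]
      _ = t := mul_inv_cancel_right _ _
  have e2 : ψ (rCjg r) * h * t * (ψ (rCjg r) * h)⁻¹ = ψ (reps.getD (rCls r) 0) := by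
    calc _ = ψ (rCjg r) * (h * t * h⁻¹) * (ψ (rCjg r))⁻¹ := by group
      _ = _ := by rw [← hxe, he, mul_inv_cancel_right]
  refine ⟨_, rCls r, ?_, hfj, e1, e2⟩
  have h8 := rCls_lt r
  obtain ⟨f5, f6⟩ := fused_high ht hψ
  by_contra hcon
  obtain h7 | h7 | h7 : rCls r = 5 ∨ rCls r = 6 ∨ rCls r = 7 := by omega
  · rw [h7, f5] at hfj; exact Bool.false_ne_true hfj
  · rw [h7, f6] at hfj; exact Bool.false_ne_true hfj
  · rw [h7, show reps.getD 7 0 = hZ from rfl, hψ.map_z] at e2
    have e3 : ψ (reps.getD k 0) = t := by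
      have := e1.trans e2.symm
      exact mul_left_cancel (mul_right_cancel this)
    rw [← hψ.map_z] at e3
    have hne : ∀ k < 5, reps.getD k 0 ≠ hZ := by decide +kernel
    exact hne k hk (hψ.inj _ _ hyv (by decide) e3)

/-- **The possible fusion patterns**: of the seven classes only these sets can consist of
conjugates of `t`. -/
theorem fusion_patterns (ht : orderOf t = 2) (hψ : IsFrame t ψ) :
    bits (fused t ψ) ∈ patterns ∧ fused t ψ 5 = false ∧ fused t ψ 6 = false := by
  obtain ⟨f5, f6⟩ := fused_high ht hψ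
  refine ⟨?_, f5, f6⟩
  have hP : lab t ψ = pat5 (fused t ψ 0) (fused t ψ 1) (fused t ψ 2) (fused t ψ 3) (fused t ψ 4) := by
    funext k
    by_cases h : k < 8
    · interval_cases k <;> simp [lab, pat5, f5, f6, fused_seven hψ]
    · simp [lab, pat5, h]
  have key : ∀ k < 5, lab t ψ k = true → ∃ j < 5, lab t ψ j = true ∧
      cnt (lab t ψ) k 0 = cnt (lab t ψ) j 0 ∧ cnt (lab t ψ) k 1 = cnt (lab t ψ) j 2 ∧
      cnt (lab t ψ) k 2 = cnt (lab t ψ) j 1 := by
    intro k hk hkf
    simp only [lab, Bool.and_eq_true] at hkf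
    obtain ⟨g, j, hj, hjf, e1, e2⟩ := exchange ht hψ hk hkf.2
    have h8 : j < 8 := by omega
    refine ⟨j, hj, by simp [lab, h8, hjf], ?_⟩
    have key : ∀ v v', g * v * g⁻¹ = v' →
        pairN t (ψ (reps.getD k 0)) t v = pairN t (ψ (reps.getD j 0)) t v' := by
      intro v v' hv
      rw [pairN_conj t _ t v g, e1, e2, hv]
      exact Nat.card_congr (Equiv.subtypeEquivRight fun s => and_congr_right fun _ =>
        and_left_comm)
    have p0 := key (ψ (mult k 0)) (ψ (mult j 0)) (by simp [mult, Swap.ψ_one hψ])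
    have p1 := key (ψ (mult k 1)) (ψ (mult j 2)) (by simp only [mult]; rw [hψ.map_z]; exact e1)
    have p2 := key (ψ (mult k 2)) (ψ (mult j 1)) (by simp only [mult]; rw [hψ.map_z]; exact e2)
    refine ⟨?_, ?_, ?_⟩
    · rw [← pairN_eq ht hψ hk (by norm_num), ← pairN_eq ht hψ hj (by norm_num)]; exact p0
    · rw [← pairN_eq ht hψ hk (by norm_num), ← pairN_eq ht hψ hj (by norm_num)]; exact p1
    · rw [← pairN_eq ht hψ hk (by norm_num), ← pairN_eq ht hψ hj (by norm_num)]; exact p2
  rw [hP] at key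
  have h := pattern_search _ _ _ _ _ key
  simpa [bits, pat5, List.range_succ] using h

end CfsgLib.InvChar.HeRec.Tri
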