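import Cfsg.Agent.Lib.InvChar.HeRec.Trichotomy.M24.Group
import Cfsg.Agent.Lib.InvChar.HeRec.Trichotomy.Fusion
import Cfsg.Agent.Lib.InvChar.HeRec.Swap
import Cfsg.Agent.Lib.InvChar.HeRec.FusionExtra
import Cfsg.Agent.Lib.InvChar.SporHeClasses
import Cfsg.Agent.Lib.InvChar.SporHeSimple

/-!
# The gluing subgroup in the patterns of `M24` and of Held's group

A swap exists, its triangle values are those of Held's group or those of `M24`, and fusion tells
which.
-/

set_option autoImplicit false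
set_option maxRecDepth 100000
set_option linter.unusedSectionVars false

namespace CfsgLib.InvChar.HeRec.Tri

open CfsgLib.InvChar.Coset CfsgLib.InvChar.SporHeInvol Cfsg Cfsg.Spor Fus

variable {G : Type*} [Group G] [Finite G] {t : G} {ψ : ℕ → G}

theorem tab_codes : (∃ r ∈ invTab, eCode r = hZY ∧ rCls r = 1) ∧
    ∃ r ∈ invTab, eCode r = 58129 ∧ rCls r = 5 := by
  decide +kernel

theorem bits_components {b₀ b₁ b₂ b₃ b₄ : Bool} (hb : bits (fused t ψ) = [b₀, b₁, b₂, b₃, b₄]) :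
    fused t ψ 0 = b₀ ∧ fused t ψ 1 = b₁ ∧ fused t ψ 2 = b₂ ∧ fused t ψ 3 = b₃ ∧ fused t ψ 4 = b₄ := by
  simpa [bits, List.range_succ] using hb

theorem conj_of_fused {k : ℕ} (h : fused t ψ k = true) : IsConj t (ψ (reps.getD k 0)) := by
  simpa [fused] using h

theorem exists_triangle (ht : orderOf t = 2) (hψ : IsFrame t ψ) (h1 : fused t ψ 1 = true) :
    ∃ n, IsSwap ψ n ∧ ((∀ r ∈ baseRels 0 0 0, wprod (gl ψ n) r = 1) ∨
      ∀ r ∈ baseRels 0 2 1, wprod (gl ψ n) r = 1) := by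
  obtain ⟨r, hr, hr1, hr2⟩ := tab_codes.1
  have hy : IsConj t (ψ hY) := conj_of_fused h1
  have hzy : IsConj t (ψ hZY) := hr1 ▸ (fused_iff hψ hr).2 (hr2 ▸ h1)
  obtain ⟨n, hn⟩ := exists_swap ht ψ hψ hy hzy
  exact ⟨n, hn, triangle_values hψ hn⟩

theorem exists_embed (ht : orderOf t = 2) (hψ : IsFrame t ψ) {n : G} (hn : n * n = 1)
    (hb : ∀ r ∈ baseRels 0 0 0, wprod (gl ψ n) r = 1) :
    ∃ φ : He →* G, Function.Injective φ ∧ φ (SporHe.gen 4) = t ∧
      Subgroup.centralizer ({t} : Set G) ≤ φ.range := by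
  obtain ⟨hsq, hrel⟩ := genIm_rels hψ hn hb
  obtain ⟨φ, hφ⟩ := SporHe.pres.exists_hom (genIm ψ n) (fun k => (lt_or_ge k 7).elim (hsq k) fun hk => by
    rw [genIm, List.getD_eq_default _ _ (le_trans (le_of_eq (by decide : Data.imW.length = 7)) hk)]
    exact mul_one _) hrel
  have e4 : φ (SporHe.gen 4) = t := by
    rw [hφ 4 (by norm_num), genIm, wprod_gl_fold hψ shape_ok.2.2.1, hψ.map_z]
  have : IsSimpleGroup He := SporHe.isSimpleGroup
  have : Finite He := SporHe.card_le.1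
  have hinj : Function.Injective φ := by
    rw [← MonoidHom.ker_eq_bot_iff]
    refine φ.normal_ker.eq_bot_or_eq_top.resolve_right fun h => ?_
    rw [MonoidHom.ker_eq_top_iff] at h
    rw [h, MonoidHom.one_apply] at e4
    rw [← e4, orderOf_one] at ht
    norm_num at ht
  refine ⟨φ, hinj, e4, ?_⟩
  have hle : (Subgroup.centralizer ({SporHe.gen 4} : Set He)).map φ ≤
      Subgroup.centralizer ({t} : Set G) := by
    rintro _ ⟨c, hc, rfl⟩
    have hc := Subgroup.mem_centralizer_singleton_iff.1 hc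
    rw [Subgroup.mem_centralizer_singleton_iff, ← e4, ← map_mul, hc, map_mul]
  have he : (Subgroup.centralizer ({SporHe.gen 4} : Set He)).map φ =
      Subgroup.centralizer ({t} : Set G) := by
    refine Subgroup.eq_of_le_of_card_ge hle ?_
    rw [Subgroup.card_map_of_injective hinj, Fus.card_cent hψ, card_centralizer_eq]
  rw [← he]
  rintro _ ⟨c, -, rfl⟩
  exact ⟨c, rfl⟩

/-- With the Held values of the triangles the second class of 168 is fused. -/
theorem fused_three_of_held (ht : orderOf t = 2) (hψ : IsFrame t ψ) (φ : He →* G)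
    (hinj : Function.Injective φ) (h4 : φ (SporHe.gen 4) = t)
    (hle : Subgroup.centralizer ({t} : Set G) ≤ φ.range) : IsConj t (ψ 4257) := by
  classical
  have : Finite He := SporHe.card_le.1
  have hpre : ∀ x, hvalid x = true → ∃ h : He, φ h = ψ x := fun x hx =>
    MonoidHom.mem_range.1 (hle (hψ.mul_mem hx))
  choose f hf using hpre
  let θ : ℕ → He := fun x => if h : hvalid x = true then f x h else 1
  have hθ : ∀ x, hvalid x = true → φ (θ x) = ψ x := fun x hx => by
    simp only [θ, dif_pos hx]; exact hf x hx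
  have h2 : orderOf (SporHe.gen 4) = 2 := by rw [← orderOf_injective φ hinj, h4, ht]
  have hθf : IsFrame (SporHe.gen 4) θ := by
    refine ⟨fun x y hx hy => hinj ?_, fun x y hx hy e => hψ.inj x y hx hy ?_, fun g => ?_,
      hinj ((hθ hZ (by decide)).trans (hψ.map_z.trans h4.symm))⟩
    · rw [map_mul, hθ x hx, hθ y hy, hθ _ (Swap.hvalid_hmul hx hy), hψ.map_mul x y hx hy]
    · rw [← hθ x hx, ← hθ y hy, e]
    · rw [Subgroup.mem_centralizer_singleton_iff]
      constructor
      · intro hg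
        obtain ⟨x, hx, e⟩ := (hψ.mem_iff (φ g)).1 (by
          rw [Subgroup.mem_centralizer_singleton_iff, ← h4, ← map_mul, hg, map_mul])
        exact ⟨x, hx, hinj ((hθ x hx).trans e)⟩
      · rintro ⟨x, hx, rfl⟩
        apply hinj
        rw [map_mul, map_mul, h4, hθ x hx, Swap.ψ_comm_t hψ hx]
  have hne : SporHe.gen 0 ≠ (1 : He) := fun h => by
    have hg := hθ 5393 (by decide +kernel)
    have hord : θ 5393 * θ 5393 = 1 ∧ θ 5393 ≠ 1 := by
      refine ⟨hinj ?_, fun e => ?_⟩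
      · rw [map_mul, hg, _root_.map_one, Swap.ψ_mul_eq hψ (by decide +kernel) (by decide +kernel)
          (show hmul 5393 5393 = hOne by decide +kernel), Swap.ψ_one hψ]
      · rw [e, _root_.map_one, ← Swap.ψ_one hψ] at hg
        exact absurd (hψ.inj _ _ (by decide) (by decide +kernel) hg) (by decide)
    rcases invol_classes _ hord.1 hord.2 with hc | hc
    · rw [h] at hc; exact hord.2 (isConj_one_right.1 hc.symm)
    · have := (φ.map_isConj hc).symm
      rw [hg, h4] at this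
      exact Swap.not_conj_fifth ht hψ this
  have h02 : orderOf (SporHe.gen 0) = 2 :=
    orderOf_eq_prime (by rw [pow_two, SporHe.gen_mul_self]) hne
  have htwo : ∃ x y : He, orderOf x = 2 ∧ orderOf y = 2 ∧ ¬ IsConj x y ∧
      ∀ z : He, orderOf z = 2 → IsConj z x ∨ IsConj z y :=
    ⟨_, _, h02, h2, not_conj_a_e, fun z hz => invol_classes z
      (by rw [← pow_two, ← hz, pow_orderOf_eq_one]) fun e => by
        rw [e, orderOf_one] at hz; norm_num at hz⟩
  have := φ.map_isConj (fusion_extra h2 SporHe.card_eq.1 htwo hθf).1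
  rwa [h4, hθ 4257 (by decide +kernel)] at this

/-- **The pattern of Held's group.** -/
theorem he_glue (ht : orderOf t = 2) (hψ : IsFrame t ψ)
    (hb : Tri.bits (Fus.fused t ψ) = [true, true, true, true, true]) :
    ∃ G₀ : Subgroup G, Subgroup.centralizer ({t} : Set G) ≤ G₀ ∧
      (∀ k < 5, Fus.fused t ψ k = true → ∃ h ∈ G₀, h * t * h⁻¹ = ψ (Fus.reps.getD k 0)) ∧
      Spor.IsoHe G₀ := by
  obtain ⟨-, h1, -, h3, -⟩ := bits_components hb
  obtain ⟨-, f5, -⟩ := fusion_patterns ht hψ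
  obtain ⟨n, hn, hv⟩ := exists_triangle ht hψ h1
  rcases hv with hv | hv
  swap
  · obtain ⟨r, hr, hr1, hr2⟩ := tab_codes.2
    refine (not_mathieu hψ hn.sq hv (conj_of_fused h3) fun h => ?_).elim
    rw [← hr1, fused_iff hψ hr, hr2, f5] at h
    exact Bool.false_ne_true h
  obtain ⟨φ, hinj, h4, hle⟩ := exists_embed ht hψ hn.sq hv
  refine ⟨φ.range, hle, fun k hk hf => ?_, ⟨(MonoidHom.ofInjective hinj).symm⟩⟩
  have hinv : ∀ y : G, y ∈ φ.range → y * y = 1 → y ≠ 1 → IsConj t y →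
      (¬ IsConj t (φ (SporHe.gen 0))) → ∃ h ∈ φ.range, h * t * h⁻¹ = y := by
    rintro _ ⟨g, rfl⟩ hg hg1 hcy hno
    rcases invol_classes g (hinj (by rw [map_mul, hg, _root_.map_one]))
      (fun e => hg1 (by rw [e, _root_.map_one])) with hc | hc
    · exact absurd (hcy.trans (φ.map_isConj hc)) hno
    · obtain ⟨c, hc⟩ := isConj_iff.1 hc.symm
      exact ⟨φ c, ⟨c, rfl⟩, by rw [← h4, ← hc, map_mul, map_mul, map_inv]⟩
  have hrep : ∀ j < 8, ψ (reps.getD j 0) ∈ φ.range ∧ ψ (reps.getD j 0) * ψ (reps.getD j 0) = 1 ∧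
      ψ (reps.getD j 0) ≠ 1 := by
    intro j hj
    have hv := Fus.reps_valid j hj
    obtain ⟨e1, e2⟩ := Fus.reps_order j hj
    refine ⟨hle (hψ.mul_mem hv), ?_, fun e => e2 (hψ.inj _ _ hv (by decide) (e.trans hψ.map_one.symm))⟩
    rw [Swap.ψ_mul_eq hψ hv hv e1, hψ.map_one]
  obtain ⟨m1, m2, m3⟩ := hrep k (by omega)
  refine hinv _ m1 m2 m3 (conj_of_fused hf) fun hno => ?_
  obtain ⟨⟨g, hg⟩, p2, p3⟩ := hrep 5 (by norm_num)
  have hnot : ¬ IsConj t (ψ (reps.getD 5 0)) := @of_decide_eq_false _ (_) f5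
  rw [← hg] at p2 p3 hnot
  rcases invol_classes g (hinj (by rw [map_mul, p2, _root_.map_one])) (fun e => p3 (by rw [e, _root_.map_one]))
    with hc | hc
  · exact hnot (hno.trans (φ.map_isConj hc).symm)
  · exact hnot (h4 ▸ (φ.map_isConj hc).symm)

/-- **The pattern of `M24`.** -/
theorem m24_glue (ht : orderOf t = 2) (hψ : IsFrame t ψ)
    (hb : Tri.bits (Fus.fused t ψ) = [true, true, true, false, true]) :
    ∃ G₀ : Subgroup G, Subgroup.centralizer ({t} : Set G) ≤ G₀ ∧
      (∀ k < 5, Fus.fused t ψ k = true → ∃ h ∈ G₀, h * t * h⁻¹ = ψ (Fus.reps.getD k 0)) ∧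
      Nonempty (G₀ ≃* M24) := by
  obtain ⟨-, h1, -, h3, -⟩ := bits_components hb
  obtain ⟨n, hn, hv⟩ := exists_triangle ht hψ h1
  rcases hv with hv | hv
  · obtain ⟨φ, hinj, h4, hle⟩ := exists_embed ht hψ hn.sq hv
    have := fused_three_of_held ht hψ φ hinj h4 hle
    exact absurd this (@of_decide_eq_false _ (_) h3)
  obtain ⟨hiso, hcent⟩ := TriM.closure_equiv ht hψ hn.sq hv
  refine ⟨_, hcent, fun k hk hf => TriM.exists_conj hψ hn.sq hv hk ?_, hiso⟩
  rintro rfl
  simp [h3] at hf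

end CfsgLib.InvChar.HeRec.Tri
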