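import Cfsg.Agent.Lib.InvChar.HeRec.Trichotomy.L5Parabolic

/-!
# The affine patterns

The normaliser of the column group is the stabiliser of a non-zero vector in `SL(5, 2)`; it contains the
centraliser of `t` and realises the fused class of the pattern.
-/

set_option autoImplicit false
set_option maxRecDepth 100000

namespace CfsgLib.InvChar.HeRec.Tri

open Subgroup Matrix CfsgLib.Mathieu

attribute [local irreducible] cSL

/-- The first basis vector. -/
def e0 : Fin 5 → ZMod 2 := ![1, 0, 0, 0, 0]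

/-- The matrices fixing the first basis vector. -/
abbrev ColSub : Subgroup SL5 := MulAction.stabilizer SL5 e0

theorem mem_ColSub {M : SL5} : M ∈ ColSub ↔ (M : M5) *ᵥ e0 = e0 := Iff.rfl

theorem sigM_mulVec (M : SL5) (i : Fin 5) :
    ((sigM M : SL5) : M5).mulVec e0 i = vecMul e4 ((M⁻¹ : SL5) : M5) i.rev := by
  rw [sigM_coe]
  fin_cases i <;> simp [revT, e0, e4, Matrix.mulVec, Matrix.vecMul, dotProduct, Fin.sum_univ_five]

/-- The graph automorphism interchanges the two parabolic subgroups. -/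
theorem sigM_mem_ColSub {M : SL5} : sigM M ∈ ColSub ↔ M ∈ RowSub := by
  have e : ∀ i : Fin 5, e4 i.rev = e0 i := by decide +kernel
  rw [mem_ColSub, ← inv_mem_iff (H := RowSub), mem_RowSub]
  refine ⟨fun h => funext fun i => ?_, fun h => funext fun i => ?_⟩
  · have := congrFun h i.rev
    rwa [sigM_mulVec, Fin.rev_rev, ← e, Fin.rev_rev] at this
  · rw [sigM_mulVec, h, e]

theorem sl_comm {M : SL5} {x y : ℕ} (hx : hvalid x = true) (hy : hvalid y = true)
    (h : (M : M5) * cMat x = cMat y * (M : M5)) : M * cSL x = cSL y * M :=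
  Subtype.ext (by rw [Matrix.SpecialLinearGroup.coe_mul, Matrix.SpecialLinearGroup.coe_mul, cSL_coe hx, cSL_coe hy, h])

/-- The matrix exchanging two coordinates. -/
def swM (a b : Fin 5) : M5 := fun i j => if Equiv.swap a b i = j then 1 else 0

theorem swM_det : (swM 0 1).det = 1 ∧ (swM 0 3).det = 1 ∧ (swM 1 4).det = 1 ∧ (swM 3 4).det = 1 := by
  decide +kernel

/-- Exchange of the coordinates `0` and `1`. -/
def w01 : SL5 := ⟨swM 0 1, swM_det.1⟩

/-- Exchange of the coordinates `0` and `3`. -/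
def w03 : SL5 := ⟨swM 0 3, swM_det.2.1⟩

variable {G : Type*} [Group G] {t : G} {ψ : ℕ → G}

/-- A subgroup of `G × SL5` that is a graph over its projections and extends the frame. -/
structure IsPart (ψ : ℕ → G) (Γ : Subgroup (G × SL5)) : Prop where
  code : ∀ x, hvalid x = true → (ψ x, cSL x) ∈ Γ
  inj_fst : ∀ g, (g, (1 : SL5)) ∈ Γ → g = 1
  inj_snd : ∀ M, ((1 : G), M) ∈ Γ → M = 1

theorem ParGlue.isPart (P : ParGlue ψ) : IsPart ψ P.graph := ⟨P.code, P.inj_fst, P.inj_snd⟩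

namespace IsPart

variable {Γ : Subgroup (G × SL5)}

theorem eq_of_snd (h : IsPart ψ Γ) {g g' : G} {M : SL5} (hg : (g, M) ∈ Γ) (hg' : (g', M) ∈ Γ) : g = g' := by
  have h1 : ((g * g'⁻¹, (1 : SL5)) : G × SL5) ∈ Γ := by
    simpa using mul_mem hg (inv_mem hg')
  exact mul_inv_eq_one.1 (h.inj_fst _ h1)

theorem eq_of_fst (h : IsPart ψ Γ) {g : G} {M M' : SL5} (hg : (g, M) ∈ Γ) (hg' : (g, M') ∈ Γ) : M = M' := by
  have h1 : (((1 : G), M * M'⁻¹) : G × SL5) ∈ Γ := by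
    simpa using mul_mem hg (inv_mem hg')
  exact mul_inv_eq_one.1 (h.inj_snd _ h1)

theorem move (h : IsPart ψ Γ) {g : G} {M : SL5} (hg : (g, M) ∈ Γ) {x y : ℕ} (hx : hvalid x = true)
    (hy : hvalid y = true) (e : M * cSL x = cSL y * M) : g * ψ x = ψ y * g := by
  refine h.eq_of_snd (M := M * cSL x) (mul_mem hg (h.code x hx)) ?_
  rw [e]
  exact mul_mem (h.code y hy) hg

theorem move_conj (h : IsPart ψ Γ) {g : G} {M : SL5} (hg : (g, M) ∈ Γ) {x y : ℕ} (hx : hvalid x = true)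
    (hy : hvalid y = true) (e : M * cSL x = cSL y * M) : g * ψ x * g⁻¹ = ψ y :=
  mul_inv_eq_iff_eq_mul.2 (h.move hg hx hy e)

theorem cent_le (h : IsPart ψ Γ) (hψ : IsFrame t ψ) :
    centralizer ({t} : Set G) ≤ Γ.map (MonoidHom.fst G SL5) := fun g hg => by
  obtain ⟨x, hx, rfl⟩ := (hψ.mem_iff g).1 hg
  exact ⟨_, h.code x hx, rfl⟩

/-- The two projections. -/
theorem equiv (h : IsPart ψ Γ) (H : Subgroup SL5) (hmem : ∀ p ∈ Γ, p.2 ∈ H) (hsurj : ∀ M ∈ H, ∃ g, (g, M) ∈ Γ) :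
    Nonempty (Γ.map (MonoidHom.fst G SL5) ≃* H) := by
  have b1 : Function.Bijective ((MonoidHom.fst G SL5).subgroupMap Γ) := by
    refine ⟨fun p q e => ?_, MonoidHom.subgroupMap_surjective _ _⟩
    obtain ⟨⟨g, M⟩, hp⟩ := p
    obtain ⟨⟨g', M'⟩, hq⟩ := q
    obtain rfl : g = g' := congrArg Subtype.val e
    obtain rfl := h.eq_of_fst hp hq
    rfl
  let f : Γ →* H := ((MonoidHom.snd G SL5).comp Γ.subtype).codRestrict H fun p => hmem _ p.2
  have b2 : Function.Bijective f := by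
    refine ⟨fun p q e => ?_, fun M => ?_⟩
    · obtain ⟨⟨g, M⟩, hp⟩ := p
      obtain ⟨⟨g', M'⟩, hq⟩ := q
      obtain rfl : M = M' := congrArg Subtype.val e
      obtain rfl := h.eq_of_snd hp hq
      rfl
    · obtain ⟨g, hg⟩ := hsurj _ M.2
      exact ⟨⟨_, hg⟩, rfl⟩
  exact ⟨(MulEquiv.ofBijective _ b1).symm.trans (MulEquiv.ofBijective f b2)⟩

theorem exists_conj (h : IsPart ψ Γ) (hψ : IsFrame t ψ) {M : SL5} (hM : ∃ g, (g, M) ∈ Γ) {y : ℕ}
    (hy : hvalid y = true) (e : M * cSL hZ = cSL y * M) :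
    ∃ g ∈ Γ.map (MonoidHom.fst G SL5), g * t * g⁻¹ = ψ y := by
  obtain ⟨g, hg⟩ := hM
  refine ⟨g, ⟨_, hg, rfl⟩, ?_⟩
  rw [← h.move_conj hg valid_z' hy e, hψ.map_z]

end IsPart

theorem bits_get {P : ℕ → Bool} {l : List Bool} (h : bits P = l) {k : ℕ} (hk : k < 5) :
    P k = l.getD k false := by
  subst h
  simp [bits, hk]

theorem reps_valid5 {k : ℕ} (hk : k < 5) : hvalid (Fus.reps.getD k 0) = true := Fus.reps_valid k (by omega)

variable [Finite G]

/-- The stabiliser of a vector from one normaliser. -/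
theorem affine_core (ht : orderOf t = 2) (hψ : IsFrame t ψ) (h1 : Fus.fused t ψ 1 = false)
    (h2 : Fus.fused t ψ 2 = true) (h3 : Fus.fused t ψ 3 = false) :
    ∃ Γ : Subgroup (G × SL5), IsPart ψ Γ ∧ (∀ p ∈ Γ, p.2 ∈ RowSub) ∧ ∀ M ∈ RowSub, ∃ g, (g, M) ∈ Γ := by
  obtain ⟨g, hg, hgt⟩ := exists_moving ht hψ h1 h2 h3
  obtain ⟨P, -⟩ := exists_parGlue hψ hg hgt
  exact ⟨P.graph, P.isPart, P.row, P.surj⟩

attribute [local irreducible] sigM in
theorem rowSub_equiv_stab : Nonempty (RowSub ≃* ColSub) :=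
  ⟨{ toFun := fun M => ⟨sigM M.1, sigM_mem_ColSub.2 M.2⟩
     invFun := fun M => ⟨sigM M.1, sigM_mem_ColSub.1 (by rw [sigM_sigM]; exact M.2)⟩
     left_inv := fun M => Subtype.ext (sigM_sigM M.1)
     right_inv := fun M => Subtype.ext (sigM_sigM M.1)
     map_mul' := fun M N => Subtype.ext (map_mul sigM M.1 N.1) }⟩

theorem w_check : vecMul e4 (swM 0 1) = e4 ∧ vecMul e4 (swM 0 3) = e4 ∧
    swM 0 1 * cMat hZ = cMat (Fus.reps.getD 2 0) * swM 0 1 ∧ swM 0 3 * cMat hZ = cMat 2321 * swM 0 3 ∧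
    hvalid 2321 = true ∧ sigReps.getD 4 0 = 2321 := by
  decide +kernel

/-- **The affine patterns.** -/
theorem affine_glue (ht : orderOf t = 2) (hψ : IsFrame t ψ)
    (hb : bits (Fus.fused t ψ) = [false, false, true, false, false] ∨
      bits (Fus.fused t ψ) = [false, false, false, false, true]) :
    ∃ G0 : Subgroup G, centralizer ({t} : Set G) ≤ G0 ∧
      (∀ k < 5, Fus.fused t ψ k = true → ∃ h ∈ G0, h * t * h⁻¹ = ψ (Fus.reps.getD k 0)) ∧
      ∃ v : Fin 5 → ZMod 2, v ≠ 0 ∧ Nonempty (G0 ≃* MulAction.stabilizer SL5 v) := by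
  obtain ⟨r01, r03, m2, m4, v4, hs4⟩ := w_check
  have hv : e0 ≠ 0 := by decide
  rcases hb with hb | hb
  · have hk := fun k (hk : k < 5) => bits_get hb hk
    obtain ⟨Γ, hΓ, hrow, hsurj⟩ := affine_core ht hψ (hk 1 (by norm_num)) (hk 2 (by norm_num)) (hk 3 (by norm_num))
    obtain ⟨e⟩ := hΓ.equiv RowSub hrow hsurj
    obtain ⟨e'⟩ := rowSub_equiv_stab
    refine ⟨_, hΓ.cent_le hψ, fun k hk5 hf => ?_, e0, hv, ⟨e.trans e'⟩⟩
    rw [hk k hk5] at hf
    obtain rfl : k = 2 := by interval_cases k <;> simp at hf ⊢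
    exact hΓ.exists_conj hψ (hsurj w01 r01) (reps_valid5 hk5) (sl_comm valid_z' (reps_valid5 hk5) m2)
  · have hψ' := sigC_frame hψ
    have hk := fun k (hk : k < 5) => bits_get hb hk
    have hk' := fun k (hk : k < 5) => bits_get (sigC_bits ht hψ hb) hk
    obtain ⟨Γ, hΓ, hrow, hsurj⟩ :=
      affine_core ht hψ' (hk' 1 (by norm_num)) (hk' 2 (by norm_num)) (hk' 3 (by norm_num))
    obtain ⟨e⟩ := hΓ.equiv RowSub hrow hsurj
    obtain ⟨e'⟩ := rowSub_equiv_stab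
    refine ⟨_, hΓ.cent_le hψ', fun k hk5 hf => ?_, e0, hv, ⟨e.trans e'⟩⟩
    rw [hk k hk5] at hf
    obtain rfl : k = 4 := by interval_cases k <;> simp at hf ⊢
    obtain ⟨g, hg, e1⟩ := hΓ.exists_conj hψ' (hsurj w03 r03) v4 (sl_comm valid_z' v4 m4)
    refine ⟨g, hg, e1.trans ?_⟩
    show ψ (sigC 2321) = ψ (Fus.reps.getD 4 0)
    rw [← hs4, ← sigC_reps hk5, sigC_sigC (reps_valid5 hk5)]

end CfsgLib.InvChar.HeRec.Tri
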