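import Cfsg.Agent.Lib.InvChar.HeRec.Trichotomy.L5Twist

/-!
# The linear pattern

The two parabolic subgroups generate a subgroup isomorphic to `SL(5, 2)`: the union of the first one and its
double coset of the exchange of the last two coordinates is closed under multiplication.
-/

set_option autoImplicit false
set_option maxRecDepth 100000

namespace CfsgLib.InvChar.HeRec.Tri

open Subgroup Matrix CfsgLib.Mathieu

attribute [local irreducible] cSL sigM

/-- The fourth basis vector. -/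
def e3 : Fin 5 → ZMod 2 := ![0, 0, 0, 1, 0]

/-- The matrices fixing a row vector. -/
def rowStab (f : Fin 5 → ZMod 2) : Subgroup SL5 where
  carrier := {M | vecMul f (M : M5) = f}
  one_mem' := by
    show vecMul f ((1 : SL5) : M5) = f
    rw [Matrix.SpecialLinearGroup.coe_one, vecMul_one]
  mul_mem' {M N} hM hN := by
    show vecMul f ((M * N : SL5) : M5) = f
    rw [Matrix.SpecialLinearGroup.coe_mul, ← vecMul_vecMul, show vecMul f (M : M5) = f from hM]
    exact hN
  inv_mem' {M} hM := by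
    show vecMul f ((M⁻¹ : SL5) : M5) = f
    conv_lhs => rw [← (show vecMul f (M : M5) = f from hM)]
    rw [vecMul_vecMul, ← Matrix.SpecialLinearGroup.coe_mul, mul_inv_cancel, Matrix.SpecialLinearGroup.coe_one,
      vecMul_one]

/-- The matrices fixing the last two coordinates. -/
def QSub : Subgroup SL5 := rowStab e3 ⊓ RowSub

theorem mem_QSub {M : SL5} : M ∈ QSub ↔ vecMul e3 (M : M5) = e3 ∧ vecMul e4 (M : M5) = e4 := Iff.rfl

theorem vecMul_inv {f r : Fin 5 → ZMod 2} {M : SL5} (h : vecMul f (M : M5) = r) :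
    vecMul r ((M⁻¹ : SL5) : M5) = f := by
  rw [← h, vecMul_vecMul, ← Matrix.SpecialLinearGroup.coe_mul, mul_inv_cancel, Matrix.SpecialLinearGroup.coe_one,
    vecMul_one]

theorem transv_comm {M : M5} {a b : Fin 5 → ZMod 2} (h1 : M *ᵥ a = a) (h2 : vecMul b M = b) :
    M * (1 + vecMulVec a b) = (1 + vecMulVec a b) * M := by
  rw [mul_add, add_mul, mul_one, one_mul, mul_vecMulVec, vecMulVec_mul, h1, h2]

/-- A matrix in both parabolic subgroups is a code. -/
theorem code_of_both {M : SL5} (hr : M ∈ RowSub) (hc : M ∈ ColSub) : ∃ x, hvalid x = true ∧ cSL x = M := by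
  refine exists_code M (fun i hi => ?_) fun j hj => ?_
  · have h := congrFun (mem_ColSub.1 hc) i
    fin_cases i <;> simp [e0, Matrix.mulVec, dotProduct, Fin.sum_univ_five] at h hi ⊢ <;> exact h
  · have h := congrFun (mem_RowSub.1 hr) j
    fin_cases j <;> simp [e4, Matrix.vecMul, dotProduct, Fin.sum_univ_five] at h hj ⊢ <;> exact h

theorem code_col {x : ℕ} (hx : hvalid x = true) : cSL x ∈ ColSub := by
  obtain ⟨A, u, f, c, rfl, hA, hu, hf, -, -⟩ := of_valid hx
  rw [mem_ColSub, cSL_coe hx, cMat_mk hA hu hf]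
  ext i; fin_cases i <;> simp [fMat, e0, Matrix.mulVec, dotProduct, Fin.sum_univ_five]

theorem code_row {x : ℕ} (hx : hvalid x = true) : cSL x ∈ RowSub := by
  obtain ⟨A, u, f, c, rfl, hA, hu, hf, -, -⟩ := of_valid hx
  rw [mem_RowSub, cSL_coe hx, cMat_mk hA hu hf]
  ext i; fin_cases i <;> simp [fMat, e4, Matrix.vecMul, dotProduct, Fin.sum_univ_five]

/-- The codes carrying the moved transvection to the other row transvections. -/
def colList : List ℕ := [340, 417, 342, 273, 337, 401, 339, 852, 1441, 854, 2321, 849, 1425, 851]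

theorem colList_check : ∀ k < 16, k = 0 ∨ k = 8 ∨ ∃ x ∈ colList, hvalid x = true ∧
    cMat x * cMat 16657 = cMat (fC k) * cMat x := by
  decide +kernel

theorem ePerm_check : ∀ k < 16, (ePerm.getD k 0 = 0 → k = 0) := by decide +kernel

theorem sigM_colT {k : ℕ} (hk : k < 16) : sigM (colT k) = cSL (fC (ePerm.getD k 0)) := by
  obtain ⟨hv, -, hsq, -, hlt, he, -⟩ := eC_check k hk
  rw [colT, ← (sigC_spec hv).2, sigC_invol hv hsq (eC_check _ hlt).2.1 he]

theorem w34_z : w34 * cSL hZ = cSL 16657 * w34 :=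
  sl_comm valid_z' twist_codes.2.2.2.1 twist_codes.2.2.2.2.2.2.2.1

/-- The double cosets of the centraliser in the stabiliser of the first vector. -/
theorem colSub_cases {M : SL5} (hM : M ∈ ColSub) :
    (∃ y, hvalid y = true ∧ cSL y = M) ∨
      ∃ x y, hvalid x = true ∧ hvalid y = true ∧ M = cSL x * w34 * cSL y := by
  have hR : sigM M ∈ RowSub := sigM_mem_ColSub.1 (by rw [sigM_sigM]; exact hM)
  obtain ⟨k, hk, e⟩ := colT_conj hR (show (8 : ℕ) < 16 by norm_num)
  have h8 : colT 8 = cSL hZ := congrArg cSL eC_special.2.1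
  have e' := congrArg sigM e
  rw [map_mul, map_mul, sigM_sigM, sigM_colT hk, h8, sigM_z] at e'
  rcases colList_check _ (eC_check k hk).2.2.2.2.1 with h | h | ⟨x, -, hx, hxe⟩
  · exfalso
    rw [h, eC_special.2.2.2.2.1, cSL_one, one_mul, mul_eq_left, ← cSL_one] at e'
    exact absurd (cSL_inj valid_z' (by decide) e') (by decide)
  · rw [h, eC_special.2.2.2.2.2.1] at e'
    exact Or.inl ((exists_code_iff M).1 e')
  · have hf := (eC_check _ (eC_check k hk).2.2.2.2.1).2.1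
    have hc : cSL x * cSL 16657 = cSL (fC (ePerm.getD k 0)) * cSL x := sl_comm twist_codes.2.2.2.1 hf
      (by rw [cSL_coe hx]; exact hxe)
    obtain ⟨y, hy, ey⟩ := (exists_code_iff ((cSL x * w34)⁻¹ * M)).1 (by
      have h1 : (cSL x * w34) * cSL hZ = cSL (fC (ePerm.getD k 0)) * (cSL x * w34) := by
        rw [mul_assoc, w34_z, ← mul_assoc, hc, mul_assoc]
      rw [mul_assoc, e', eq_mul_inv_of_mul_eq h1.symm]
      group)
    exact Or.inr ⟨x, y, hx, hy, by rw [ey, mul_inv_cancel_left]⟩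

/-- The table of the vectors fixed by the last two coordinates. -/
def qList : List ℕ := [266, 273, 281, 4362, 4369, 4377]

theorem qList_check : ∀ w : Fin 5 → ZMod 2, w 3 = 0 → w 4 = 0 → w ≠ 0 → w = e0 ∨
    ∃ d ∈ qList, hvalid d = true ∧ vecMul e3 (cMat d) = e3 ∧ cMat d *ᵥ ![0, 1, 0, 0, 0] = w := by
  decide +kernel

/-- The table of the row vectors: a code, a flag for the exchange and a code. -/
def rList : List (ℕ × Bool × ℕ) := [
  (273, false, 273), (2321, false, 273), (84, false, 266), (84, false, 778), (84, false, 270), (84, false, 782),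
  (84, false, 273), (84, false, 785), (84, false, 277), (84, false, 789), (84, false, 275), (84, false, 787),
  (84, false, 279), (84, false, 791), (84, true, 273), (84, true, 33041), (84, true, 16657), (84, true, 49425),
  (84, true, 8465), (84, true, 41233), (84, true, 24849), (84, true, 57617), (84, true, 4369), (84, true, 37137),
  (84, true, 20753), (84, true, 53521), (84, true, 12561), (84, true, 45329), (84, true, 28945), (84, true, 61713)]

theorem rList_check : ∀ r : Fin 5 → ZMod 2, (r 0 = 0 ∧ r 1 = 0 ∧ r 2 = 0 ∧ r 3 = 0) ∨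
    ∃ e ∈ rList, hvalid e.1 = true ∧ hvalid e.2.2 = true ∧ vecMul e3 (cMat e.2.2) = e3 ∧
      vecMul e3 (cMat e.1 * (if e.2.1 then swM 0 1 else 1) * cMat e.2.2) = r := by
  decide +kernel

theorem w_mats : vecMul e3 (swM 0 1) = e3 ∧ vecMul e4 (swM 0 1) = e4 ∧ vecMul e4 (swM 3 4) = e3 ∧
    vecMul e3 (swM 3 4) = e4 ∧ swM 3 4 *ᵥ e0 = e0 ∧ swM 0 1 *ᵥ ![0, 1, 0, 0, 0] = e0 ∧
    swM 3 4 * swM 0 1 * swM 3 4 = swM 0 1 ∧ (∀ j < 16, eC j ≠ 16657) ∧ e3 ≠ e4 := by
  decide +kernel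

theorem w01_QSub : w01 ∈ QSub := mem_QSub.2 ⟨w_mats.1, w_mats.2.1⟩

theorem w01_sq : w01 * w01 = 1 := Subtype.ext twist_codes.2.2.2.2.2.2.2.2.1

theorem w34_sq : w34 * w34 = 1 := Subtype.ext twist_codes.2.2.2.2.2.2.2.2.2

theorem w34_col : w34 ∈ ColSub := mem_ColSub.2 w_mats.2.2.2.2.1

theorem w34_comm : w34 * w01 * w34 = w01 := Subtype.ext (by
  rw [Matrix.SpecialLinearGroup.coe_mul, Matrix.SpecialLinearGroup.coe_mul]; exact w_mats.2.2.2.2.2.2.1)

/-- Every row vector outside the line of the last coordinate is hit. -/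
theorem exists_row_word (M : SL5) {f : Fin 5 → ZMod 2}
    (hM : ¬∃ a : ZMod 2, vecMul f (M : M5) = a • e4) :
    ∃ x, hvalid x = true ∧ ∃ q ∈ QSub, vecMul e3 ((cSL x * q : SL5) : M5) = vecMul f (M : M5) := by
  rcases rList_check (vecMul f (M : M5)) with ⟨h0, h1, h2, h3⟩ | ⟨e, -, v1, v2, hd, he⟩
  · refine absurd ⟨vecMul f (M : M5) 4, funext fun i => ?_⟩ hM
    fin_cases i <;> simp [e4, h0, h1, h2, h3]
  · refine ⟨e.1, v1, (if e.2.1 then w01 else 1) * cSL e.2.2, mul_mem ?_ ?_, ?_⟩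
    · split
      · exact w01_QSub
      · exact one_mem _
    · exact mem_QSub.2 ⟨by rw [cSL_coe v2]; exact hd, mem_RowSub.1 (code_row v2)⟩
    · rw [← he, ← mul_assoc, Matrix.SpecialLinearGroup.coe_mul, Matrix.SpecialLinearGroup.coe_mul, cSL_coe v1,
        cSL_coe v2]
      split <;> rfl

theorem row_ne_line (M : SL5) {f : Fin 5 → ZMod 2} {r : Fin 5 → ZMod 2} (hr : vecMul f (M : M5) = r)
    (h4 : vecMul e4 (M : M5) = e4) (hf : ∀ a : ZMod 2, f ≠ a • e4) : ¬∃ a : ZMod 2, r = a • e4 := by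
  rintro ⟨a, rfl⟩
  have := vecMul_inv hr
  rw [smul_vecMul, vecMul_inv h4] at this
  exact hf a this.symm

theorem e3_line : ∀ a : ZMod 2, e3 ≠ a • e4 := by decide +kernel

variable {G : Type*} [Group G] {t : G} {ψ : ℕ → G}

/-- The union of a subgroup and one double coset. -/
def inCell (P : Subgroup (G × SL5)) (s p : G × SL5) : Prop :=
  p ∈ P ∨ ∃ a ∈ P, ∃ b ∈ P, p = a * s * b

theorem inCell_mul {P : Subgroup (G × SL5)} {s p a b : G × SL5} (hp : inCell P s p) (ha : a ∈ P) (hb : b ∈ P) :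
    inCell P s (a * p * b) := by
  rcases hp with hp | ⟨c, hc, d, hd, rfl⟩
  · exact Or.inl (mul_mem (mul_mem ha hp) hb)
  · exact Or.inr ⟨a * c, mul_mem ha hc, d * b, mul_mem hd hb, by simp only [mul_assoc]⟩

/-- Conjugating the parabolic subgroup by the exchange stays in the two double cosets. -/
theorem cell_closed {Γ2 Γ4 : Subgroup (G × SL5)} (p2 : IsPart ψ Γ2) (p4 : IsPart ψ Γ4)
    (row : ∀ p ∈ Γ2, p.2 ∈ RowSub) (col : ∀ p ∈ Γ4, p.2 ∈ ColSub) {n m : G} (hn : (n, w01) ∈ Γ2)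
    (hm : (m, w34) ∈ Γ4) (hnm : n * m = m * n) {p : G × SL5} (hp : p ∈ Γ2) :
    inCell Γ2 (m, w34) ((m, w34) * p * (m, w34)) := by
  set s : G × SL5 := (m, w34) with hs
  have mm : m * m = 1 := p4.inj_fst _ (by have := mul_mem hm hm; rwa [Prod.mk_mul_mk, w34_sq] at this)
  have ss : s * s = 1 := Prod.ext mm w34_sq
  have css : ∀ z, s * (s * z) = z := fun z => by rw [← mul_assoc, ss, one_mul]
  let Q0 : Set (G × SL5) := {q | q ∈ Γ2 ∧ s * q * s ∈ Γ2}
  have qmul : ∀ q ∈ Q0, ∀ q' ∈ Q0, q * q' ∈ Q0 := fun q hq q' hq' => ⟨mul_mem hq.1 hq'.1, by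
    have := mul_mem hq.2 hq'.2
    simpa only [mul_assoc, css] using this⟩
  have sn : s * (n, w01) * s = (n, w01) := Prod.ext
    (show m * n * m = n by rw [← hnm, mul_assoc, mm, mul_one]) w34_comm
  have qcode : ∀ M ∈ QSub, M ∈ ColSub → ∃ g, (g, M) ∈ Q0 := by
    intro M hM hMc
    obtain ⟨x, hx, rfl⟩ := code_of_both hM.2 hMc
    refine ⟨ψ x, p2.code x hx, ?_⟩
    have h4 : s * (ψ x, cSL x) * s ∈ Γ4 := mul_mem (mul_mem hm (p4.code x hx)) hm
    obtain ⟨y, hy, ey⟩ := code_of_both (M := w34 * cSL x * w34) (by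
      rw [mem_RowSub, Matrix.SpecialLinearGroup.coe_mul, Matrix.SpecialLinearGroup.coe_mul, ← vecMul_vecMul,
        ← vecMul_vecMul]
      show vecMul (vecMul (vecMul e4 (swM 3 4)) (cSL x : M5)) (swM 3 4) = e4
      rw [w_mats.2.2.1, (mem_QSub.1 hM).1, w_mats.2.2.2.1]) (col _ h4)
    have e1 : s * (ψ x, cSL x) * s = (m * ψ x * m, w34 * cSL x * w34) := rfl
    rw [e1, ← ey] at h4 ⊢
    rw [p4.eq_of_snd h4 (p4.code y hy)]
    exact p2.code y hy
  have qall : ∀ M ∈ QSub, ∃ g, (g, M) ∈ Q0 := by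
    intro M hM
    obtain ⟨h3, h4⟩ := mem_QSub.1 hM
    set w := (M : M5) *ᵥ e0 with hw
    have hwc : ∀ {f : Fin 5 → ZMod 2}, vecMul f (M : M5) = f → f ⬝ᵥ w = f ⬝ᵥ e0 := fun {f} hf => by
      rw [hw, dotProduct_mulVec, hf]
    have hw3 : w 3 = 0 := by simpa [e3, e0, dotProduct, Fin.sum_univ_five] using hwc h3
    have hw4 : w 4 = 0 := by simpa [e4, e0, dotProduct, Fin.sum_univ_five] using hwc h4
    have hw0 : w ≠ 0 := fun h => by
      have e := congrArg (((M⁻¹ : SL5) : M5) *ᵥ ·) h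
      simp only [hw, mulVec_mulVec, ← Matrix.SpecialLinearGroup.coe_mul, inv_mul_cancel,
        Matrix.SpecialLinearGroup.coe_one, one_mulVec, mulVec_zero] at e
      exact absurd e (by decide)
    rcases qList_check w hw3 hw4 hw0 with he | ⟨d, -, hd, hd3, hde⟩
    · exact qcode M hM (mem_ColSub.2 he)
    · have hdQ : cSL d ∈ QSub := mem_QSub.2 ⟨by rw [cSL_coe hd]; exact hd3, mem_RowSub.1 (code_row hd)⟩
      set D := w01 * (cSL d)⁻¹ * M with hD
      have hDQ : D ∈ QSub := mul_mem (mul_mem w01_QSub (inv_mem hdQ)) hM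
      have hDc : D ∈ ColSub := by
        rw [mem_ColSub, hD, Matrix.SpecialLinearGroup.coe_mul, Matrix.SpecialLinearGroup.coe_mul, ← mulVec_mulVec,
          ← mulVec_mulVec, ← hw, ← hde, ← cSL_coe hd, mulVec_mulVec _ ((cSL d)⁻¹ : SL5).1,
          ← Matrix.SpecialLinearGroup.coe_mul, inv_mul_cancel, Matrix.SpecialLinearGroup.coe_one, one_mulVec]
        exact w_mats.2.2.2.2.2.1
      obtain ⟨g1, hg1⟩ := qcode _ hdQ (code_col hd)
      obtain ⟨g2, hg2⟩ := qcode _ hDQ hDc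
      refine ⟨g1 * n * g2, ?_⟩
      have e : ((g1 * n * g2, M) : G × SL5) = (g1, cSL d) * (n, w01) * (g2, D) := Prod.ext rfl (by
        show M = cSL d * w01 * D
        rw [hD, mul_assoc w01, ← mul_assoc (cSL d * w01), mul_assoc (cSL d), w01_sq, mul_one, mul_inv_cancel_left])
      rw [e]
      exact qmul _ (qmul _ hg1 _ ⟨hn, by rw [sn]; exact hn⟩) _ hg2
  have hcode : ∀ x, hvalid x = true → inCell Γ2 s (s * (ψ x, cSL x) * s) := by
    intro x hx
    have h4 : s * (ψ x, cSL x) * s ∈ Γ4 := mul_mem (mul_mem hm (p4.code x hx)) hm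
    have e1 : s * (ψ x, cSL x) * s = (m * ψ x * m, w34 * cSL x * w34) := rfl
    rw [e1] at h4 ⊢
    rcases colSub_cases (col _ h4) with ⟨y, hy, ey⟩ | ⟨a, b, ha, hb, e⟩
    · change cSL y = w34 * cSL x * w34 at ey
      have h4' := h4
      rw [← ey] at h4' ⊢
      rw [p4.eq_of_snd h4' (p4.code y hy)]
      exact Or.inl (p2.code y hy)
    · change w34 * cSL x * w34 = _ at e
      refine Or.inr ⟨_, p2.code a ha, _, p2.code b hb, ?_⟩
      rw [e] at h4 ⊢
      have h5 : ((ψ a * m * ψ b, cSL a * w34 * cSL b) : G × SL5) ∈ Γ4 := by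
        have := mul_mem (mul_mem (p4.code a ha) hm) (p4.code b hb)
        rwa [Prod.mk_mul_mk, Prod.mk_mul_mk] at this
      rw [p4.eq_of_snd h4 h5, hs, Prod.mk_mul_mk, Prod.mk_mul_mk]
  obtain ⟨g, M⟩ := p
  have hM : M ∈ RowSub := row _ hp
  obtain ⟨x, hx, q, hq, hqe⟩ := exists_row_word M (f := e3)
    (row_ne_line M rfl (mem_RowSub.1 hM) e3_line)
  set q' := M * (cSL x * q)⁻¹ with hq'
  have hq'Q : q' ∈ QSub := by
    refine mem_QSub.2 ⟨?_, mem_RowSub.1 (mul_mem hM (inv_mem (mul_mem (code_row hx) hq.2)))⟩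
    rw [hq', Matrix.SpecialLinearGroup.coe_mul, ← vecMul_vecMul]
    exact vecMul_inv hqe
  obtain ⟨g1, hg1⟩ := qall _ hq'Q
  obtain ⟨g2, hg2⟩ := qall _ hq
  have e : ((g, M) : G × SL5) = (g1, q') * (ψ x, cSL x) * (g2, q) := by
    have h2 : M = q' * cSL x * q := by rw [hq', mul_assoc, inv_mul_cancel_right]
    refine Prod.ext ?_ h2
    have h3 := mul_mem (mul_mem hg1.1 (p2.code x hx)) hg2.1
    rw [Prod.mk_mul_mk, Prod.mk_mul_mk, ← h2] at h3
    exact p2.eq_of_snd hp h3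
  have e2 : s * (g, M) * s = (s * (g1, q') * s) * (s * (ψ x, cSL x) * s) * (s * (g2, q) * s) := by
    rw [e]; simp only [mul_assoc, css]
  rw [e2]
  exact inCell_mul (hcode x hx) hg1.2 hg2.2

/-- The union is a graph over all of `SL(5, 2)`. -/
theorem exists_linear (hψ : IsFrame t ψ) {Γ2 Γ4 : Subgroup (G × SL5)} (p2 : IsPart ψ Γ2) (p4 : IsPart ψ Γ4)
    (row : ∀ p ∈ Γ2, p.2 ∈ RowSub) (surj : ∀ M ∈ RowSub, ∃ g, (g, M) ∈ Γ2)
    (col : ∀ p ∈ Γ4, p.2 ∈ ColSub) {n m : G} (hn : (n, w01) ∈ Γ2)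
    (hm : (m, w34) ∈ Γ4) (hnm : n * m = m * n) :
    ∃ Γ : Subgroup (G × SL5), IsPart ψ Γ ∧ ∀ M, ∃ g, (g, M) ∈ Γ := by
  have hW := fun p (hp : p ∈ Γ2) => cell_closed p2 p4 row col hn hm hnm hp
  set s : G × SL5 := (m, w34) with hs
  have mm : m * m = 1 := p4.inj_fst _ (by have := mul_mem hm hm; rwa [Prod.mk_mul_mk, w34_sq] at this)
  have ss : s * s = 1 := Prod.ext mm w34_sq
  have si : s⁻¹ = s := inv_eq_of_mul_eq_one_right ss
  let Γ : Subgroup (G × SL5) :=
    { carrier := {p | inCell Γ2 s p}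
      one_mem' := Or.inl (one_mem _)
      mul_mem' := by
        rintro p q (hp | ⟨a, ha, b, hb, rfl⟩) hq
        · have := inCell_mul hq hp (one_mem _)
          rwa [mul_one] at this
        · rcases hq with hq | ⟨a', ha', b', hb', rfl⟩
          · exact Or.inr ⟨a, ha, b * q, mul_mem hb hq, by simp only [mul_assoc]⟩
          · have := inCell_mul (hW _ (mul_mem hb ha')) ha hb'
            show inCell Γ2 s (a * s * b * (a' * s * b'))
            simpa only [mul_assoc] using this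
      inv_mem' := by
        rintro p (hp | ⟨a, ha, b, hb, rfl⟩)
        · exact Or.inl (inv_mem hp)
        · exact Or.inr ⟨b⁻¹, inv_mem hb, a⁻¹, inv_mem ha, by
            rw [_root_.mul_inv_rev, _root_.mul_inv_rev, si, mul_assoc]⟩ }
  refine ⟨Γ, ⟨fun x hx => Or.inl (p2.code x hx), fun g hg => ?_, fun M hM => ?_⟩, fun M => ?_⟩
  · rcases hg with hg | ⟨a, ha, b, hb, e⟩
    · exact p2.inj_fst g hg
    · exfalso
      have h2 : (1 : SL5) = a.2 * w34 * b.2 := congrArg Prod.snd e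
      have h3 : w34 = a.2⁻¹ * b.2⁻¹ := by
        calc w34 = a.2⁻¹ * (a.2 * w34 * b.2) * b.2⁻¹ := by group
          _ = a.2⁻¹ * b.2⁻¹ := by rw [← h2, mul_one]
      have h4 : w34 ∈ RowSub := h3 ▸ mul_mem (inv_mem (row _ ha)) (inv_mem (row _ hb))
      exact w_mats.2.2.2.2.2.2.2.2 (w_mats.2.2.1.symm.trans (mem_RowSub.1 h4))
  · rcases hM with hM | ⟨a, ha, b, hb, e⟩
    · exact p2.inj_snd M hM
    · exfalso
      have h2 : (1 : G) = a.1 * m * b.1 := congrArg Prod.fst e
      have h3 : m = a.1⁻¹ * b.1⁻¹ := by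
        calc m = a.1⁻¹ * (a.1 * m * b.1) * b.1⁻¹ := by group
          _ = a.1⁻¹ * b.1⁻¹ := by rw [← h2, mul_one]
      have h4 : (m, a.2⁻¹ * b.2⁻¹) ∈ Γ2 := by
        rw [h3]; exact mul_mem (inv_mem ha) (inv_mem hb)
      obtain ⟨j, hj, ej⟩ := colT_conj (row _ h4) (show (8 : ℕ) < 16 by norm_num)
      rw [colT, colT, eC_special.2.1] at ej
      have A := p2.move h4 valid_z' (eC_check j hj).1 ej
      have B := p4.move hm valid_z' twist_codes.2.2.2.1 w34_z
      exact w_mats.2.2.2.2.2.2.2.1 j hj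
        (hψ.inj _ _ (eC_check j hj).1 twist_codes.2.2.2.1 (mul_right_cancel (A.symm.trans B)))
  · by_cases hr : vecMul e4 (M : M5) = e4
    · obtain ⟨g, hg⟩ := surj M hr
      exact ⟨g, Or.inl hg⟩
    · have hne : ¬∃ a : ZMod 2, vecMul e4 (M : M5) = a • e4 := by
        rintro ⟨a, ha⟩
        rcases (by decide : ∀ b : ZMod 2, b = 0 ∨ b = 1) a with rfl | rfl
        · rw [zero_smul] at ha
          have := vecMul_inv ha
          rw [zero_vecMul] at this
          exact absurd this (by decide)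
        · exact hr (by rw [ha, one_smul])
      obtain ⟨x, hx, q, hq, hqe⟩ := exists_row_word M hne
      set a := M * (w34 * (cSL x * q))⁻¹ with ha
      have haR : a ∈ RowSub := by
        have h1 : vecMul e4 ((w34 * (cSL x * q) : SL5) : M5) = vecMul e4 (M : M5) := by
          rw [Matrix.SpecialLinearGroup.coe_mul, ← vecMul_vecMul]
          show vecMul (vecMul e4 (swM 3 4)) _ = _
          rw [w_mats.2.2.1, hqe]
        rw [mem_RowSub, ha, Matrix.SpecialLinearGroup.coe_mul, ← vecMul_vecMul]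
        exact vecMul_inv h1
      obtain ⟨g1, hg1⟩ := surj a haR
      obtain ⟨g2, hg2⟩ := surj _ (mul_mem (code_row hx) hq.2)
      refine ⟨g1 * m * g2, Or.inr ⟨_, hg1, _, hg2, ?_⟩⟩
      exact Prod.ext rfl (by show M = a * w34 * (cSL x * q); rw [ha, mul_assoc, inv_mul_cancel_right])

/-- Matrices carrying the corner transvection to three representatives. -/
def linMat : ℕ → M5
  | 0 => ![![0, 1, 0, 0, 0], ![1, 0, 0, 0, 1], ![0, 0, 1, 0, 0], ![1, 0, 0, 0, 0], ![0, 0, 0, 1, 0]]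
  | 2 => swM 0 1
  | _ => swM 1 4

theorem linMat_check : ∀ k ∈ [0, 2, 4], (linMat k).det = 1 ∧
    linMat k * cMat hZ = cMat (Fus.reps.getD k 0) * linMat k := by
  decide +kernel

/-- **The linear pattern.** -/
theorem linear_glue [Finite G] (ht : orderOf t = 2) (hψ : IsFrame t ψ)
    (hb : bits (Fus.fused t ψ) = [true, false, true, false, true]) :
    ∃ G0 : Subgroup G, centralizer ({t} : Set G) ≤ G0 ∧
      (∀ k < 5, Fus.fused t ψ k = true → ∃ h ∈ G0, h * t * h⁻¹ = ψ (Fus.reps.getD k 0)) ∧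
      Nonempty (G0 ≃* SL5) := by
  have hψ' := sigC_frame hψ
  have hk := fun k (hk : k < 5) => bits_get hb hk
  have hk' := fun k (hk : k < 5) => bits_get (sigC_bits ht hψ hb) hk
  obtain ⟨Γ2, p2, row, surj⟩ := affine_core ht hψ (hk 1 (by norm_num)) (hk 2 (by norm_num)) (hk 3 (by norm_num))
  obtain ⟨Γ', p', row', surj'⟩ :=
    affine_core ht hψ' (hk' 1 (by norm_num)) (hk' 2 (by norm_num)) (hk' 3 (by norm_num))
  let F : G × SL5 →* G × SL5 := (MonoidHom.id G).prodMap sigM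
  have mem4 : ∀ p : G × SL5, p ∈ Γ'.map F ↔ (p.1, sigM p.2) ∈ Γ' := fun p => by
    constructor
    · rintro ⟨q, hq, rfl⟩
      show (q.1, sigM (sigM q.2)) ∈ Γ'
      rwa [sigM_sigM]
    · exact fun h => ⟨_, h, Prod.ext rfl (sigM_sigM p.2)⟩
  have p4 : IsPart ψ (Γ'.map F) := by
    refine ⟨fun x hx => ?_, fun g hg => ?_, fun M hM => ?_⟩
    · rw [mem4]
      show (ψ x, sigM (cSL x)) ∈ Γ'
      have := p'.code _ (sigC_spec hx).1
      rwa [Function.comp_apply, sigC_sigC hx, (sigC_spec hx).2] at this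
    · have := (mem4 _).1 hg
      rw [map_one] at this
      exact p'.inj_fst g this
    · have := p'.inj_snd _ ((mem4 _).1 hM)
      have h2 := congrArg sigM this
      rwa [sigM_sigM, map_one] at h2
  have col : ∀ p ∈ Γ'.map F, p.2 ∈ ColSub := fun p hp => by
    have := sigM_mem_ColSub.2 (row' (p.1, sigM p.2) ((mem4 p).1 hp))
    rwa [sigM_sigM] at this
  obtain ⟨n, hn⟩ := surj w01 w01_QSub.2
  obtain ⟨n', hn'⟩ := surj' (sigM w34) (sigM_mem_ColSub.1 (by rw [sigM_sigM]; exact w34_col))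
  obtain ⟨Γ4, m, q4, col4, hm, hnm⟩ := exists_commuting hψ p2 p4 col hn ((mem4 (n', w34)).2 hn')
  obtain ⟨Γ, hΓ, hall⟩ := exists_linear hψ p2 q4 row surj col4 hn hm hnm
  obtain ⟨e⟩ := hΓ.equiv ⊤ (fun _ _ => mem_top _) fun M _ => hall M
  refine ⟨_, hΓ.cent_le hψ, fun k hk5 hf => ?_, ⟨e.trans Subgroup.topEquiv⟩⟩
  rw [hk k hk5] at hf
  have hk3 : k ∈ [0, 2, 4] := by interval_cases k <;> simp at hf ⊢
  obtain ⟨d1, d2⟩ := linMat_check k hk3
  exact hΓ.exists_conj hψ (hall ⟨linMat k, d1⟩) (reps_valid5 hk5) (sl_comm valid_z' (reps_valid5 hk5) d2)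

end CfsgLib.InvChar.HeRec.Tri
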