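import Cfsg.Agent.Lib.InvChar.HeRec.Trichotomy.L5Model
import Cfsg.Agent.Lib.InvChar.HeRec.Trichotomy.Fusion

/-!
# The graph automorphism on the codes

Inverse transpose followed by reversing the coordinates fixes the corner transvection; it carries a frame to
another frame and interchanges the classes `1, 3` and `2, 4`.
-/

set_option autoImplicit false
set_option maxRecDepth 100000

namespace CfsgLib.InvChar.HeRec.Tri

open Matrix CfsgLib.Mathieu

/-- Transpose in reversed coordinates. -/
def revT (M : M5) : M5 := (M.submatrix Fin.rev Fin.rev)ᵀ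

theorem revT_det (M : M5) : (revT M).det = M.det := by
  rw [revT, Matrix.det_transpose]
  exact Matrix.det_submatrix_equiv_self Fin.revPerm M

theorem revT_mul (M N : M5) : revT (M * N) = revT N * revT M := by
  rw [revT, revT, revT, ← Matrix.transpose_mul]
  congr 1
  exact (Matrix.submatrix_mul_equiv M N Fin.rev Fin.revPerm Fin.rev).symm

theorem revT_revT (M : M5) : revT (revT M) = M := by
  ext i j
  simp [revT]

/-- The graph automorphism. -/
def sigM : SL5 →* SL5 where
  toFun M := ⟨revT ((M⁻¹ : SL5) : M5), by rw [revT_det]; exact (M⁻¹).2⟩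
  map_one' := by
    apply Subtype.ext
    show revT (((1 : SL5)⁻¹ : SL5) : M5) = 1
    rw [inv_one, Matrix.SpecialLinearGroup.coe_one]
    ext i j
    simp [revT, Matrix.one_apply, eq_comm]
  map_mul' M N := by
    apply Subtype.ext
    show revT (((M * N)⁻¹ : SL5) : M5) = revT ((M⁻¹ : SL5) : M5) * revT ((N⁻¹ : SL5) : M5)
    rw [_root_.mul_inv_rev, Matrix.SpecialLinearGroup.coe_mul, revT_mul]

theorem sigM_coe (M : SL5) : ((sigM M : SL5) : M5) = revT ((M⁻¹ : SL5) : M5) := rfl

theorem sigM_sigM (M : SL5) : sigM (sigM M) = M := by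
  apply Subtype.ext
  rw [sigM_coe, ← map_inv, sigM_coe, inv_inv, revT_revT]

theorem z_mat : cMat hZ = !![1, 0, 0, 0, 1; 0, 1, 0, 0, 0; 0, 0, 1, 0, 0; 0, 0, 0, 1, 0; 0, 0, 0, 0, 1] := by
  decide +kernel

theorem valid_z' : hvalid hZ = true := by decide

/-- The centraliser of the corner transvection consists of the matrices of codes. -/
theorem exists_code_iff (M : SL5) :
    M * cSL hZ = cSL hZ * M ↔ ∃ x, hvalid x = true ∧ cSL x = M := by
  constructor
  · intro h
    have h' : (M : M5) * cMat hZ = cMat hZ * (M : M5) := by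
      rw [← cSL_coe valid_z', ← Matrix.SpecialLinearGroup.coe_mul, ← Matrix.SpecialLinearGroup.coe_mul, h]
    refine exists_code M (fun i hi => ?_) fun j hj => ?_
    · have e := congrFun (congrFun h' i) 4
      simp [z_mat, Matrix.mul_apply, Fin.sum_univ_five] at e
      fin_cases i <;> first | exact absurd rfl hi | simpa using e
    · have e := congrFun (congrFun h' 0) j
      simp [z_mat, Matrix.mul_apply, Fin.sum_univ_five] at e
      fin_cases j <;> first | exact absurd rfl hj | simpa using e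
  · rintro ⟨x, hx, rfl⟩
    apply Subtype.ext
    rw [Matrix.SpecialLinearGroup.coe_mul, Matrix.SpecialLinearGroup.coe_mul, cSL_coe hx, cSL_coe valid_z']
    obtain ⟨A, u, f, c, rfl, hA, hu, hf, hc, -⟩ := of_valid hx
    rw [cMat_mk hA hu hf]
    ext i j
    simp only [Matrix.mul_apply, Fin.sum_univ_five, z_mat]
    fin_cases i <;> fin_cases j <;> simp [fMat, add_comm]

theorem sigM_z : sigM (cSL hZ) = cSL hZ := by
  have hsq : cSL hZ * cSL hZ = 1 := by
    rw [← cSL_mul valid_z' valid_z' (by decide), show hmul hZ hZ = hOne from by decide, cSL_one]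
  apply Subtype.ext
  rw [sigM_coe, inv_eq_of_mul_eq_one_right hsq, cSL_coe valid_z']
  decide +kernel

/-- The code of the image of a code. -/
noncomputable def sigC (x : ℕ) : ℕ := mCode ((sigM (cSL x) : SL5) : M5)

theorem sigC_spec {x : ℕ} (hx : hvalid x = true) : hvalid (sigC x) = true ∧ cSL (sigC x) = sigM (cSL x) := by
  obtain ⟨y, hy, e⟩ := (exists_code_iff (sigM (cSL x))).1 (by
    conv_lhs => rw [← sigM_z]
    conv_rhs => rw [← sigM_z]
    rw [← map_mul, ← map_mul, (exists_code_iff _).2 ⟨x, hx, rfl⟩])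
  have : sigC x = y := by rw [sigC, ← e, cSL_coe hy, mCode_cMat hy]
  exact this.symm ▸ ⟨hy, e⟩

theorem sigC_sigC {x : ℕ} (hx : hvalid x = true) : sigC (sigC x) = x := by
  rw [sigC, (sigC_spec hx).2, sigM_sigM, cSL_coe hx, mCode_cMat hx]

/-- Images of involutions are read off without inverting. -/
theorem sigC_invol {x y : ℕ} (hx : hvalid x = true) (hxx : hmul x x = hOne) (hy : hvalid y = true)
    (h : revT (cMat x) = cMat y) : sigC x = y := by
  have hsq : cSL x * cSL x = 1 := by rw [← cSL_mul hx hx (by rw [hxx]; decide), hxx, cSL_one]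
  rw [sigC, sigM_coe, inv_eq_of_mul_eq_one_right hsq, cSL_coe hx, h, mCode_cMat hy]

/-- The images of the representatives. -/
def sigReps : List ℕ := [84, 57621, 16657, 2314, 2321]

/-- The permutation of the classes. -/
def sigCls : List ℕ := [0, 3, 4, 1, 2]

theorem sigReps_check : ∀ k < 5, hvalid (sigReps.getD k 0) = true ∧
    revT (cMat (Fus.reps.getD k 0)) = cMat (sigReps.getD k 0) ∧
    fcls (sigReps.getD k 0) = sigCls.getD k 0 := by
  decide +kernel

theorem sigC_reps {k : ℕ} (hk : k < 5) : sigC (Fus.reps.getD k 0) = sigReps.getD k 0 :=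
  sigC_invol (Fus.reps_valid k (by omega)) (Fus.reps_order k (by omega)).1 (sigReps_check k hk).1
    (sigReps_check k hk).2.1

variable {G : Type*} [Group G] {t : G} {ψ : ℕ → G}

/-- The frame composed with the graph automorphism. -/
theorem sigC_frame (hψ : IsFrame t ψ) : IsFrame t (ψ ∘ sigC) where
  map_mul x y hx hy := by
    have hxy := Swap.hvalid_hmul hx hy
    obtain ⟨vx, ex⟩ := sigC_spec hx
    obtain ⟨vy, ey⟩ := sigC_spec hy
    obtain ⟨vxy, exy⟩ := sigC_spec hxy
    have : sigC (hmul x y) = hmul (sigC x) (sigC y) := cSL_inj vxy (Swap.hvalid_hmul vx vy) (by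
      rw [exy, cSL_mul hx hy hxy, map_mul, cSL_mul vx vy (Swap.hvalid_hmul vx vy), ex, ey])
    show ψ (sigC (hmul x y)) = ψ (sigC x) * ψ (sigC y)
    rw [this, hψ.map_mul _ _ vx vy]
  inj x y hx hy h := by
    rw [← sigC_sigC hx, ← sigC_sigC hy, hψ.inj _ _ (sigC_spec hx).1 (sigC_spec hy).1 h]
  mem_iff g := by
    rw [hψ.mem_iff]
    exact ⟨fun ⟨x, hx, e⟩ => ⟨sigC x, (sigC_spec hx).1, by show ψ (sigC (sigC x)) = g; rw [sigC_sigC hx, e]⟩,
      fun ⟨x, hx, e⟩ => ⟨sigC x, (sigC_spec hx).1, e⟩⟩
  map_z := by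
    have e : sigC hZ = hZ := by rw [sigC, sigM_z, cSL_coe valid_z', mCode_cMat valid_z']
    show ψ (sigC hZ) = t
    rw [e, hψ.map_z]

open scoped Classical in
/-- The fused classes are permuted. -/
theorem sigC_fused (ht : orderOf t = 2) (hψ : IsFrame t ψ) {k : ℕ} (hk : k < 5) :
    Fus.fused t (ψ ∘ sigC) k = Fus.fused t ψ (sigCls.getD k 0) := by
  obtain ⟨hv, -, hc⟩ := sigReps_check k hk
  have h := fcls_spec ht hψ hv
  rw [hc] at h
  have h8 : sigCls.getD k 0 < 8 := by interval_cases k <;> decide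
  simp only [lab, h8, decide_true, Bool.true_and] at h
  have e : Fus.fused t (ψ ∘ sigC) k = decide (IsConj t (ψ (sigReps.getD k 0))) := by
    unfold Fus.fused
    rw [Function.comp_apply, sigC_reps hk]
  rw [e, Bool.eq_iff_iff]
  simpa using h

/-- The bits of the frame composed with the automorphism. -/
theorem sigC_bits (ht : orderOf t = 2) (hψ : IsFrame t ψ) {b₀ b₁ b₂ b₃ b₄ : Bool}
    (h : bits (Fus.fused t ψ) = [b₀, b₁, b₂, b₃, b₄]) :
    bits (Fus.fused t (ψ ∘ sigC)) = [b₀, b₃, b₄, b₁, b₂] := by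
  simp only [bits, List.range_succ, List.range_zero, List.nil_append, List.cons_append, List.map_cons,
    List.map_nil, List.cons.injEq, and_true] at h ⊢
  obtain ⟨h0, h1, h2, h3, h4⟩ := h
  refine ⟨?_, ?_, ?_, ?_, ?_⟩ <;> rw [sigC_fused ht hψ (by norm_num)] <;> assumption

end CfsgLib.InvChar.HeRec.Tri
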