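import Mathlib.LinearAlgebra.Matrix.SpecialLinearGroup
import Mathlib.GroupTheory.GroupAction.Basic
import Mathlib.GroupTheory.Subgroup.Simple
import Mathlib.Tactic

/-!
# A vector stabiliser in `SL(5, 2)` is not simple

The elements moving every vector by zero or the fixed vector form a proper normal subgroup.
-/

set_option autoImplicit false

namespace CfsgLib.InvChar.HeRec.Tri

open Matrix

/-- The special linear group on five dimensions over two elements. -/
local notation "SL52" => Matrix.SpecialLinearGroup (Fin 5) (ZMod 2)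

theorem two_cases (a : ZMod 2) : a = 0 ∨ a = 1 := by revert a; decide

variable (v : Fin 5 → ZMod 2)

theorem smul_def' (g : SL52) (w : Fin 5 → ZMod 2) :
    g • w = (g : Matrix (Fin 5) (Fin 5) (ZMod 2)) *ᵥ w := rfl

theorem mem_stab_fix (g : MulAction.stabilizer SL52 v) :
    ((g : SL52) : Matrix (Fin 5) (Fin 5) (ZMod 2)) *ᵥ v = v := g.2

/-- The elements of the stabiliser moving each vector by a multiple of `v`. -/
def axisSub : Subgroup (MulAction.stabilizer SL52 v) where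
  carrier := {g | ∀ w, ∃ a : ZMod 2, ((g : SL52) : Matrix (Fin 5) (Fin 5) (ZMod 2)) *ᵥ w = w + a • v}
  one_mem' w := ⟨0, by simp⟩
  mul_mem' := fun {g h} hg hh w => by
    obtain ⟨a, ha⟩ := hh w
    obtain ⟨b, hb⟩ := hg w
    refine ⟨b + a, ?_⟩
    rw [Subgroup.coe_mul, Matrix.SpecialLinearGroup.coe_mul, ← Matrix.mulVec_mulVec, ha, Matrix.mulVec_add,
      Matrix.mulVec_smul, hb, mem_stab_fix v g, add_smul, add_assoc]
  inv_mem' := fun {g} hg w => by
    obtain ⟨a, ha⟩ := hg (((g⁻¹ : MulAction.stabilizer SL52 v) : SL52).1 *ᵥ w)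
    refine ⟨a, ?_⟩
    rw [Matrix.mulVec_mulVec, ← Matrix.SpecialLinearGroup.coe_mul, ← Subgroup.coe_mul, mul_inv_cancel,
      Subgroup.coe_one, Matrix.SpecialLinearGroup.coe_one, Matrix.one_mulVec] at ha
    conv_rhs => rw [ha]
    rw [add_assoc, ← add_smul, CharTwo.add_self_eq_zero, zero_smul, add_zero]

instance axisSub_normal : (axisSub v).Normal where
  conj_mem g hg h w := by
    obtain ⟨a, ha⟩ := hg (((h⁻¹ : MulAction.stabilizer SL52 v) : SL52).1 *ᵥ w)
    refine ⟨a, ?_⟩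
    rw [Subgroup.coe_mul, Subgroup.coe_mul, Matrix.SpecialLinearGroup.coe_mul, Matrix.SpecialLinearGroup.coe_mul,
      ← Matrix.mulVec_mulVec, ← Matrix.mulVec_mulVec, ha, Matrix.mulVec_add, Matrix.mulVec_smul, mem_stab_fix v h,
      Matrix.mulVec_mulVec, ← Matrix.SpecialLinearGroup.coe_mul, ← Subgroup.coe_mul, mul_inv_cancel,
      Subgroup.coe_one, Matrix.SpecialLinearGroup.coe_one, Matrix.one_mulVec]

/-- An element `1 + x φ` of the stabiliser, when `φ` kills `v` and `x`. -/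
theorem exists_transvection (x φ : Fin 5 → ZMod 2) (hv : φ ⬝ᵥ v = 0) (hx : φ ⬝ᵥ x = 0) :
    ∃ g : MulAction.stabilizer SL52 v, ∀ w,
      ((g : SL52) : Matrix (Fin 5) (Fin 5) (ZMod 2)) *ᵥ w = w + (φ ⬝ᵥ w) • x := by
  have hmv : ∀ w, (1 + Matrix.vecMulVec x φ) *ᵥ w = w + (φ ⬝ᵥ w) • x := fun w => by
    rw [Matrix.add_mulVec, Matrix.one_mulVec]
    congr 1
    funext i
    simp [Matrix.mulVec, Matrix.vecMulVec_apply, dotProduct, Finset.mul_sum, Finset.sum_mul, mul_comm, mul_left_comm]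
  have hdet : (1 + Matrix.vecMulVec x φ).det = 1 := by
    rw [show Matrix.vecMulVec x φ = Matrix.replicateCol Unit x * Matrix.replicateRow Unit φ from
      (Matrix.vecMulVec_eq Unit x φ), Matrix.det_one_add_replicateCol_mul_replicateRow, hx, add_zero]
  refine ⟨⟨⟨1 + Matrix.vecMulVec x φ, hdet⟩, ?_⟩, hmv⟩
  show (1 + Matrix.vecMulVec x φ) *ᵥ v = v
  rw [hmv, hv, zero_smul, add_zero]

theorem exists_coords (hv : v ≠ 0) : ∃ i j k : Fin 5, v i = 1 ∧ i ≠ j ∧ i ≠ k ∧ j ≠ k := by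
  obtain ⟨i, hi⟩ := Function.ne_iff.1 hv
  have h3 : ∀ i : Fin 5, ∃ j k : Fin 5, i ≠ j ∧ i ≠ k ∧ j ≠ k := by decide
  obtain ⟨j, k, h⟩ := h3 i
  exact ⟨i, j, k, (two_cases (v i)).resolve_left hi, h⟩

/-- The stabiliser of a non-zero vector is not simple. -/
theorem not_isSimpleGroup_stab (hv : v ≠ 0) : ¬ IsSimpleGroup (MulAction.stabilizer SL52 v) := by
  intro hsimp
  obtain ⟨i, j, k, hi, hij, hik, hjk⟩ := exists_coords v hv
  let φ : Fin 5 → ZMod 2 := Pi.single j 1 + Pi.single i (v j)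
  have hφ : ∀ w, φ ⬝ᵥ w = w j + v j * w i := fun w => by
    simp [φ, add_dotProduct]
  have hφv : φ ⬝ᵥ v = 0 := by rw [hφ, hi, mul_one, CharTwo.add_self_eq_zero]
  have hφk : φ ⬝ᵥ Pi.single k 1 = 0 := by
    rw [hφ, Pi.single_eq_of_ne hjk, Pi.single_eq_of_ne hik, mul_zero, add_zero]
  have hφj : φ ⬝ᵥ Pi.single j 1 = 1 := by
    rw [hφ, Pi.single_eq_same, Pi.single_eq_of_ne hij, mul_zero, add_zero]
  obtain ⟨g, hg⟩ := exists_transvection v v φ hφv hφv
  obtain ⟨g', hg'⟩ := exists_transvection v (Pi.single k 1) φ hφv hφk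
  rcases (axisSub_normal v).eq_bot_or_eq_top with h | h
  · have hmem : g ∈ axisSub v := fun w => ⟨φ ⬝ᵥ w, hg w⟩
    rw [h, Subgroup.mem_bot] at hmem
    have e := hg (Pi.single j 1)
    rw [hmem, Subgroup.coe_one, Matrix.SpecialLinearGroup.coe_one, Matrix.one_mulVec, hφj, one_smul,
      left_eq_add] at e
    exact hv e
  · obtain ⟨a, ha⟩ := (show g' ∈ axisSub v from h ▸ Subgroup.mem_top g') (Pi.single j 1)
    rw [hg', hφj, one_smul, add_right_inj] at ha
    have e := congrFun ha i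
    rw [Pi.single_eq_of_ne hik, Pi.smul_apply, hi, smul_eq_mul, mul_one] at e
    have e2 := congrFun ha k
    rw [← e, zero_smul, Pi.single_eq_same, Pi.zero_apply] at e2
    exact one_ne_zero e2

end CfsgLib.InvChar.HeRec.Tri
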