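import Cfsg.Agent.Lib.InvChar.HeRec.Trichotomy.Endgame
import Cfsg.Agent.Lib.InvChar.HeRec.Trichotomy.Gluing
import Cfsg.Agent.Lib.InvChar.HeRec.Trichotomy.L5Affine
import Cfsg.Agent.Lib.InvChar.HeRec.Trichotomy.L5Linear
import Cfsg.Agent.Lib.InvChar.HeRec.Trichotomy.L5Outer
import Cfsg.Agent.Lib.InvChar.HeRec.Trichotomy.FrameIso
import Cfsg.Agent.Lib.InvChar.HeRec.Trichotomy.Stab
import Cfsg.Agent.Lib.InvChar.SimpleInvol
import Cfsg.Agent.Lib.Golay.Mathieu
import Cfsg.Prelude.Def_Spor_He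

/-!
# Groups with the involution centraliser of `L5(2)`
-/

set_option autoImplicit false

namespace CfsgLib.InvChar.HeRec.Tri

open Fus

local notation "SL52" => Matrix.SpecialLinearGroup (Fin 5) (ZMod 2)

variable {G : Type*} [Group G] [Finite G] {t : G} {ψ : ℕ → G}

/-- The four recognised groups. -/
def IsListed (G : Type*) [Group G] : Prop :=
  (∃ v : Fin 5 → ZMod 2, v ≠ 0 ∧ Nonempty (G ≃* MulAction.stabilizer SL52 v)) ∨
    Nonempty (G ≃* SL52) ∨ Nonempty (G ≃* Cfsg.M24) ∨ Cfsg.Spor.IsoHe G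

theorem equiv_of_top {X : Type*} [Group X] {G0 : Subgroup G} (h : G0 = ⊤) (e : Nonempty (G0 ≃* X)) :
    Nonempty (G ≃* X) :=
  e.map fun f => (Subgroup.topEquiv.symm.trans (MulEquiv.subgroupCongr h.symm)).trans f

/-- With some fused class the group is listed. -/
theorem listed_of_fused (ht : orderOf t = 2) (hψ : IsFrame t ψ) (hf : ∃ k < 5, fused t ψ k = true) :
    IsListed G := by
  have aff : ∀ {φ : ℕ → G}, IsFrame t φ → bits (fused t φ) = [false, false, true, false, false] →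
      IsListed G := by
    intro φ hφ hb
    obtain ⟨G0, hc, htr, v, hv, he⟩ := affine_glue ht hφ (Or.inl hb)
    exact Or.inl ⟨v, hv, equiv_of_top (eq_top ht hφ (Or.inl hb) G0 hc htr) he⟩
  have mat : ∀ {φ : ℕ → G}, IsFrame t φ → bits (fused t φ) = [true, true, true, false, true] →
      IsListed G := by
    intro φ hφ hb
    obtain ⟨G0, hc, htr, he⟩ := m24_glue ht hφ hb
    exact Or.inr (Or.inr (Or.inl (equiv_of_top (eq_top ht hφ (Or.inr (Or.inr (Or.inl hb))) G0 hc htr) he)))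
  have h := (fusion_patterns ht hψ).1
  simp only [patterns, List.mem_cons, List.not_mem_nil, or_false] at h
  rcases h with h | h | h | h | h | h | h
  · obtain ⟨k, hk, hkf⟩ := hf
    simp only [bits, List.range_succ, List.range_zero, List.nil_append, List.cons_append, List.map_cons,
      List.map_nil, List.cons.injEq, and_true] at h
    obtain ⟨h0, h1, h2, h3, h4⟩ := h
    interval_cases k <;> simp_all
  · exact aff hψ h
  · exact aff (sigC_frame hψ) (sigC_bits ht hψ h)
  · obtain ⟨G0, hc, htr, he⟩ := linear_glue ht hψ h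
    exact Or.inr (Or.inl (equiv_of_top (eq_top ht hψ (Or.inr (Or.inl h)) G0 hc htr) he))
  · exact mat hψ h
  · exact mat (sigC_frame hψ) (sigC_bits ht hψ h)
  · obtain ⟨G0, hc, htr, he⟩ := he_glue ht hψ h
    exact Or.inr (Or.inr (Or.inr (equiv_of_top (eq_top ht hψ (Or.inr (Or.inr (Or.inr h))) G0 hc htr) he)))

/-- A conjugate other than `t` commuting with `t` gives a fused class. -/
theorem exists_fused (ht : orderOf t = 2) (hψ : IsFrame t ψ) {g : G}
    (hc : (g * t * g⁻¹) * t = t * (g * t * g⁻¹)) (hne : g * t * g⁻¹ ≠ t) :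
    ∃ k < 5, fused t ψ k = true := by
  obtain ⟨x, hx, hxe⟩ := Swap.code_of_comm hψ hc
  have hconj : IsConj t (ψ x) := isConj_iff.2 ⟨g, hxe.symm⟩
  obtain ⟨r, hr, rfl⟩ := exists_row ht hψ hx hconj
  have hf := (fused_iff hψ hr).1 hconj
  obtain ⟨-, f5, f6⟩ := fusion_patterns ht hψ
  have h8 := rCls_lt r
  refine ⟨rCls r, ?_, hf⟩
  by_contra hlt
  obtain h7 | h7 | h7 : rCls r = 5 ∨ rCls r = 6 ∨ rCls r = 7 := by omega
  · rw [h7, f5] at hf; exact Bool.false_ne_true hf
  · rw [h7, f6] at hf; exact Bool.false_ne_true hf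
  · obtain ⟨h1, h2, h3, h4⟩ := tab_spec r hr
    have e := (Swap.mul_eq_iff hψ h2 h1 h3 h2).2 h4
    rw [h7, show reps.getD 7 0 = hZ from rfl, hψ.map_z, hxe, ← Swap.ψ_comm_t hψ h2] at e
    exact hne (mul_left_cancel e)

/-- The centraliser form. -/
theorem listed_of_equiv {s : SL52} (hs : (s : Matrix (Fin 5) (Fin 5) (ZMod 2)) = Matrix.transvection 0 1 1)
    (ht : orderOf t = 2)
    (e : Subgroup.centralizer ({t} : Set G) ≃* Subgroup.centralizer ({s} : Set SL52))
    (hg : ∃ g : G, (g * t * g⁻¹) * t = t * (g * t * g⁻¹) ∧ g * t * g⁻¹ ≠ t) : IsListed G := by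
  obtain ⟨ψ, hψ⟩ := exists_frame_of_equiv hs ht e
  obtain ⟨g, hc, hne⟩ := hg
  exact listed_of_fused ht hψ (exists_fused ht hψ hc hne)

theorem not_comm_of_equiv {s : SL52} (hs : (s : Matrix (Fin 5) (Fin 5) (ZMod 2)) = Matrix.transvection 0 1 1)
    (ht : orderOf t = 2)
    (e : Subgroup.centralizer ({t} : Set G) ≃* Subgroup.centralizer ({s} : Set SL52)) :
    ¬ IsMulCommutative G := fun h => by
  obtain ⟨ψ, hψ⟩ := exists_frame_of_equiv hs ht e
  have h94 : hvalid 94 = true := by decide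
  have h124 : hvalid 124 = true := by decide
  exact absurd ((Swap.mul_eq_iff hψ h94 h124 h124 h94).1 (h.1.1 _ _)) (by decide)

/-- A simple group with this centraliser. -/
theorem simple_cases [IsSimpleGroup G] {s : SL52}
    (hs : (s : Matrix (Fin 5) (Fin 5) (ZMod 2)) = Matrix.transvection 0 1 1) (ht : orderOf t = 2)
    (e : Subgroup.centralizer ({t} : Set G) ≃* Subgroup.centralizer ({s} : Set SL52)) :
    Nonempty (G ≃* SL52) ∨ Nonempty (G ≃* Cfsg.M24) ∨ Cfsg.Spor.IsoHe G := by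
  have hg : ∃ g : G, (g * t * g⁻¹) * t = t * (g * t * g⁻¹) ∧ g * t * g⁻¹ ≠ t := by
    by_contra hcon
    refine CfsgLib.InvChar.not_isolated_of_simple (not_comm_of_equiv hs ht e) (z := t) ⟨ht, fun g hg => ?_⟩
    by_contra hne
    exact hcon ⟨g, hg.eq.symm, hne⟩
  rcases listed_of_equiv hs ht e hg with ⟨v, hv, ⟨f⟩⟩ | h
  · exact absurd f.symm.isSimpleGroup (not_isSimpleGroup_stab v hv)
  · exact h

end CfsgLib.InvChar.HeRec.Tri
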