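import Cfsg.Agent.Lib.InvChar.HeRec.Trichotomy.EndLinear

/-!
# The data of the last nodes of the affine pattern
-/

set_option autoImplicit false
set_option maxRecDepth 100000

namespace CfsgLib.InvChar.HeRec.Tri

/-- The argument at a last node. -/
inductive TermData : Type
  | lin (d : LinData)
  | iso (d : IsoData)

/-- The last nodes with their data. -/
def affineTerms : List (Nat × TermData) := [
  (29, .lin ⟨785, [2, 4, 8], [(273, [1, 2, 4, 8]), (2323, [1, 3, 4, 8]), (34581, [1, 2, 5, 8])],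
      [[(0, 0), (1, 0)], [(0, 0)], [(0, 1)], [(0, 2)]]⟩),
  (35, .lin ⟨785, [2, 4], [(273, [1, 2, 4, 8]), (18743, [1, 3, 15, 8]), (52531, [1, 3, 14, 8]),
      (34581, [1, 2, 5, 8])], [[(0, 0), (1, 0)], [(0, 0)], [(0, 1)], [(0, 0), (0, 1), (2, 1)]]⟩),
  (55, .lin ⟨1108, [1], [(273, [1, 2, 4, 8]), (84, [4, 2, 1, 8]), (313, [3, 2, 6, 8]), (20753,
      [9, 2, 12, 8]), (124, [6, 2, 3, 8]), (20564, [12, 2, 9, 8])], [[(0, 0)], [(0, 0), (2, 0)],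
      [(1, 0)], [(0, 0), (3, 0)]]⟩),
  (56, .lin ⟨1108, [1], [(273, [1, 2, 4, 8]), (84, [4, 2, 1, 8]), (313, [3, 2, 6, 8]), (21777,
      [9, 2, 12, 8]), (124, [6, 2, 3, 8]), (21588, [12, 2, 9, 8])], [[(0, 0)], [(0, 0), (2, 0)],
      [(1, 0)], [(0, 0), (3, 0)]]⟩),
  (57, .lin ⟨1108, [1], [(273, [1, 2, 4, 8]), (84, [4, 2, 1, 8]), (313, [3, 2, 6, 8]), (53521,
      [9, 2, 12, 8]), (124, [6, 2, 3, 8]), (53332, [12, 2, 9, 8])], [[(0, 0)], [(0, 0), (2, 0)],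
      [(1, 0)], [(0, 0), (3, 0)]]⟩),
  (58, .lin ⟨1108, [1], [(273, [1, 2, 4, 8]), (84, [4, 2, 1, 8]), (313, [3, 2, 6, 8]), (54545,
      [9, 2, 12, 8]), (124, [6, 2, 3, 8]), (54356, [12, 2, 9, 8])], [[(0, 0)], [(0, 0), (2, 0)],
      [(1, 0)], [(0, 0), (3, 0)]]⟩),
  (63, .lin ⟨2644, [1], [(273, [1, 2, 4, 8]), (84, [4, 2, 1, 8]), (443, [3, 7, 6, 8]), (20753,
      [9, 2, 12, 8]), (254, [6, 7, 3, 8]), (20564, [12, 2, 9, 8])], [[(0, 0)], [(0, 0), (2, 0)],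
      [(1, 0)], [(0, 0), (3, 0)]]⟩),
  (64, .lin ⟨2644, [1], [(273, [1, 2, 4, 8]), (84, [4, 2, 1, 8]), (443, [3, 7, 6, 8]), (23313,
      [9, 2, 12, 8]), (254, [6, 7, 3, 8]), (23124, [12, 2, 9, 8])], [[(0, 0)], [(0, 0), (2, 0)],
      [(1, 0)], [(0, 0), (3, 0)]]⟩),
  (65, .lin ⟨2644, [1], [(273, [1, 2, 4, 8]), (84, [4, 2, 1, 8]), (443, [3, 7, 6, 8]), (53521,
      [9, 2, 12, 8]), (254, [6, 7, 3, 8]), (53332, [12, 2, 9, 8])], [[(0, 0)], [(0, 0), (2, 0)],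
      [(1, 0)], [(0, 0), (3, 0)]]⟩),
  (66, .lin ⟨2644, [1], [(273, [1, 2, 4, 8]), (84, [4, 2, 1, 8]), (443, [3, 7, 6, 8]), (56081,
      [9, 2, 12, 8]), (254, [6, 7, 3, 8]), (55892, [12, 2, 9, 8])], [[(0, 0)], [(0, 0), (2, 0)],
      [(1, 0)], [(0, 0), (3, 0)]]⟩),
  (67, .lin ⟨124, [1], [(273, [1, 2, 4, 8]), (84, [4, 2, 1, 8]), (1337, [3, 2, 6, 8]), (20753,
      [9, 2, 12, 8]), (1148, [6, 2, 3, 8]), (20564, [12, 2, 9, 8])], [[(0, 0)], [(0, 0), (2,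
      0)], [(1, 0)], [(0, 0), (3, 0)]]⟩),
  (68, .lin ⟨124, [1], [(273, [1, 2, 4, 8]), (84, [4, 2, 1, 8]), (1337, [3, 2, 6, 8]), (23313,
      [9, 2, 12, 8]), (1148, [6, 2, 3, 8]), (23124, [12, 2, 9, 8])], [[(0, 0)], [(0, 0), (2,
      0)], [(1, 0)], [(0, 0), (3, 0)]]⟩),
  (69, .lin ⟨124, [1], [(273, [1, 2, 4, 8]), (84, [4, 2, 1, 8]), (1337, [3, 2, 6, 8]), (24337,
      [9, 2, 12, 8]), (1148, [6, 2, 3, 8]), (23164, [14, 2, 11, 8])], [[(0, 0)], [(0, 0), (2,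
      0)], [(1, 0)], [(0, 0), (3, 0)]]⟩),
  (70, .lin ⟨124, [1], [(273, [1, 2, 4, 8]), (84, [4, 2, 1, 8]), (2873, [3, 2, 6, 8]), (20753,
      [9, 2, 12, 8]), (2684, [6, 2, 3, 8]), (20564, [12, 2, 9, 8])], [[(0, 0)], [(0, 0), (2,
      0)], [(1, 0)], [(0, 0), (3, 0)]]⟩),
  (71, .lin ⟨124, [1], [(273, [1, 2, 4, 8]), (84, [4, 2, 1, 8]), (2873, [3, 2, 6, 8]), (21777,
      [9, 2, 12, 8]), (2684, [6, 2, 3, 8]), (21588, [12, 2, 9, 8])], [[(0, 0)], [(0, 0), (2,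
      0)], [(1, 0)], [(0, 0), (3, 0)]]⟩),
  (72, .lin ⟨124, [1], [(273, [1, 2, 4, 8]), (84, [4, 2, 1, 8]), (2873, [3, 2, 6, 8]), (53521,
      [9, 2, 12, 8]), (2684, [6, 2, 3, 8]), (53332, [12, 2, 9, 8])], [[(0, 0)], [(0, 0), (2,
      0)], [(1, 0)], [(0, 0), (3, 0)]]⟩),
  (73, .lin ⟨124, [1], [(273, [1, 2, 4, 8]), (84, [4, 2, 1, 8]), (2873, [3, 2, 6, 8]), (56081,
      [9, 2, 12, 8]), (2684, [6, 2, 3, 8]), (53372, [14, 2, 11, 8])], [[(0, 0)], [(0, 0), (2,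
      0)], [(1, 0)], [(0, 0), (3, 0)]]⟩),
  (93, .lin ⟨2644, [1], [(273, [1, 2, 4, 8]), (84, [4, 2, 1, 8]), (20753, [9, 2, 12, 8]), (8505,
      [3, 10, 6, 8]), (20564, [12, 2, 9, 8]), (8316, [6, 10, 3, 8])], [[(0, 0)], [(0, 0), (3,
      0)], [(1, 0)], [(0, 0), (2, 0)]]⟩),
  (94, .lin ⟨2644, [1], [(273, [1, 2, 4, 8]), (84, [4, 2, 1, 8]), (20753, [9, 2, 12, 8]),
      (11065, [3, 10, 6, 8]), (20564, [12, 2, 9, 8]), (10876, [6, 10, 3, 8])], [[(0, 0)], [(0,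
      0), (3, 0)], [(1, 0)], [(0, 0), (2, 0)]]⟩),
  (95, .lin ⟨2644, [1], [(273, [1, 2, 4, 8]), (84, [4, 2, 1, 8]), (20753, [9, 2, 12, 8]),
      (11195, [3, 15, 6, 8]), (20564, [12, 2, 9, 8]), (11006, [6, 15, 3, 8])], [[(0, 0)], [(0,
      0), (3, 0)], [(1, 0)], [(0, 0), (2, 0)]]⟩),
  (96, .lin ⟨1108, [1], [(273, [1, 2, 4, 8]), (84, [4, 2, 1, 8]), (20753, [9, 2, 12, 8]),
      (33081, [3, 2, 6, 8]), (20564, [12, 2, 9, 8]), (32892, [6, 2, 3, 8])], [[(0, 0)], [(0, 0),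
      (3, 0)], [(1, 0)], [(0, 0), (2, 0)]]⟩),
  (98, .lin ⟨124, [1], [(273, [1, 2, 4, 8]), (84, [4, 2, 1, 8]), (21777, [9, 2, 12, 8]), (34105,
      [3, 2, 6, 8]), (21588, [12, 2, 9, 8]), (33916, [6, 2, 3, 8])], [[(0, 0)], [(0, 0), (3,
      0)], [(1, 0)], [(0, 0), (2, 0)]]⟩),
  (99, .lin ⟨124, [1], [(273, [1, 2, 4, 8]), (84, [4, 2, 1, 8]), (21777, [9, 2, 12, 8]), (36665,
      [3, 2, 6, 8]), (21588, [12, 2, 9, 8]), (36476, [6, 2, 3, 8])], [[(0, 0)], [(0, 0), (3,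
      0)], [(1, 0)], [(0, 0), (2, 0)]]⟩),
  (100, .lin ⟨124, [1], [(273, [1, 2, 4, 8]), (84, [4, 2, 1, 8]), (34105, [3, 2, 6, 8]), (53521,
      [9, 2, 12, 8]), (21628, [14, 2, 11, 8]), (33916, [6, 2, 3, 8])], [[(0, 0)], [(0, 0), (2,
      0)], [(1, 0)], [(0, 0), (3, 0)]]⟩),
  (101, .lin ⟨1108, [1], [(273, [1, 2, 4, 8]), (84, [4, 2, 1, 8]), (23313, [9, 2, 12, 8]),
      (33081, [3, 2, 6, 8]), (23124, [12, 2, 9, 8]), (32892, [6, 2, 3, 8])], [[(0, 0)], [(0, 0),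
      (3, 0)], [(1, 0)], [(0, 0), (2, 0)]]⟩),
  (103, .lin ⟨2644, [1], [(273, [1, 2, 4, 8]), (84, [4, 2, 1, 8]), (23313, [9, 2, 12, 8]),
      (33211, [3, 7, 6, 8]), (23124, [12, 2, 9, 8]), (33022, [6, 7, 3, 8])], [[(0, 0)], [(0, 0),
      (3, 0)], [(1, 0)], [(0, 0), (2, 0)]]⟩),
  (104, .lin ⟨2644, [1], [(273, [1, 2, 4, 8]), (84, [4, 2, 1, 8]), (53521, [9, 2, 12, 8]),
      (9529, [3, 10, 6, 8]), (53332, [12, 2, 9, 8]), (9340, [6, 10, 3, 8])], [[(0, 0)], [(0, 0),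
      (3, 0)], [(1, 0)], [(0, 0), (2, 0)]]⟩),
  (105, .lin ⟨277, [4], [(273, [1, 2, 4, 8]), (34581, [1, 2, 5, 8]), (817, [1, 2, 6, 8]),
      (16657, [1, 2, 12, 8])], [[(0, 0), (1, 0)], [(0, 0), (2, 0)], [(0, 0)], [(0, 0), (3,
      0)]]⟩),
  (106, .lin ⟨277, [4], [(273, [1, 2, 4, 8]), (34581, [1, 2, 5, 8]), (817, [1, 2, 6, 8]),
      (49937, [1, 2, 12, 8]), (17685, [1, 2, 13, 8])], [[(0, 0), (1, 0)], [(0, 0), (2, 0)], [(0,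
      0)], [(0, 0), (3, 0)]]⟩),
  (107, .lin ⟨277, [4], [(273, [1, 2, 4, 8]), (34581, [1, 2, 5, 8]), (34097, [1, 2, 6, 8]),
      (49425, [1, 2, 12, 8]), (821, [1, 2, 7, 8]), (17713, [1, 2, 14, 8])], [[(0, 0), (1, 0)],
      [(0, 0), (2, 0)], [(0, 0)], [(0, 0), (3, 0)]]⟩),
  (108, .iso ⟨124, 75, 10866, 115, 12747⟩),
  (109, .iso ⟨233, 83, 24306, 112, 64686⟩),
  (110, .iso ⟨161, 74, 35581, 114, 273⟩),
  (111, .iso ⟨233, 83, 24306, 112, 64686⟩),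
  (113, .iso ⟨161, 74, 35581, 114, 273⟩),
  (119, .iso ⟨233, 83, 24306, 112, 64686⟩),
  (120, .iso ⟨84, 74, 273, 114, 13210⟩),
  (121, .iso ⟨281, 93, 41186, 122, 59553⟩),
  (122, .lin ⟨2321, [1], [(273, [1, 2, 4, 8]), (4369, [9, 2, 4, 8]), (8473, [3, 10, 4, 8]),
      (33105, [5, 2, 4, 8])], [[(0, 0)], [(0, 0), (2, 0)], [(0, 0), (3, 0)], [(0, 0), (1, 0)]]⟩),
  (123, .iso ⟨161, 82, 55562, 116, 32417⟩),
  (124, .iso ⟨281, 94, 26031, 126, 57825⟩),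
  (125, .iso ⟨337, 86, 4566, 118, 35683⟩),
  (126, .lin ⟨2321, [1], [(273, [1, 2, 4, 8]), (4369, [9, 2, 4, 8]), (10521, [3, 10, 4, 8]),
      (33105, [5, 2, 4, 8])], [[(0, 0)], [(0, 0), (2, 0)], [(0, 0), (3, 0)], [(0, 0), (1, 0)]]⟩),
  (127, .lin ⟨2644, [1, 2], [(273, [1, 2, 4, 8]), (84, [4, 2, 1, 8]), (20753, [9, 2, 12, 8]),
      (214, [4, 7, 1, 8]), (8276, [4, 10, 1, 8]), (20564, [12, 2, 9, 8])], [[(0, 0)], [(0, 1)],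
      [(1, 0)], [(0, 0), (2, 0)]]⟩),
  (128, .lin ⟨2644, [1, 2], [(273, [1, 2, 4, 8]), (84, [4, 2, 1, 8]), (23313, [9, 2, 12, 8]),
      (214, [4, 7, 1, 8]), (8276, [4, 10, 1, 8]), (23124, [12, 2, 9, 8])], [[(0, 0)], [(0, 1)],
      [(1, 0)], [(0, 0), (2, 0)]]⟩),
  (129, .lin ⟨2644, [1, 2], [(273, [1, 2, 4, 8]), (84, [4, 2, 1, 8]), (53521, [9, 2, 12, 8]),
      (214, [4, 7, 1, 8]), (8276, [4, 10, 1, 8]), (53332, [12, 2, 9, 8])], [[(0, 0)], [(0, 1)],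
      [(1, 0)], [(0, 0), (2, 0)]]⟩),
  (130, .lin ⟨2644, [1, 2], [(273, [1, 2, 4, 8]), (84, [4, 2, 1, 8]), (56081, [9, 2, 12, 8]),
      (214, [4, 7, 1, 8]), (8276, [4, 10, 1, 8]), (55892, [12, 2, 9, 8])], [[(0, 0)], [(0, 1)],
      [(1, 0)], [(0, 0), (2, 0)]]⟩),
  (131, .lin ⟨2644, [1, 2], [(273, [1, 2, 4, 8]), (84, [4, 2, 1, 8]), (53521, [9, 2, 12, 8]),
      (214, [4, 7, 1, 8]), (10836, [4, 10, 1, 8]), (53332, [12, 2, 9, 8])], [[(0, 0)], [(0, 1)],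
      [(1, 0)], [(0, 0), (2, 0)]]⟩),
  (132, .lin ⟨2644, [1, 2], [(273, [1, 2, 4, 8]), (84, [4, 2, 1, 8]), (20753, [9, 2, 12, 8]),
      (8276, [4, 10, 1, 8]), (20564, [12, 2, 9, 8]), (32982, [4, 7, 1, 8])], [[(0, 0)], [(0,
      1)], [(1, 0)], [(0, 0), (2, 0)]]⟩),
  (133, .lin ⟨2644, [1, 2], [(273, [1, 2, 4, 8]), (84, [4, 2, 1, 8]), (20883, [9, 7, 12, 8]),
      (8276, [4, 10, 1, 8]), (20694, [12, 7, 9, 8]), (32982, [4, 7, 1, 8])], [[(0, 0)], [(0,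
      1)], [(1, 0)], [(0, 0), (2, 0)]]⟩),
  (134, .lin ⟨2644, [1, 2], [(273, [1, 2, 4, 8]), (84, [4, 2, 1, 8]), (23313, [9, 2, 12, 8]),
      (8276, [4, 10, 1, 8]), (23124, [12, 2, 9, 8]), (32982, [4, 7, 1, 8])], [[(0, 0)], [(0,
      1)], [(1, 0)], [(0, 0), (2, 0)]]⟩),
  (135, .lin ⟨214, [1, 2], [(273, [1, 2, 4, 8]), (84, [4, 2, 1, 8]), (23313, [9, 2, 12, 8]),
      (8276, [4, 10, 1, 8]), (23124, [12, 2, 9, 8]), (35542, [4, 7, 1, 8])], [[(0, 0)], [(0,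
      1)], [(1, 0)], [(0, 0), (2, 0)]]⟩),
  (136, .lin ⟨2644, [1, 2], [(273, [1, 2, 4, 8]), (84, [4, 2, 1, 8]), (23443, [9, 7, 12, 8]),
      (8276, [4, 10, 1, 8]), (23254, [12, 7, 9, 8]), (32982, [4, 7, 1, 8])], [[(0, 0)], [(0,
      1)], [(1, 0)], [(0, 0), (2, 0)]]⟩),
  (137, .lin ⟨214, [1, 2], [(273, [1, 2, 4, 8]), (84, [4, 2, 1, 8]), (20753, [9, 2, 12, 8]),
      (10836, [4, 10, 1, 8]), (20564, [12, 2, 9, 8]), (35542, [4, 7, 1, 8])], [[(0, 0)], [(0,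
      1)], [(1, 0)], [(0, 0), (2, 0)]]⟩)]

end CfsgLib.InvChar.HeRec.Tri
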