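import Cfsg.Agent.Lib.InvChar.HeRec.Trichotomy.EndAffineSet
import Cfsg.Agent.Lib.InvChar.HeRec.Trichotomy.EndAffineTerm

/-!
# The endgame in the affine pattern
-/

set_option autoImplicit false
set_option maxRecDepth 100000

namespace CfsgLib.InvChar.HeRec.Tri

open Fus

/-- The check of one last node; a prerequisite node is of another kind or a linear last node. -/
def termOK (ns : List Node) (ks : List Kind) (ts : List (ℕ × TermData)) (pb : List Bool) :
    ℕ × TermData → Bool
  | (i, .lin d) => linCheck ns i d
  | (i, .iso d) => isoCheck pb ns i d && [d.j₁, d.j₂].all fun j =>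
      decide (j < ns.length) && Nat.beq (nodeAt ns j).el.length (nodeAt ns i).el.length &&
        (!(kindAt ks j).isOther || ts.any fun e => Nat.beq e.1 j &&
          match e.2 with
          | .lin _ => true
          | .iso _ => false)

theorem affine_el : ∀ i < affineNodes.length, elOK affinePat (nodeAt affineNodes i) = true := by
  decide +kernel

theorem affine_cent : ∀ i < affineNodes.length, centOK affineNodes i = true := by decide +kernel

theorem affine_edges : ∀ i < affineNodes.length, edgesOK affinePat affineNodes i = true := by
  decide +kernel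

theorem affine_roots : rootsOK affinePat affineNodes = true := by decide +kernel

theorem affine_kinds : ∀ i < affineNodes.length,
    kindOK affinePat (nodeAt affineNodes i) (kindAt affineKinds i) = true := by
  decide +kernel

theorem affine_cover : ∀ i < affineNodes.length, (kindAt affineKinds i).isOther = true →
    affineTerms.any (fun e => Nat.beq e.1 i) = true := by
  decide +kernel

theorem affine_terms : affineTerms.all (termOK affineNodes affineKinds affineTerms affinePat) = true := by
  decide +kernel

theorem affE_eq : affE = eList := rfl

/-- The subgroup is the whole group. -/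
theorem eq_top_affine {G : Type*} [Group G] [Finite G] {G0 : Subgroup G} {t : G} {ψ : ℕ → G}
    (H0 : EndHyp G0 t ψ) (hb : bits (fused t ψ) = [false, false, true, false, false]) : G0 = ⊤ := by
  have hl : Labels affinePat t ψ := labels_of_bits H0.ht H0.hψ hb
  obtain ⟨G1, hle, H, hE⟩ := exists_affine_sub H0 hl
  rw [affE_eq] at hE
  have T : TableOK affinePat affineNodes := ⟨affine_el, affine_cent, affine_edges, affine_roots⟩
  refine top_le_iff.1 (le_of_eq_of_le (top_of_nodes H hl T (good_all H hl T affine_kinds ?_)).symm hle)
  intro i hi ho hbig hsame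
  have hterms := List.all_eq_true.1 affine_terms
  have hlin : ∀ j < affineNodes.length, BigGood G1 ψ affineNodes (nodeAt affineNodes j).el.length →
      ∀ d, (j, TermData.lin d) ∈ affineTerms → GoodS G1 (pset ψ (nodeAt affineNodes j).el) :=
    fun j hj hbj d hd => good_linear H hl T hE hj hbj (hterms _ hd)
  obtain ⟨⟨i', d⟩, hmem, he⟩ := List.any_eq_true.1 (affine_cover i hi ho)
  obtain rfl : i' = i := Nat.eq_of_beq_eq_true he
  cases d with
  | lin d => exact hlin _ hi hbig d hmem
  | iso d =>
    have h := hterms _ hmem
    simp only [termOK, Bool.and_eq_true, List.all_eq_true, List.any_eq_true, Bool.or_eq_true,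
      decide_eq_true_eq, Bool.not_eq_true'] at h
    obtain ⟨hc, hj⟩ := h
    have hgood : ∀ j ∈ [d.j₁, d.j₂], GoodS G1 (pset ψ (nodeAt affineNodes j).el) := by
      intro j hjm
      obtain ⟨⟨hjl, hlen⟩, hor⟩ := hj j hjm
      have hlen' := Nat.eq_of_beq_eq_true hlen
      rcases hor with h | ⟨⟨j', d'⟩, hd', hj', hlin'⟩
      · exact hsame j hjl h hlen'
      obtain rfl : j' = j := Nat.eq_of_beq_eq_true hj'
      cases d' with
      | lin d' => exact hlin _ hjl (by rw [hlen']; exact hbig) d' hd'
      | iso d' => exact absurd hlin' Bool.false_ne_true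
    exact good_isolated H hl T hE hi (hgood _ (by simp)) (hgood _ (by simp)) hc

end CfsgLib.InvChar.HeRec.Tri
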