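import Cfsg.Agent.Lib.InvChar.HeRec.Trichotomy.EndKinds
import Cfsg.Agent.Lib.InvChar.HeRec.Trichotomy.EndAffineData

/-!
# The sixteen elements of the affine pattern and their normaliser

In the affine pattern the conjugates of `t` commuting with `t` are the nonidentity elements of an
elementary abelian group of order sixteen; the part of `G0` normalising it still satisfies the
hypotheses of the endgame.
-/

set_option autoImplicit false
set_option maxRecDepth 100000

namespace CfsgLib.InvChar.HeRec.Tri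

open Fus

/-- The codes of the elementary abelian group. -/
def affE : List ℕ :=
  [273, 785, 1297, 1809, 2321, 2833, 3345, 3857, 33041, 33553, 34065, 34577, 35089, 35601, 36113,
    36625]

theorem affE_tab : ∀ r ∈ invTab, affinePat.getD (rCls r) false = memB affE (eCode r) := by
  decide +kernel

theorem affE_ok : affE.all (fun a => hvalid a && (memB affE (hmul a a) && (Nat.beq (hmul a a) hOne &&
    affE.all fun b => Nat.beq (hmul a b) (hmul b a)))) = true := by
  decide +kernel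

variable {G : Type*} [Group G] [Finite G] {G0 : Subgroup G} {t : G} {ψ : ℕ → G}

/-- An element of `C(t)` is in the group iff it is one or a conjugate of `t`. -/
theorem mem_affE_iff (H : EndHyp G0 t ψ) (hl : Labels affinePat t ψ) {x : ℕ} (hx : hvalid x = true) :
    x ∈ affE ↔ x = hOne ∨ IsConj t (ψ x) := by
  have h := affE_ok
  simp only [List.all_eq_true, Bool.and_eq_true] at h
  constructor
  · intro hm
    by_cases h1 : x = hOne
    · exact Or.inl h1
    obtain ⟨-, -, h2, -⟩ := h x hm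
    obtain ⟨r, hr, rfl⟩ := tab_complete hx (Nat.eq_of_beq_eq_true h2) h1
    refine Or.inr ((fused_iff H.hψ hr).2 ?_)
    have h3 := affE_tab r hr
    rw [memB_iff.2 hm, ← hl] at h3
    simpa [lab, rCls_lt] using h3
  · rintro (rfl | hc)
    · decide
    obtain ⟨r, hr, rfl⟩ := exists_row H.ht H.hψ hx hc
    refine memB_iff.1 ?_
    rw [← affE_tab r hr, ← hl]
    simp [lab, rCls_lt, (fused_iff H.hψ hr).1 hc]

/-- An element moving `t` into the group normalises it. -/
theorem affE_stable (H : EndHyp G0 t ψ) (hl : Labels affinePat t ψ) {g : G}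
    (hg : ∃ y ∈ affE, g * t * g⁻¹ = ψ y) : ∀ e ∈ affE, ∃ f ∈ affE, g * ψ e * g⁻¹ = ψ f := by
  have h := affE_ok
  simp only [List.all_eq_true, Bool.and_eq_true] at h
  obtain ⟨y, hy, hye⟩ := hg
  have hcomm : ∀ a ∈ affE, ∀ b ∈ affE, ψ a * ψ b = ψ b * ψ a := fun a ha b hb => by
    obtain ⟨hav, -, -, hab⟩ := h a ha
    exact (Swap.mul_eq_iff H.hψ hav (h b hb).1 (h b hb).1 hav).2 (Nat.eq_of_beq_eq_true (hab b hb))
  -- the element moved onto `t` lies in the group
  have hyv := (h y hy).1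
  have h0 : g⁻¹ * t * g * t = t * (g⁻¹ * t * g) := by
    calc g⁻¹ * t * g * t = g⁻¹ * (t * (g * t * g⁻¹)) * g := by group
      _ = g⁻¹ * ((g * t * g⁻¹) * t) * g := by rw [hye, ← Swap.ψ_comm_t H.hψ hyv]
      _ = t * (g⁻¹ * t * g) := by group
  obtain ⟨x, hx, hxe⟩ := Swap.code_of_comm H.hψ h0
  have hxE : x ∈ affE := (mem_affE_iff H hl hx).2 (Or.inr (by
    rw [hxe]; exact isConj_iff.2 ⟨g⁻¹, by rw [inv_inv]⟩))
  intro e he
  have hev := (h e he).1
  have h1 : g * ψ e * g⁻¹ * t = t * (g * ψ e * g⁻¹) := by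
    calc g * ψ e * g⁻¹ * t = g * (ψ e * (g⁻¹ * t * g)) * g⁻¹ := by group
      _ = g * ((g⁻¹ * t * g) * ψ e) * g⁻¹ := by rw [← hxe, hcomm e he x hxE]
      _ = _ := by group
  obtain ⟨f, hf, hfe⟩ := Swap.code_of_comm H.hψ h1
  refine ⟨f, (mem_affE_iff H hl hf).2 ?_, hfe.symm⟩
  rcases (mem_affE_iff H hl hev).1 he with rfl | hc
  · refine Or.inl (H.hψ.inj _ _ hf (by decide) ?_)
    rw [hfe, Swap.ψ_one H.hψ]; group
  · exact Or.inr (hc.trans (isConj_iff.2 ⟨g, hfe.symm⟩))

/-- The normaliser of the group in `G0` satisfies the hypotheses. -/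
theorem exists_affine_sub (H : EndHyp G0 t ψ) (hl : Labels affinePat t ψ) :
    ∃ G1 ≤ G0, EndHyp G1 t ψ ∧ ∀ g ∈ G1, ∀ e ∈ affE, ∃ f ∈ affE, g * ψ e * g⁻¹ = ψ f := by
  let G1 : Subgroup G :=
    { carrier := {g | g ∈ G0 ∧ ∀ e ∈ affE, ∃ f ∈ affE, g * ψ e * g⁻¹ = ψ f}
      one_mem' := ⟨one_mem _, fun e he => ⟨e, he, by group⟩⟩
      mul_mem' := by
        rintro a b ⟨ha, ha'⟩ ⟨hb, hb'⟩
        refine ⟨mul_mem ha hb, fun e he => ?_⟩
        obtain ⟨f, hf, hfe⟩ := hb' e he
        obtain ⟨k, hk, hke⟩ := ha' f hf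
        exact ⟨k, hk, by rw [← hke, ← hfe]; group⟩
      inv_mem' := by
        rintro a ⟨ha, ha'⟩
        refine ⟨inv_mem ha, ?_⟩
        have hp : ∀ n : ℕ, ∀ e ∈ affE, ∃ f ∈ affE, a ^ n * ψ e * (a ^ n)⁻¹ = ψ f := by
          intro n
          induction n with
          | zero => exact fun e he => ⟨e, he, by group⟩
          | succ n ih =>
            intro e he
            obtain ⟨f, hf, hfe⟩ := ih e he
            obtain ⟨k, hk, hke⟩ := ha' f hf
            exact ⟨k, hk, by rw [← hke, ← hfe, pow_succ']; group⟩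
        have hinv : a ^ (orderOf a - 1) = a⁻¹ := eq_inv_of_mul_eq_one_left (by
          rw [← pow_succ, Nat.sub_add_cancel (orderOf_pos _), pow_orderOf_eq_one])
        rw [← hinv]
        exact hp _ }
  refine ⟨G1, fun g hg => hg.1, ⟨H.ht, H.hψ, ?_, ?_⟩, fun g hg => hg.2⟩
  · intro g hg
    refine ⟨H.cent hg, affE_stable H hl ⟨hZ, by decide, ?_⟩⟩
    rw [H.hψ.map_z, Subgroup.mem_centralizer_singleton_iff.1 hg, mul_inv_cancel_right]
  · intro k hk hf
    obtain ⟨g, hg, hge⟩ := H.tr k hk hf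
    refine ⟨g, ⟨hg, affE_stable H hl ⟨_, ?_, hge⟩⟩, hge⟩
    exact (mem_affE_iff H hl (mult_valid k hk 1 (by norm_num))).2
      (Or.inr (isConj_iff.2 ⟨g, hge⟩))

end CfsgLib.InvChar.HeRec.Tri
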