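import Cfsg.Agent.Lib.InvChar.HeRec.Trichotomy.EndTable
import Cfsg.Agent.Lib.Invol.Strong
import Mathlib.GroupTheory.Sylow
import Mathlib.GroupTheory.PGroup
import Mathlib.Tactic.Group

/-!
# The conjugates of `t` inside a subgroup containing its centraliser

`G0` contains `C(t)` and moves `t` onto every fused class of the model.  Every two-subgroup of `G0`
is centralised by a `G0`-conjugate of `t`, and the conjugates of `t` in `G0` are controlled by `G0`.
-/

set_option autoImplicit false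
set_option maxRecDepth 100000

namespace CfsgLib.InvChar.HeRec.Tri

open Fus

variable {G : Type*} [Group G]

/-- The hypotheses on the subgroup. -/
structure EndHyp (G0 : Subgroup G) (t : G) (ψ : ℕ → G) : Prop where
  ht : orderOf t = 2
  hψ : IsFrame t ψ
  cent : Subgroup.centralizer ({t} : Set G) ≤ G0
  tr : ∀ k < 5, fused t ψ k = true → ∃ h : G, h ∈ G0 ∧ h * t * h⁻¹ = ψ (reps.getD k 0)

variable {G0 : Subgroup G} {t : G} {ψ : ℕ → G}

/-- The upper unitriangular matrix parts. -/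
def isU (A : ℕ) : Bool := (A &&& 1 == 1) && ((A >>> 3) &&& 3 == 2) && ((A >>> 6) &&& 7 == 4)

/-- The part of the model above the upper unitriangular matrices. -/
def inU (x : ℕ) : Bool := hvalid x && isU (x % 512)

theorem isU_closed : ∀ a < 512, isU a = true → ∀ b < 512, isU b = true →
    hvalid a = true ∧ hvalid (mulA a b) = true ∧ isU (mulA a b) = true := by
  have h : ∀ a ∈ (List.range 512).filter isU, ∀ b ∈ (List.range 512).filter isU,
      hvalid a = true ∧ hvalid (mulA a b) = true ∧ isU (mulA a b) = true := by decide +kernel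
  exact fun a ha h1 b hb h2 =>
    h a (by simp [ha, h1]) b (by simp [hb, h2])

theorem inU_mul {x y : ℕ} (hx : inU x = true) (hy : inU y = true) : inU (hmul x y) = true := by
  simp only [inU, Bool.and_eq_true] at hx hy ⊢
  refine ⟨Swap.hvalid_hmul hx.1 hy.1, ?_⟩
  rw [hmul_mod]
  exact (isU_closed _ (Nat.mod_lt _ (by norm_num)) hx.2 _ (Nat.mod_lt _ (by norm_num)) hy.2).2.2

/-- The square of a code. -/
def sq1 (x : ℕ) : ℕ := hmul x x

theorem inU_exp_four : ∀ a ∈ (List.range 512).filter isU, mulA (mulA a a) (mulA a a) = 273 := by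
  decide +kernel

theorem kernel_exp_four : ∀ q < 128, sq1 (sq1 (273 + 512 * q)) = hOne := by decide +kernel

theorem inU_exp {x : ℕ} (hx : inU x = true) : sq1 (sq1 (sq1 (sq1 x))) = hOne := by
  have h2 := inU_mul hx hx
  have h4 := inU_mul h2 h2
  simp only [inU, Bool.and_eq_true] at hx h4
  have e : hmul (hmul x x) (hmul x x) % 512 = 273 := by
    rw [hmul_mod, hmul_mod]
    exact inU_exp_four _ (by simp [Nat.mod_lt _ (show 512 > 0 by norm_num), hx.2])
  have hlt := ((valid_iff _).1 h4.1).1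
  have hq := kernel_exp_four (hmul (hmul x x) (hmul x x) / 512) (by omega)
  rw [← e, Nat.mod_add_div] at hq
  exact hq

/-- Elements testing the centre of `inU`. -/
def uGens : List ℕ := ((List.range 512).filter isU) ++ (List.range 7).map fun i => 273 + 512 * 2 ^ i

theorem uGens_ok : uGens.all inU = true := by decide +kernel

theorem center_scan : ((Swap.hScan fun A => uGens.all fun u => mulA A (u % 512) == mulA (u % 512) A).all
    fun x => x == hOne || x == hZ || uGens.any fun u => hmul x u != hmul u x) = true := by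
  decide +kernel

namespace EndHyp

variable (H : EndHyp G0 t ψ)
include H

theorem psi_mem {x : ℕ} (hx : hvalid x = true) : ψ x ∈ G0 :=
  H.cent ((H.hψ.mem_iff _).2 ⟨x, hx, rfl⟩)

theorem t_mem : t ∈ G0 := by
  rw [← H.hψ.map_z]; exact H.psi_mem (by decide)

theorem mem_of_comm {g : G} (h : g * t = t * g) : g ∈ G0 :=
  H.cent (Subgroup.mem_centralizer_singleton_iff.2 h)

theorem tt : t * t = 1 := by
  rw [← pow_two, ← H.ht, pow_orderOf_eq_one]

/-- A conjugate of `t` commuting with `t` is a conjugate inside `G0`. -/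
theorem exists_conj_comm {x : G} (hx : x * t = t * x) (hc : IsConj t x) :
    ∃ h ∈ G0, h * t * h⁻¹ = x := by
  obtain ⟨c, hcv, rfl⟩ := Swap.code_of_comm H.hψ hx
  obtain ⟨r, hr, rfl⟩ := exists_row H.ht H.hψ hcv hc
  obtain ⟨h1, h2, h3, h4⟩ := tab_spec r hr
  have hf := (fused_iff H.hψ hr).1 hc
  have he := (Swap.mul_eq_iff H.hψ h2 h1 h3 h2).2 h4
  have hx : ψ (eCode r) = (ψ (rCjg r))⁻¹ * ψ (reps.getD (rCls r) 0) * ψ (rCjg r) := by
    rw [mul_assoc, ← he, inv_mul_cancel_left]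
  obtain ⟨f5, f6⟩ := fused_high H.ht H.hψ
  have h8 := rCls_lt r
  by_cases h7 : rCls r = 7
  · refine ⟨1, one_mem _, ?_⟩
    rw [hx, h7, show reps.getD 7 0 = hZ from rfl, H.hψ.map_z, one_mul, inv_one, mul_one,
      mul_assoc, ← Swap.ψ_comm_t H.hψ h2, inv_mul_cancel_left]
  have h5 : rCls r < 5 := by
    by_contra hcon
    obtain e | e : rCls r = 5 ∨ rCls r = 6 := by omega
    · rw [e, f5] at hf; exact Bool.false_ne_true hf
    · rw [e, f6] at hf; exact Bool.false_ne_true hf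
  obtain ⟨h, hh, e⟩ := H.tr _ h5 hf
  refine ⟨(ψ (rCjg r))⁻¹ * h, mul_mem (inv_mem (H.psi_mem h2)) hh, ?_⟩
  rw [hx, ← e]; group

variable [Finite G]

/-- A two-subgroup of `G0` is conjugate in `G0` into the centraliser of `t`. -/
theorem exists_into_cent {T : Subgroup G} (hT : T ≤ G0) (h2 : IsPGroup 2 T) :
    ∃ g ∈ G0, ∀ y ∈ T, (g * y * g⁻¹) * t = t * (g * y * g⁻¹) := by
  classical
  have : Fact (Nat.Prime 2) := ⟨Nat.prime_two⟩
  let U : Subgroup G :=
    { carrier := {g | ∃ x, inU x = true ∧ ψ x = g}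
      one_mem' := ⟨hOne, by decide, Swap.ψ_one H.hψ⟩
      mul_mem' := by
        rintro _ _ ⟨x, hx, rfl⟩ ⟨y, hy, rfl⟩
        refine ⟨_, inU_mul hx hy, H.hψ.map_mul _ _ ?_ ?_⟩ <;>
          simp_all [inU]
      inv_mem' := by
        rintro _ ⟨x, hx, rfl⟩
        have hv : hvalid x = true := by simp_all [inU]
        have hp : ∀ m, ∃ y, inU y = true ∧ ψ y = ψ x ^ m := by
          intro m
          induction m with
          | zero => exact ⟨hOne, by decide, by rw [pow_zero, Swap.ψ_one H.hψ]⟩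
          | succ m ih =>
            obtain ⟨y, hy, e⟩ := ih
            refine ⟨hmul y x, inU_mul hy hx, ?_⟩
            rw [H.hψ.map_mul _ _ (by simp_all [inU]) hv, e, pow_succ]
        obtain ⟨y, hy, e⟩ := hp (orderOf (ψ x) - 1)
        refine ⟨y, hy, e.trans (eq_inv_of_mul_eq_one_left ?_)⟩
        rw [← pow_succ, Nat.sub_add_cancel (orderOf_pos _), pow_orderOf_eq_one] }
  have hU0 : U ≤ G0 := by
    rintro _ ⟨x, hx, rfl⟩
    exact H.psi_mem (by simp_all [inU])
  have hU2 : IsPGroup 2 U := by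
    rintro ⟨_, x, hx, rfl⟩
    refine ⟨4, Subtype.ext ?_⟩
    have hv : ∀ {y}, inU y = true → hvalid y = true := fun h => by simp_all [inU]
    have s1 := inU_mul hx hx
    have s2 := inU_mul s1 s1
    have s3 := inU_mul s2 s2
    have h := congrArg ψ (inU_exp hx)
    rw [Swap.ψ_one H.hψ, sq1, sq1, sq1, sq1, H.hψ.map_mul _ _ (hv s3) (hv s3),
      H.hψ.map_mul _ _ (hv s2) (hv s2), H.hψ.map_mul _ _ (hv s1) (hv s1),
      H.hψ.map_mul _ _ (hv hx) (hv hx)] at h
    simpa [show (2 : ℕ) ^ 4 = 1 + 1 + 1 + 1 + 1 + 1 + 1 + 1 + 1 + 1 + 1 + 1 + 1 + 1 + 1 + 1 from rfl,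
      pow_succ, mul_assoc] using h
  obtain ⟨P, hP⟩ := (hU2.comap_of_injective G0.subtype Subtype.val_injective).exists_le_sylow
  have hmemP : ∀ {x}, inU x = true → ∀ (hx : ψ x ∈ G0), (⟨ψ x, hx⟩ : G0) ∈ (P : Subgroup G0) :=
    fun hx hx0 => hP ⟨_, hx, rfl⟩
  have htP : (⟨t, H.t_mem⟩ : G0) ∈ (P : Subgroup G0) := by
    have h := hmemP (x := hZ) (by decide) (by rw [H.hψ.map_z]; exact H.t_mem)
    simpa [H.hψ.map_z] using h
  have : Nontrivial (P : Subgroup G0) := ⟨⟨⟨_, htP⟩, 1, fun e => by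
    have := congrArg (fun z : (P : Subgroup G0) => ((z : G0) : G)) e
    simp only [OneMemClass.coe_one] at this
    have h := H.ht
    rw [this, orderOf_one] at h
    norm_num at h⟩⟩
  have := P.isPGroup'.center_nontrivial
  obtain ⟨w, hw1⟩ := exists_ne (1 : Subgroup.center (P : Subgroup G0))
  have hwc : ∀ p : (P : Subgroup G0), (w : (P : Subgroup G0)) * p = p * w := fun p =>
    (Subgroup.mem_center_iff.1 w.2 p).symm
  have hwt : ((w : (P : Subgroup G0)) : G0).1 * t = t * ((w : (P : Subgroup G0)) : G0).1 :=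
    congrArg (fun z : (P : Subgroup G0) => ((z : G0) : G)) (hwc ⟨_, htP⟩)
  obtain ⟨x, hx, hxe⟩ := Swap.code_of_comm H.hψ hwt
  have hxu : ∀ u ∈ uGens, hmul x u = hmul u x := by
    intro u hu
    have huU : inU u = true := List.all_eq_true.1 uGens_ok u hu
    have huv : hvalid u = true := by simp_all [inU]
    refine (Swap.mul_eq_iff H.hψ hx huv huv hx).1 ?_
    rw [hxe]
    exact congrArg (fun z : (P : Subgroup G0) => ((z : G0) : G))
      (hwc ⟨⟨ψ u, H.psi_mem huv⟩, hmemP huU _⟩)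
  have hwT : ((w : (P : Subgroup G0)) : G0).1 = t := by
    have hmem : x ∈ Swap.hScan fun A =>
        uGens.all fun u => mulA A (u % 512) == mulA (u % 512) A := by
      refine Swap.mem_hScan hx (List.all_eq_true.2 fun u hu => ?_)
      rw [beq_iff_eq, ← hmul_mod, ← hmul_mod, hxu u hu]
    have h := List.all_eq_true.1 center_scan x hmem
    simp only [Bool.or_eq_true, beq_iff_eq, List.any_eq_true, bne_iff_ne] at h
    rcases h with (e | e) | ⟨u, hu, e⟩
    · refine absurd ?_ hw1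
      refine Subtype.ext (Subtype.ext (Subtype.ext ?_))
      rw [← hxe, e, Swap.ψ_one H.hψ]
      rfl
    · rw [← hxe, e, H.hψ.map_z]
    · exact absurd (hxu u hu) e
  obtain ⟨Q, hQ⟩ := (h2.comap_of_injective G0.subtype Subtype.val_injective).exists_le_sylow
  obtain ⟨g, hg⟩ := MulAction.exists_smul_eq G0 Q P
  refine ⟨g, g.2, fun y hy => ?_⟩
  have hmem : g * ⟨y, hT hy⟩ * g⁻¹ ∈ (P : Subgroup G0) := by
    rw [← hg]
    exact ⟨⟨y, hT hy⟩, hQ hy, rfl⟩
  have h := congrArg (fun z : (P : Subgroup G0) => ((z : G0) : G)) (hwc ⟨_, hmem⟩)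
  simp only [Subgroup.coe_mul, Subgroup.coe_inv] at h
  rw [hwT] at h
  exact h.symm

/-- The conjugates of `t` in `G0` are conjugate in `G0`. -/
theorem exists_conj {x : G} (hx : x ∈ G0) (hc : IsConj t x) : ∃ h ∈ G0, h * t * h⁻¹ = x := by
  classical
  have hx2 : x * x = 1 := by
    obtain ⟨c, rfl⟩ := isConj_iff.1 hc
    calc c * t * c⁻¹ * (c * t * c⁻¹) = c * (t * t) * c⁻¹ := by group
      _ = 1 := by rw [H.tt]; group
  have : Fact (Nat.Prime 2) := ⟨Nat.prime_two⟩
  obtain ⟨g, hg, hgy⟩ := H.exists_into_cent (T := Subgroup.zpowers x)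
    ((Subgroup.zpowers_le).2 hx) (fun ⟨y, hy⟩ => ⟨1, Subtype.ext (by
      obtain ⟨m, rfl⟩ := Subgroup.mem_zpowers_iff.1 hy
      simp only [pow_one, SubmonoidClass.mk_pow, OneMemClass.coe_one]
      rw [← zpow_natCast, ← zpow_mul, mul_comm, zpow_mul, zpow_natCast, pow_two, hx2, one_zpow])⟩)
  obtain ⟨h, hh, e⟩ := H.exists_conj_comm (hgy x (Subgroup.mem_zpowers x))
    (hc.trans (isConj_iff.2 ⟨g, rfl⟩))
  refine ⟨g⁻¹ * h, mul_mem (inv_mem hg) hh, ?_⟩
  calc g⁻¹ * h * t * (g⁻¹ * h)⁻¹ = g⁻¹ * (h * t * h⁻¹) * g := by group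
    _ = x := by rw [e]; group

/-- The centraliser of a conjugate of `t` in `G0` is inside. -/
theorem cent_conj {x g : G} (hx : x ∈ G0) (hc : IsConj t x) (h : g * x = x * g) : g ∈ G0 := by
  obtain ⟨a, ha, rfl⟩ := H.exists_conj hx hc
  have hm : a⁻¹ * g * a ∈ G0 := H.mem_of_comm (by
    calc a⁻¹ * g * a * t = a⁻¹ * (g * (a * t * a⁻¹)) * a := by group
      _ = a⁻¹ * (a * t * a⁻¹ * g) * a := by rw [h]
      _ = t * (a⁻¹ * g * a) := by group)
  have := mul_mem (mul_mem ha hm) (inv_mem ha)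
  rwa [show a * (a⁻¹ * g * a) * a⁻¹ = g by group] at this

/-- The control of the conjugates of `t`. -/
theorem control {x g : G} (hx : x ∈ G0) (hc : IsConj t x) (hg : g * x * g⁻¹ ∈ G0) : g ∈ G0 := by
  obtain ⟨a, ha, rfl⟩ := H.exists_conj hx hc
  obtain ⟨b, hb, e⟩ := H.exists_conj hg (hc.trans (isConj_iff.2 ⟨g, rfl⟩))
  have hm : b⁻¹ * g * a ∈ G0 := H.mem_of_comm (by
    calc b⁻¹ * g * a * t = b⁻¹ * (g * (a * t * a⁻¹) * g⁻¹) * (g * a) := by group
      _ = b⁻¹ * (b * t * b⁻¹) * (g * a) := by rw [e]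
      _ = t * (b⁻¹ * g * a) := by group)
  have := mul_mem (mul_mem hb hm) (inv_mem ha)
  rwa [show b * (b⁻¹ * g * a) * a⁻¹ = g by group] at this

/-- A two-subgroup of `G0` is centralised by a conjugate of `t` in `G0`. -/
theorem exists_t {T : Subgroup G} (hT : T ≤ G0) (h2 : IsPGroup 2 T) :
    ∃ x ∈ G0, IsConj t x ∧ ∀ y ∈ T, x * y = y * x := by
  obtain ⟨g, hg, hgy⟩ := H.exists_into_cent hT h2
  refine ⟨g⁻¹ * t * g, mul_mem (mul_mem (inv_mem hg) H.t_mem) hg, isConj_iff.2 ⟨g⁻¹, by rw [inv_inv]⟩,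
    fun y hy => ?_⟩
  calc g⁻¹ * t * g * y = g⁻¹ * (t * (g * y * g⁻¹)) * g := by group
    _ = g⁻¹ * (g * y * g⁻¹ * t) * g := by rw [← hgy y hy]
    _ = y * (g⁻¹ * t * g) := by group

end EndHyp

end CfsgLib.InvChar.HeRec.Tri
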