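import Cfsg.Agent.Lib.Invol.Strong
import Cfsg.Agent.Lib.Solvable.KegelWielandt
import Mathlib.GroupTheory.Transfer

/-!
# Strongly embedded subgroups with two-group centralisers of involutions; isolated involutions

If a strongly embedded subgroup `H` has an involution `u` with two-group centraliser of rank at
least two, then the involutions of `H` commute pairwise. An involution which is its own centraliser
inverts a normal abelian subgroup of index two.
-/

set_option autoImplicit false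
set_option linter.unusedSectionVars false
set_option linter.style.haveILetI false

namespace CfsgLib.InvChar.HeRec.Tri

open Subgroup CfsgLib.Invol

universe u

variable {X : Type u} [Group X] [Finite X]

/-- The involutions of a strongly embedded subgroup with a two-group centraliser of rank at least
two commute. -/
theorem se_commute {H : Subgroup X} (hse : Cfsg.IsStronglyEmbedded H) {u : X} (huH : u ∈ H)
    (hu : orderOf u = 2) (h2 : IsPGroup 2 (centralizer ({u} : Set X)))
    (hr : ∃ c : X, orderOf c = 2 ∧ c ≠ u ∧ Commute c u) :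
    ∀ a ∈ H, ∀ b ∈ H, orderOf a = 2 → orderOf b = 2 → Commute a b := by
  haveI := Fact.mk Nat.prime_two
  obtain ⟨c, hc, hcu, hcc⟩ := hr
  have hcH : c ∈ H := se_mem_of_commute hse hu huH hcc
  -- every involution has a two-group centraliser
  have hC2 : ∀ a : X, orderOf a = 2 → IsPGroup 2 (centralizer ({a} : Set X)) := by
    intro a ha
    obtain ⟨g, rfl⟩ := isConj_iff.1 (se_isConj hse hu ha)
    intro x
    have hxu : g⁻¹ * (x : X) * g ∈ centralizer ({u} : Set X) := mem_centralizer_singleton_iff.2 (by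
      have h := mem_centralizer_singleton_iff.1 x.2
      calc g⁻¹ * (x : X) * g * u = g⁻¹ * ((x : X) * (g * u * g⁻¹)) * g := by group
        _ = g⁻¹ * (g * u * g⁻¹ * (x : X)) * g := by rw [h]
        _ = u * (g⁻¹ * (x : X) * g) := by group)
    obtain ⟨n, hn⟩ := h2 ⟨_, hxu⟩
    refine ⟨n, Subtype.ext ?_⟩
    have h' : (g⁻¹ * (x : X) * g) ^ 2 ^ n = 1 := congrArg Subtype.val hn
    rw [show g⁻¹ * (x : X) * g = g⁻¹ * (x : X) * g⁻¹⁻¹ by rw [inv_inv], conj_pow, conj_eq_one_iff] at h'
    exact h'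
  -- two points and their stabiliser
  obtain ⟨g, -, hg⟩ := SetLike.exists_of_lt hse.1.lt_top
  set x : X ⧸ H := ((1 : X) : X ⧸ H) with hx
  set y : X ⧸ H := (g : X ⧸ H) with hy
  have hxy : x ≠ y := by
    rw [Ne, hx, hy, QuotientGroup.eq, inv_one, one_mul]
    exact hg
  set D : Subgroup X := MulAction.stabilizer X x ⊓ MulAction.stabilizer X y with hD
  have hDmem : ∀ d, d ∈ D ↔ d • x = x ∧ d • y = y := fun d => by
    simp [hD, MulAction.mem_stabilizer_iff]
  have hfixx : ∀ r : X, r ∈ H ↔ r • x = x := fun r => by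
    rw [hx, fix_coset_iff, inv_one, one_mul, mul_one]
  have hDH : D ≤ H := fun d hd => (hfixx d).2 ((hDmem d).1 hd).1
  obtain ⟨w, hw, hwx⟩ := se_swap_exists hse hxy
  have hwy : w • y = x := invol_smul_swap hw hwx
  have hDodd : ∀ d ∈ D, orderOf d ≠ 2 := fun d hd h =>
    hxy (se_fix_eq hse h ((hDmem d).1 hd).1 ((hDmem d).1 hd).2)
  -- the two maps
  have hux : u • x = x := (hfixx u).1 huH
  let φ : {i : X // orderOf i = 2 ∧ i • x = y} → D := fun i => ⟨i.1 * w, (hDmem _).2
    ⟨by rw [mul_smul, hwx, invol_smul_swap i.2.1 i.2.2], by rw [mul_smul, hwy, i.2.2]⟩⟩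
  let χ : D → {t : X // orderOf t = 2 ∧ t • x = x} := fun d => ⟨(d : X) * u * (d : X)⁻¹,
    by rw [orderOf_conj_eq, hu], (hfixx _).1 (mul_mem (mul_mem (hDH d.2) huH) (inv_mem (hDH d.2)))⟩
  have hφ : Function.Injective φ := fun i i' e =>
    Subtype.ext (mul_right_cancel (congrArg Subtype.val e))
  have hχ : Function.Injective χ := by
    intro d e h
    have h' : (d : X) * u * (d : X)⁻¹ = (e : X) * u * (e : X)⁻¹ := congrArg Subtype.val h
    have hcent : (e : X)⁻¹ * (d : X) ∈ centralizer ({u} : Set X) :=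
      mem_centralizer_singleton_iff.2 (by
        calc (e : X)⁻¹ * (d : X) * u = (e : X)⁻¹ * ((d : X) * u * (d : X)⁻¹) * (d : X) := by group
          _ = (e : X)⁻¹ * ((e : X) * u * (e : X)⁻¹) * (d : X) := by rw [h']
          _ = u * ((e : X)⁻¹ * (d : X)) := by group)
    obtain ⟨n, hn⟩ := IsPGroup.iff_orderOf.1 h2 ⟨_, hcent⟩
    rw [orderOf_mk] at hn
    have hmem : (e : X)⁻¹ * (d : X) ∈ D := mul_mem (inv_mem e.2) d.2
    rcases n with _ | n
    · rw [pow_zero, orderOf_eq_one_iff, inv_mul_eq_one] at hn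
      exact Subtype.ext hn.symm
    · exfalso
      refine hDodd _ (pow_mem hmem (2 ^ n)) ?_
      rw [orderOf_pow_of_dvd (pow_ne_zero _ (by norm_num)) (hn ▸ pow_dvd_pow 2 n.le_succ), hn,
        pow_succ, Nat.mul_div_cancel_left _ (pow_pos (by norm_num) n)]
  have hcard : Nat.card {t : X // orderOf t = 2 ∧ t • x = x} =
      Nat.card {i : X // orderOf i = 2 ∧ i • x = y} := by
    rw [se_card_invol_fix hse x, se_card_swap hse hxy]
  have hle := Nat.card_le_card_of_injective φ hφ
  have hle' := Nat.card_le_card_of_injective χ hχ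
  have hφ' : Function.Surjective φ := (hφ.bijective_of_nat_card_le (hle'.trans hcard.le)).2
  have hχ' : Function.Surjective χ := (hχ.bijective_of_nat_card_le (hcard.le.trans hle)).2
  -- `w` inverts the stabiliser
  have hinv : ∀ d : D, w * (d : X) * w⁻¹ = (d : X)⁻¹ := by
    intro d
    obtain ⟨i, rfl⟩ := hφ' d
    show w * (i.1 * w) * w⁻¹ = (i.1 * w)⁻¹
    rw [mul_inv_rev, invol_inv hw, invol_inv i.2.1, mul_assoc, mul_assoc, invol_mul_self hw, mul_one]
  haveI hDc : IsMulCommutative D := ⟨⟨fun d e => Subtype.ext (by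
    have h1 := hinv (d * e)
    simp only [Subgroup.coe_mul] at h1
    have h2 : w * ((d : X) * e) * w⁻¹ = (d : X)⁻¹ * (e : X)⁻¹ := by
      rw [← hinv d, ← hinv e]; group
    rw [h2, ← mul_inv_rev, inv_inj] at h1
    exact h1.symm)⟩⟩
  -- the subgroup is the product of the stabiliser and the centraliser
  haveI hsol : Group.IsSolvable H := by
    haveI : IsMulCommutative (D.subgroupOf H) := ⟨⟨fun d e => Subtype.ext (Subtype.ext (by
      show ((d : H) : X) * ((e : H) : X) = ((e : H) : X) * ((d : H) : X)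
      exact congrArg Subtype.val (mul_comm' (⟨_, mem_subgroupOf.1 d.2⟩ : D) ⟨_, mem_subgroupOf.1 e.2⟩)))⟩⟩
    haveI hn1 : Group.IsNilpotent (D.subgroupOf H) := by
      open scoped IsMulCommutative in infer_instance
    haveI hn2 : Group.IsNilpotent ((centralizer ({u} : Set X)).subgroupOf H) :=
      (h2.of_equiv (subgroupOfEquivOfLe (se_centralizer_le hse hu huH)).symm).isNilpotent
    refine CfsgLib.Solvable.isSolvable_of_mul_nilpotent (D.subgroupOf H)
      ((centralizer ({u} : Set X)).subgroupOf H) hn1 hn2 fun h => ?_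
    obtain ⟨d, hd⟩ := hχ' ⟨(h : X) * u * (h : X)⁻¹, by rw [orderOf_conj_eq, hu],
      (hfixx _).1 (mul_mem (mul_mem h.2 huH) (inv_mem h.2))⟩
    have hd' : (d : X) * u * (d : X)⁻¹ = (h : X) * u * (h : X)⁻¹ := congrArg Subtype.val hd
    refine ⟨⟨d, hDH d.2⟩, mem_subgroupOf.2 d.2, ⟨d, hDH d.2⟩⁻¹ * h,
      mem_subgroupOf.2 (mem_centralizer_singleton_iff.2 ?_), by group⟩
    show (d : X)⁻¹ * (h : X) * u = u * ((d : X)⁻¹ * (h : X))
    calc (d : X)⁻¹ * (h : X) * u = (d : X)⁻¹ * ((h : X) * u * (h : X)⁻¹) * (h : X) := by group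
      _ = (d : X)⁻¹ * ((d : X) * u * (d : X)⁻¹) * (h : X) := by rw [hd']
      _ = u * ((d : X)⁻¹ * (h : X)) := by group
  haveI : Nontrivial H :=
    ⟨⟨⟨u, huH⟩, 1, fun e => invol_ne_one hu (congrArg Subtype.val e)⟩⟩
  obtain ⟨A, hA, hAc, hA1⟩ : ∃ A : Subgroup H, A.Normal ∧ (∀ a ∈ A, ∀ b ∈ A, a * b = b * a) ∧
      A ≠ ⊥ := by
    classical
    have hex : ∃ n, derivedSeries H n = ⊥ := Group.IsSolvable.solvable
    have hn := Nat.find_spec hex
    have h0 : Nat.find hex ≠ 0 := fun h => by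
      rw [h, derivedSeries_zero] at hn
      exact top_ne_bot hn
    obtain ⟨m, hm⟩ := Nat.exists_eq_succ_of_ne_zero h0
    rw [hm, derivedSeries_succ] at hn
    haveI := Subgroup.commutator_self_eq_bot_iff.mp hn
    exact ⟨derivedSeries H m, derivedSeries_normal H m, fun a ha b hb =>
      congrArg Subtype.val (mul_comm' (⟨a, ha⟩ : derivedSeries H m) ⟨b, hb⟩),
      Nat.find_min hex (by omega)⟩
  have hmem : ∀ {a}, a ∈ A → ∀ h : H, h * a * h⁻¹ ∈ A := fun ha h => hA.conj_mem _ ha h
  by_cases hev : ∃ i ∈ A, orderOf i = 2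
  · -- all involutions lie in the abelian normal subgroup
    obtain ⟨i, hiA, hi⟩ := hev
    have hall : ∀ a (ha : a ∈ H), orderOf a = 2 → (⟨a, ha⟩ : H) ∈ A := by
      intro a ha ha2
      have hi' : orderOf (i : X) = 2 := by rw [orderOf_coe, hi]
      obtain ⟨d, hdx, -, hd⟩ := se_stab_transitive hse hxy hi' ha2 ((hfixx _).1 i.2) ((hfixx a).1 ha)
      have := hmem hiA ⟨d, (hfixx d).2 hdx⟩
      convert this using 1
      exact Subtype.ext hd.symm
    intro a ha b hb ha2 hb2
    exact congrArg Subtype.val (hAc _ (hall a ha ha2) _ (hall b hb hb2))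
  -- otherwise the four-group acts without fixed points on a group of odd order
  exfalso
  push Not at hev
  obtain ⟨a, haA, ha1⟩ : ∃ a ∈ A, a ≠ 1 := by
    by_contra h
    push Not at h
    exact hA1 ((Subgroup.eq_bot_iff_forall A).2 h)
  have hsq : ∀ b ∈ A, b * b = 1 → b = 1 := fun b hb h => by
    by_contra hne
    exact hev b hb (invol_of_mul_self h hne)
  have hfpf : ∀ e : X, orderOf e = 2 → ∀ b ∈ A, Commute e (b : X) → b = 1 := by
    intro e he b hb hcb
    obtain ⟨n, hn⟩ := IsPGroup.iff_orderOf.1 (hC2 e he)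
      ⟨(b : X), mem_centralizer_singleton_iff.2 hcb.eq.symm⟩
    rw [orderOf_mk, orderOf_coe] at hn
    rcases n with _ | n
    · rwa [pow_zero, orderOf_eq_one_iff] at hn
    · exfalso
      refine hev _ (pow_mem hb (2 ^ n)) ?_
      rw [orderOf_pow_of_dvd (pow_ne_zero _ (by norm_num)) (hn ▸ pow_dvd_pow 2 n.le_succ), hn,
        pow_succ, Nat.mul_div_cancel_left _ (pow_pos (by norm_num) n)]
  have hinvA : ∀ e (he : e ∈ H), orderOf e = 2 → ∀ b ∈ A, (⟨e, he⟩ : H) * b * (⟨e, he⟩ : H)⁻¹ = b⁻¹ := by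
    intro e he he2 b hb
    set E : H := ⟨e, he⟩ with hE
    have hbe := hmem hb E
    have hEE : E * E = 1 := Subtype.ext (invol_mul_self he2)
    have hEi : E⁻¹ = E := inv_eq_of_mul_eq_one_right hEE
    have h1 : E * (b * (E * b * E⁻¹)) = b * (E * b * E⁻¹) * E := by
      calc E * (b * (E * b * E⁻¹)) = (E * b * E⁻¹) * (E * E) * b * E⁻¹ := by group
        _ = (E * b * E⁻¹) * b * E := by rw [hEE, mul_one, hEi]
        _ = b * (E * b * E⁻¹) * E := by rw [hAc _ hbe _ hb]
    have := hfpf e he2 _ (mul_mem hb hbe) (congrArg Subtype.val h1)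
    exact (inv_eq_of_mul_eq_one_right this).symm
  have hce : orderOf (c * u) = 2 := invol_of_mul_self (by
    rw [hcc.symm.mul_mul_mul_comm, invol_mul_self hc, invol_mul_self hu, one_mul]) fun e => hcu
      ((eq_inv_of_mul_eq_one_left e).trans (invol_inv hu))
  have h3 := hinvA (c * u) (mul_mem hcH huH) hce a haA
  have h4 : (⟨c * u, mul_mem hcH huH⟩ : H) * a * (⟨c * u, mul_mem hcH huH⟩ : H)⁻¹ = a := by
    rw [show (⟨c * u, mul_mem hcH huH⟩ : H) = ⟨c, hcH⟩ * ⟨u, huH⟩ from rfl]
    calc (⟨c, hcH⟩ * ⟨u, huH⟩ : H) * a * (⟨c, hcH⟩ * ⟨u, huH⟩ : H)⁻¹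
        = (⟨c, hcH⟩ : H) * (⟨u, huH⟩ * a * (⟨u, huH⟩ : H)⁻¹) * (⟨c, hcH⟩ : H)⁻¹ := by group
      _ = a := by rw [hinvA u huH hu a haA, hinvA c hcH hc _ (inv_mem haA), inv_inv]
  rw [h4] at h3
  exact ha1 (hsq a haA (mul_eq_one_iff_eq_inv.2 h3))

/-- An involution with centraliser of order two inverts a normal abelian subgroup of index two. -/
theorem isolated_inverted {u : X} (hu : orderOf u = 2) (hc : ∀ g, Commute g u → g = 1 ∨ g = u) :
    (∀ g, ∃ n, Odd (orderOf n) ∧ u * n * u⁻¹ = n⁻¹ ∧ (g = n ∨ g = n * u)) ∧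
      ∀ a b : X, Odd (orderOf a) → Odd (orderOf b) → u * a * u⁻¹ = a⁻¹ → u * b * u⁻¹ = b⁻¹ →
        Commute a b := by
  classical
  haveI := Fact.mk Nat.prime_two
  obtain ⟨T, hT⟩ := (isPGroup_zpowers_of_invol hu).exists_le_sylow
  have huT : u ∈ (T : Subgroup X) := hT (mem_zpowers u)
  -- the Sylow subgroup has order two
  have hTu : ∀ t ∈ (T : Subgroup X), t = 1 ∨ t = u := by
    haveI : Nontrivial (T : Subgroup X) :=
      ⟨⟨⟨u, huT⟩, 1, fun e => invol_ne_one hu (congrArg Subtype.val e)⟩⟩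
    haveI := T.isPGroup'.center_nontrivial
    obtain ⟨z, hz⟩ := exists_ne (1 : center (T : Subgroup X))
    have hzc : ∀ t ∈ (T : Subgroup X), Commute t ((z : (T : Subgroup X)) : X) := fun t ht =>
      congrArg Subtype.val (mem_center_iff.1 z.2 ⟨t, ht⟩)
    rcases hc _ (hzc u huT).symm with h | h
    · exact absurd (Subtype.ext (Subtype.ext h)) hz
    · intro t ht
      exact hc t (h ▸ hzc t ht)
  have hN : normalizer ((T : Subgroup X) : Set X) ≤ centralizer ((T : Subgroup X) : Set X) := by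
    intro g hg
    refine mem_centralizer_iff.2 fun t ht => ?_
    have hgu : g * u * g⁻¹ = u := by
      rcases hTu _ ((mem_normalizer_iff.1 hg u).1 huT) with h | h
      · rw [conj_eq_one_iff] at h; exact absurd h (invol_ne_one hu)
      · exact h
    rcases hTu t ht with rfl | rfl
    · rw [one_mul, mul_one]
    · exact (mul_inv_eq_iff_eq_mul.1 hgu).symm
  set N := (MonoidHom.transferSylow T hN).ker with hNdef
  have hcomp := MonoidHom.ker_transferSylow_isComplement' T hN
  have hN2 : ¬ 2 ∣ Nat.card N := MonoidHom.not_dvd_card_ker_transferSylow T hN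
  haveI : N.Normal := MonoidHom.normal_ker _
  have hNodd : ∀ n ∈ N, Odd (orderOf n) := fun n hn =>
    Nat.not_even_iff_odd.1 fun h => hN2 ((even_iff_two_dvd.1 h).trans
      (orderOf_mk n hn ▸ orderOf_dvd_natCard _))
  have hdec : ∀ g : X, ∃ n ∈ N, g = n ∨ g = n * u := by
    intro g
    obtain ⟨⟨⟨n, hn⟩, ⟨t, ht⟩⟩, rfl⟩ := (hcomp.existsUnique g).exists
    refine ⟨n, hn, ?_⟩
    rcases hTu t ht with rfl | rfl
    · exact Or.inl (mul_one n)
    · exact Or.inr rfl
  -- the involution inverts it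
  have hinv : ∀ n ∈ N, u * n * u⁻¹ = n⁻¹ := by
    let f : N → N := fun n => ⟨u * n * u⁻¹ * (n : X)⁻¹,
      mul_mem (Subgroup.Normal.conj_mem inferInstance _ n.2 u) (inv_mem n.2)⟩
    have hf : Function.Injective f := by
      intro m n e
      have e' : u * m * u⁻¹ * (m : X)⁻¹ = u * n * u⁻¹ * (n : X)⁻¹ := congrArg Subtype.val e
      have h1 : u * ((n : X)⁻¹ * m) * u⁻¹ = (n : X)⁻¹ * m := by
        calc u * ((n : X)⁻¹ * m) * u⁻¹
            = (u * n * u⁻¹)⁻¹ * (u * m * u⁻¹ * (m : X)⁻¹) * m := by group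
          _ = (u * n * u⁻¹)⁻¹ * (u * n * u⁻¹ * (n : X)⁻¹) * m := by rw [e']
          _ = (n : X)⁻¹ * m := by group
      have hcm : Commute ((n : X)⁻¹ * m) u := (mul_inv_eq_iff_eq_mul.1 h1).symm
      rcases hc _ hcm with h | h
      · exact Subtype.ext (inv_mul_eq_one.1 h).symm
      · have := hNodd _ (mul_mem (inv_mem n.2) m.2)
        rw [h, hu] at this
        exact absurd this (by decide)
    intro n hn
    obtain ⟨m, hm⟩ := Finite.surjective_of_injective hf ⟨n, hn⟩
    have hm' : u * m * u⁻¹ * (m : X)⁻¹ = n := congrArg Subtype.val hm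
    rw [← hm', invol_inv hu]
    calc u * (u * m * u * (m : X)⁻¹) * u = (u * u) * m * u * (m : X)⁻¹ * u := by group
      _ = (m : X) * u * (m : X)⁻¹ * u := by rw [invol_mul_self hu, one_mul]
      _ = (m : X) * u⁻¹ * (m : X)⁻¹ * u⁻¹ := by rw [invol_inv hu]
      _ = (u * m * u * (m : X)⁻¹)⁻¹ := by group
  refine ⟨fun g => ?_, fun a b ha hb _ _ => ?_⟩
  · obtain ⟨n, hn, h⟩ := hdec g
    exact ⟨n, hNodd n hn, hinv n hn, h⟩
  · have hmemN : ∀ a : X, Odd (orderOf a) → a ∈ N := by
      intro a ha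
      have h1 : N.index ∣ 2 := by
        rw [hcomp.symm.index_eq_card]
        have hle : (T : Subgroup X) ≤ zpowers u := fun t ht => by
          rcases hTu t ht with rfl | rfl
          · exact one_mem _
          · exact mem_zpowers _
        exact (card_dvd_of_le hle).trans (by rw [Nat.card_zpowers, hu])
      have hd : orderOf (QuotientGroup.mk' N a) ∣ N.index := by
        rw [index_eq_card]; exact orderOf_dvd_natCard _
      have h1' := Nat.eq_one_of_dvd_coprimes (Nat.coprime_two_right.2 ha)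
        (orderOf_map_dvd (QuotientGroup.mk' N) a) (hd.trans h1)
      rwa [orderOf_eq_one_iff, QuotientGroup.mk'_apply, QuotientGroup.eq_one_iff] at h1'
    have h1 := hinv _ (mul_mem (hmemN a ha) (hmemN b hb))
    have h2 : u * (a * b) * u⁻¹ = a⁻¹ * b⁻¹ := by
      rw [← hinv a (hmemN a ha), ← hinv b (hmemN b hb)]; group
    rw [h2, ← mul_inv_rev, inv_inj] at h1
    exact h1.symm

end CfsgLib.InvChar.HeRec.Tri
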