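import Cfsg.Agent.Lib.InvChar.HeRec.Trichotomy.EndStep
import Cfsg.Agent.Lib.InvChar.HeRec.Trichotomy.SeLemmas

/-!
# Criteria against a bad node
-/

set_option autoImplicit false
set_option maxRecDepth 100000

namespace CfsgLib.InvChar.HeRec.Tri

open Fus

/-- An involution modulo the node, in the centraliser of the node in the model. -/
def cosetOK (n : Node) (w : ℕ) : Bool :=
  hvalid w && !memB n.el w && memB n.el (hmul w w) && n.el.all fun a => Nat.beq (hmul w a) (hmul a w)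

/-- No translate of the coset of `hZ` has the labels of the coset of `w`. -/
def countOK (pb : List Bool) (n : Node) (w : ℕ) : Bool :=
  cosetOK n w && n.el.all fun a0 => n.el.any fun a => tT pb (hmul hZ a) != tT pb (hmul (hmul w a0) a)

/-- The flags of the products with three elements, modulo `m`. -/
def flagM (T : ℕ → Bool) (s p q a : ℕ) (m : ℕ) : ℕ :=
  ((bif T (hmul s p) then 1 else 0) + (bif T (hmul s q) then 2 else 0) +
    (bif T (hmul s a) then 4 else 0) + (bif T (hmul (hmul s a) p) then 8 else 0) +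
    (bif T (hmul (hmul s a) q) then 16 else 0)) % m

/-- The conjugates of `t` in the model commuting with `w` and `a` and having given flags. -/
def cntM (pb : List Bool) (w p q a m fl : ℕ) : ℕ :=
  invTab.countP fun r => pb.getD (rCls r) false &&
    (Nat.beq (hmul (eCode r) w) (hmul w (eCode r)) &&
      (Nat.beq (hmul (eCode r) a) (hmul a (eCode r)) &&
        Nat.beq (flagM (tT pb) (eCode r) p q a m) fl))

/-- Witnesses `(x, y, a, m, fl)` that no element centralising the node moves `(x, t)` to `(t, y)`. -/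
def invOK (pb : List Bool) (n : Node) (w : ℕ) (wits : List (ℕ × ℕ × ℕ × ℕ × ℕ)) : Bool :=
  cosetOK n w && !(n.el.any fun a => Nat.beq (hmul hZ a) w) && n.el.all fun a0 =>
    !tT pb (hmul w a0) || n.cent.all fun y => Nat.beq y hZ || !tT pb y || wits.any fun e =>
      Nat.beq e.1 (hmul w a0) && Nat.beq e.2.1 y && memB n.el e.2.2.1 &&
        !Nat.beq (cntM pb e.1 e.1 hZ e.2.2.1 e.2.2.2.1 e.2.2.2.2)
          (cntM pb y hZ y e.2.2.1 e.2.2.2.1 e.2.2.2.2)

/-- Two noncommuting involutions modulo the node, and a two-group centraliser. -/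
def noncommOK (n : Node) (w1 w2 : ℕ) : Bool :=
  cosetOK n w1 && cosetOK n w2 && (n.el.all fun a => !Nat.beq (hmul w1 w2) (hmul (hmul w2 w1) a)) &&
    n.cent.all fun x => Nat.beq (sq1 (sq1 (sq1 (sq1 x)))) hOne

variable {G : Type*} [Group G] {G0 : Subgroup G} {t : G} {ψ : ℕ → G} {pb : List Bool} {ns : List Node}

theorem cosetOK_spec {n : Node} {w : ℕ} (h : cosetOK n w = true) :
    hvalid w = true ∧ (∀ a ∈ n.el, hmul w a = hmul a w) ∧ hmul w w ∈ n.el ∧ w ∉ n.el := by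
  simp only [cosetOK, Bool.and_eq_true, List.all_eq_true, memB_iff, Bool.not_eq_true'] at h
  obtain ⟨⟨⟨h1, h2⟩, h3⟩, h4⟩ := h
  exact ⟨h1, fun a ha => Nat.eq_of_beq_eq_true (h4 a ha), h3,
    fun hw => by rw [memB_iff.2 hw] at h2; simp at h2⟩

open Classical in
/-- The flags in the group. -/
noncomputable def flagG (t s p q a : G) (m : ℕ) : ℕ :=
  ((bif decide (IsConj t (s * p)) then 1 else 0) + (bif decide (IsConj t (s * q)) then 2 else 0) +
    (bif decide (IsConj t (s * a)) then 4 else 0) + (bif decide (IsConj t (s * a * p)) then 8 else 0) +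
    (bif decide (IsConj t (s * a * q)) then 16 else 0)) % m

/-- The conjugates of `t` commuting with three elements and having given flags. -/
noncomputable def tripN (t u v a p q : G) (m fl : ℕ) : ℕ :=
  Nat.card {s : G // IsConj t s ∧ u * s = s * u ∧ v * s = s * v ∧ a * s = s * a ∧
    flagG t s p q a m = fl}

theorem tripN_conj (t u v a p q g : G) (m fl : ℕ) :
    tripN t u v a p q m fl = tripN t (g * u * g⁻¹) (g * v * g⁻¹) (g * a * g⁻¹) (g * p * g⁻¹)
      (g * q * g⁻¹) m fl := by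
  have key : ∀ {x y : G}, x * y = y * x ↔
      (g * x * g⁻¹) * (g * y * g⁻¹) = (g * y * g⁻¹) * (g * x * g⁻¹) := fun {x y} => by
    simp only [← MulAut.conj_apply, ← map_mul, EmbeddingLike.apply_eq_iff_eq]
  have hc : ∀ x : G, IsConj t x ↔ IsConj t (g * x * g⁻¹) := fun x =>
    ⟨fun h => h.trans (isConj_iff.2 ⟨g, rfl⟩), fun h => h.trans (isConj_iff.2 ⟨g, rfl⟩).symm⟩
  refine Nat.card_congr ((MulAut.conj g).toEquiv.subtypeEquiv fun s => ?_)
  show _ ↔ IsConj t (g * s * g⁻¹) ∧ _ = _ ∧ _ = _ ∧ _ = _ ∧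
    flagG t (g * s * g⁻¹) (g * p * g⁻¹) (g * q * g⁻¹) (g * a * g⁻¹) m = fl
  have e : flagG t (g * s * g⁻¹) (g * p * g⁻¹) (g * q * g⁻¹) (g * a * g⁻¹) m = flagG t s p q a m := by
    classical
    simp only [flagG, show ∀ x y : G, g * x * g⁻¹ * (g * y * g⁻¹) = g * (x * y) * g⁻¹ from
      fun x y => by group, ← hc]
  rw [e]
  exact and_congr (hc s) (and_congr key (and_congr key (and_congr key Iff.rfl)))

theorem tripN_swap (t u v a p q : G) (m fl : ℕ) : tripN t u v a p q m fl = tripN t v u a p q m fl :=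
  Nat.card_congr (Equiv.subtypeEquivRight fun _ => and_congr_right fun _ => and_left_comm)

variable [Finite G]

theorem flag_eq (H : EndHyp G0 t ψ) (hl : Labels pb t ψ) {s p q a : ℕ} (hs : hvalid s = true)
    (hp : hvalid p = true) (hq : hvalid q = true) (ha : hvalid a = true) (m : ℕ) :
    flagG t (ψ s) (ψ p) (ψ q) (ψ a) m = flagM (tT pb) s p q a m := by
  classical
  have key : ∀ {x : ℕ}, hvalid x = true → decide (IsConj t (ψ x)) = tT pb x := fun hx => by
    rw [Bool.eq_iff_iff, decide_eq_true_iff]; exact tT_iff H hl hx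
  simp only [flagG, flagM, ← H.hψ.map_mul _ _ hs hp, ← H.hψ.map_mul _ _ hs hq, ← H.hψ.map_mul _ _ hs ha,
    ← H.hψ.map_mul _ _ (Swap.hvalid_hmul hs ha) hp, ← H.hψ.map_mul _ _ (Swap.hvalid_hmul hs ha) hq,
    key (Swap.hvalid_hmul hs hp), key (Swap.hvalid_hmul hs hq), key (Swap.hvalid_hmul hs ha),
    key (Swap.hvalid_hmul (Swap.hvalid_hmul hs ha) hp), key (Swap.hvalid_hmul (Swap.hvalid_hmul hs ha) hq)]

omit [Finite G] in
theorem tripN_eq [Finite G] (H : EndHyp G0 t ψ) (hl : Labels pb t ψ) {w p q a : ℕ} (hw : hvalid w = true)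
    (hp : hvalid p = true) (hq : hvalid q = true) (ha : hvalid a = true) (m fl : ℕ) :
    tripN t (ψ w) t (ψ a) (ψ p) (ψ q) m fl = cntM pb w p q a m fl := by
  classical
  set L := invTab.filter fun r => pb.getD (rCls r) false &&
    (Nat.beq (hmul (eCode r) w) (hmul w (eCode r)) &&
      (Nat.beq (hmul (eCode r) a) (hmul a (eCode r)) &&
        Nat.beq (flagM (tT pb) (eCode r) p q a m) fl)) with hL
  have hnd : invTab.Nodup := List.Nodup.of_map _ (List.isChain_iff_pairwise.1 tab_sorted).nodup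
  rw [cntM, List.countP_eq_length_filter, ← hL, ← List.toFinset_card_of_nodup (hnd.filter _),
    ← Nat.card_eq_finsetCard, tripN]
  have hlab : ∀ r ∈ invTab, pb.getD (rCls r) false = true ↔ IsConj t (ψ (eCode r)) := fun r hr => by
    rw [fused_iff H.hψ hr, ← hl]; simp [lab, rCls_lt]
  have hmem : ∀ r : L.toFinset, r.1 ∈ invTab ∧ IsConj t (ψ (eCode r.1)) ∧
      ψ w * ψ (eCode r.1) = ψ (eCode r.1) * ψ w ∧ ψ a * ψ (eCode r.1) = ψ (eCode r.1) * ψ a ∧
      flagG t (ψ (eCode r.1)) (ψ p) (ψ q) (ψ a) m = fl := by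
    intro r
    have h := List.mem_toFinset.1 r.2
    simp only [hL, List.mem_filter, Bool.and_eq_true] at h
    obtain ⟨hr, h1, h2, h3, h4⟩ := h
    have hv := (tab_spec r.1 hr).1
    exact ⟨hr, (hlab _ hr).1 h1,
      (Swap.mul_eq_iff H.hψ hw hv hv hw).2 (Nat.eq_of_beq_eq_true h2).symm,
      (Swap.mul_eq_iff H.hψ ha hv hv ha).2 (Nat.eq_of_beq_eq_true h3).symm,
      by rw [flag_eq H hl hv hp hq ha]; exact Nat.eq_of_beq_eq_true h4⟩
  refine (Nat.card_eq_of_bijective (fun r : L.toFinset =>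
    (⟨ψ (eCode r.1), (hmem r).2.1, (hmem r).2.2.1,
      (Swap.ψ_comm_t H.hψ (tab_spec _ (hmem r).1).1).symm, (hmem r).2.2.2.1, (hmem r).2.2.2.2⟩ :
      {s : G // IsConj t s ∧ ψ w * s = s * ψ w ∧ t * s = s * t ∧ ψ a * s = s * ψ a ∧
        flagG t s (ψ p) (ψ q) (ψ a) m = fl})) ⟨?_, ?_⟩).symm
  · intro r r' e
    exact Subtype.ext (code_injOn (hmem r).1 (hmem r').1 (H.hψ.inj _ _ (tab_spec _ (hmem r).1).1
      (tab_spec _ (hmem r').1).1 (congrArg Subtype.val e)))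
  · rintro ⟨s, hs, hsw, hst, hsa, hfl⟩
    obtain ⟨x, hx, rfl⟩ := Swap.code_of_comm H.hψ hst.symm
    obtain ⟨r, hr, rfl⟩ := exists_row H.ht H.hψ hx hs
    refine ⟨⟨r, List.mem_toFinset.2 ?_⟩, rfl⟩
    simp only [hL, List.mem_filter, Bool.and_eq_true]
    refine ⟨hr, (hlab _ hr).2 hs, ?_, ?_, ?_⟩
    · rw [(Swap.mul_eq_iff H.hψ hw hx hx hw).1 hsw]; exact Nat.beq_refl _
    · rw [(Swap.mul_eq_iff H.hψ ha hx hx ha).1 hsa]; exact Nat.beq_refl _
    · rw [flag_eq H hl hx hp hq ha] at hfl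
      rw [hfl]; exact Nat.beq_refl _

theorem good_count (H : EndHyp G0 t ψ) (hl : Labels pb t ψ) (T : TableOK pb ns) {i : ℕ}
    (hi : i < ns.length) (hbig : BigGood G0 ψ ns (nodeAt ns i).el.length) {w : ℕ}
    (h : countOK pb (nodeAt ns i) w = true) : GoodS G0 (pset ψ (nodeAt ns i).el) := by
  by_contra hbad
  simp only [countOK, Bool.and_eq_true, List.all_eq_true, List.any_eq_true, bne_iff_ne] at h
  obtain ⟨hc, hd⟩ := h
  obtain ⟨hw, hwc, hww, hwn⟩ := cosetOK_spec hc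
  obtain ⟨g, hg, a0, ha0, e⟩ := conj_coset H hl T hi hbig hbad hw hwc hww hwn
  obtain ⟨-, -, -, -, -, hall⟩ := elOK_spec (T.el i hi)
  obtain ⟨a, ha, hne⟩ := hd a0 ha0
  have hav := (hall a ha).1
  have hwa := Swap.hvalid_hmul hw (hall a0 ha0).1
  refine hne ?_
  rw [Bool.eq_iff_iff, ← tT_iff H hl (Swap.hvalid_hmul (by decide) hav),
    ← tT_iff H hl (Swap.hvalid_hmul hwa hav), H.hψ.map_mul _ _ (by decide) hav,
    H.hψ.map_mul _ _ hwa hav, H.hψ.map_z, ← e]
  have e2 : g * t * g⁻¹ * ψ a = g * (t * ψ a) * g⁻¹ := by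
    calc g * t * g⁻¹ * ψ a = g * t * g⁻¹ * (ψ a * g) * g⁻¹ := by group
      _ = g * t * g⁻¹ * (g * ψ a) * g⁻¹ := by rw [← mem_nodeCent.1 hg (ψ a) ⟨a, ha, rfl⟩]
      _ = _ := by group
  rw [e2]
  exact ⟨fun h => h.trans (isConj_iff.2 ⟨g, rfl⟩), fun h => h.trans (isConj_iff.2 ⟨g, rfl⟩).symm⟩

theorem good_inv (H : EndHyp G0 t ψ) (hl : Labels pb t ψ) (T : TableOK pb ns) {i : ℕ}
    (hi : i < ns.length) (hbig : BigGood G0 ψ ns (nodeAt ns i).el.length) {w : ℕ}
    {wits : List (ℕ × ℕ × ℕ × ℕ × ℕ)} (h : invOK pb (nodeAt ns i) w wits = true) :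
    GoodS G0 (pset ψ (nodeAt ns i).el) := by
  by_contra hbad
  simp only [invOK, Bool.and_eq_true, List.all_eq_true, Bool.or_eq_true, Bool.not_eq_true',
    List.any_eq_false, List.any_eq_true] at h
  obtain ⟨⟨hc, hnz⟩, hd⟩ := h
  obtain ⟨hw, hwc, hww, hwn⟩ := cosetOK_spec hc
  obtain ⟨g, hg, a0, ha0, e⟩ := conj_coset H hl T hi hbig hbad hw hwc hww hwn
  obtain ⟨-, -, -, -, -, hall⟩ := elOK_spec (T.el i hi)
  have hwa := Swap.hvalid_hmul hw (hall a0 ha0).1
  have hT : tT pb (hmul w a0) = true := (tT_iff H hl hwa).1 (isConj_iff.2 ⟨g, e⟩)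
  have hd' := (hd a0 ha0).resolve_left (by rw [hT]; simp)
  have hgc : ∀ x ∈ (nodeAt ns i).el, g⁻¹ * ψ x * g = ψ x := fun x hx => by
    rw [mul_assoc, ← mem_nodeCent.1 hg (ψ x) ⟨x, hx, rfl⟩, inv_mul_cancel_left]
  have e1 : g⁻¹ * ψ (hmul w a0) * g⁻¹⁻¹ = t := by rw [← e]; group
  have hyt : g⁻¹ * t * g * t = t * (g⁻¹ * t * g) := by
    conv_lhs => arg 2; rw [← e1]
    conv_rhs => arg 1; rw [← e1]
    have := Swap.comm_of_eq_conj (g := g⁻¹) (Swap.ψ_comm_t H.hψ hwa).symm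
    simpa only [inv_inv] using this
  obtain ⟨y, hy, hye⟩ := Swap.code_of_comm H.hψ hyt
  have hymem : y ∈ (nodeAt ns i).cent := by
    refine cent_complete H.hψ T i hi y hy fun a ha => ?_
    refine (Swap.mul_eq_iff H.hψ hy (hall a ha).1 (hall a ha).1 hy).1 ?_
    rw [hye, ← hgc a ha]
    calc g⁻¹ * t * g * (g⁻¹ * ψ a * g) = g⁻¹ * (t * ψ a) * g := by group
      _ = g⁻¹ * (ψ a * t) * g := by rw [Swap.ψ_comm_t H.hψ (hall a ha).1]
      _ = _ := by group
  rcases hd' y hymem with (h' | h') | ⟨⟨x', y', a, m, fl⟩, -, h'⟩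
  · have hyz : y = hZ := Nat.eq_of_beq_eq_true h'
    rw [hyz, H.hψ.map_z] at hye
    have e2 : ψ (hmul w a0) = t := by
      rw [← e]
      conv_lhs => arg 1; arg 2; rw [hye]
      group
    -- then `w` lies in the coset of `hZ`
    have he := H.hψ.inj _ _ hwa (by decide) (e2.trans H.hψ.map_z.symm)
    obtain ⟨A, hA, -, -⟩ := exists_esub H hl (T.el i hi)
    obtain ⟨a1, ha1, e3⟩ : (ψ a0)⁻¹ ∈ pset ψ (nodeAt ns i).el := by
      rw [← hA]; exact inv_mem (hA.symm.subset ⟨a0, ha0, rfl⟩)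
    refine hnz a1 ha1 ?_
    have hz1 : hmul hZ a1 = w := by
      refine H.hψ.inj _ _ (Swap.hvalid_hmul (by decide) (hall a1 ha1).1) hw ?_
      rw [H.hψ.map_mul _ _ (by decide) (hall a1 ha1).1, ← he, H.hψ.map_mul _ _ hw (hall a0 ha0).1, e3,
        mul_inv_cancel_right]
    rw [hz1]; exact Nat.beq_refl _
  · exact Bool.false_ne_true (h'.symm.trans ((tT_iff H hl hy).1 (by
      rw [hye]; exact isConj_iff.2 ⟨g⁻¹, by rw [inv_inv]⟩)))
  · obtain ⟨⟨⟨hx', hy'⟩, ha⟩, hne⟩ := h'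
    obtain rfl : x' = hmul w a0 := Nat.eq_of_beq_eq_true hx'
    have hyy : y' = y := Nat.eq_of_beq_eq_true hy'
    subst y'
    have ha' := memB_iff.1 ha
    have hav := (hall a ha').1
    have key := tripN_conj t (ψ (hmul w a0)) t (ψ a) (ψ (hmul w a0)) t g⁻¹ m fl
    rw [e1, inv_inv, hgc a ha', ← hye, tripN_swap t t (ψ y)] at key
    have h1 := tripN_eq H hl hwa hwa (q := hZ) (by decide) hav m fl
    have h2 := tripN_eq H hl hy (p := hZ) (by decide) hy hav m fl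
    rw [H.hψ.map_z] at h1 h2
    rw [h1, h2] at key
    rw [key] at hne
    simp at hne

theorem good_noncomm (H : EndHyp G0 t ψ) (hl : Labels pb t ψ) (T : TableOK pb ns) {i : ℕ}
    (hi : i < ns.length) (hbig : BigGood G0 ψ ns (nodeAt ns i).el.length) {w1 w2 : ℕ}
    (h : noncommOK (nodeAt ns i) w1 w2 = true) : GoodS G0 (pset ψ (nodeAt ns i).el) := by
  by_contra hbad
  simp only [noncommOK, Bool.and_eq_true, List.all_eq_true, Bool.not_eq_true'] at h
  obtain ⟨⟨⟨hc1, hc2⟩, hd⟩, hexp⟩ := h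
  obtain ⟨hv1, hwc1, hww1, hn1⟩ := cosetOK_spec hc1
  obtain ⟨hv2, hwc2, hww2, hn2⟩ := cosetOK_spec hc2
  obtain ⟨h1, ⟨m, hm⟩, -, h16, hnd, hall⟩ := elOK_spec (T.el i hi)
  have hse0 := exists_se H hl T hi hbig hbad
  obtain ⟨A, hA, -, hAc⟩ := exists_esub H hl (T.el i hi)
  set el := (nodeAt ns i).el
  set K := nodeCent ψ el with hKdef
  obtain ⟨N, hN, Hb, hNm, hHb, hse⟩ := hse0
  haveI := hN
  have hin : ∀ {x}, hvalid x = true → (∀ a ∈ el, hmul x a = hmul a x) → ψ x ∈ K := fun hx hc =>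
    mem_nodeCent.2 fun b hb => by
      obtain ⟨a, ha, rfl⟩ := hb
      exact (Swap.mul_eq_iff H.hψ hx (hall a ha).1 (hall a ha).1 hx).2 (hc a ha)
  have htK : t ∈ K := mem_nodeCent.2 fun b hb => by
    obtain ⟨x, hx, rfl⟩ := hb
    exact (Swap.ψ_comm_t H.hψ (hall x hx).1).symm
  have hord : ∀ k : K, (k : G) * k ∈ pset ψ el → (k : G) ∉ pset ψ el →
      orderOf (QuotientGroup.mk' N k) = 2 := fun k h1 h2 =>
    orderOf_eq_prime (by rw [pow_two, ← map_mul]; exact (QuotientGroup.eq_one_iff _).2 ((hNm _).2 h1))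
      fun e => h2 ((hNm k).1 ((QuotientGroup.eq_one_iff _).1 e))
  have hti := hord ⟨t, htK⟩ ⟨hOne, h1, by rw [Swap.ψ_one H.hψ]; exact H.tt.symm⟩
    (fun ⟨x, hx, e⟩ => Bool.false_ne_true ((hall x hx).2.1.symm.trans
      ((tT_iff H hl (hall x hx).1).1 (by rw [e]))))
  have hwi : ∀ {w} (hw : hvalid w = true) (hc : ∀ a ∈ el, hmul w a = hmul a w),
      hmul w w ∈ el → w ∉ el → orderOf (QuotientGroup.mk' N ⟨ψ w, hin hw hc⟩) = 2 :=
    fun {w} hw hc hww hwn => hord _ ⟨_, hww, H.hψ.map_mul _ _ hw hw⟩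
      (fun ⟨x, hx, e⟩ => hwn (H.hψ.inj _ _ (hall x hx).1 hw e ▸ hx))
  set tb := QuotientGroup.mk' N ⟨t, htK⟩
  set b1 := QuotientGroup.mk' N ⟨ψ w1, hin hv1 hwc1⟩
  set b2 := QuotientGroup.mk' N ⟨ψ w2, hin hv2 hwc2⟩
  have hne : ¬ Commute b1 b2 := by
    intro hcm
    have hcm' : QuotientGroup.mk' N (⟨ψ w1, hin hv1 hwc1⟩ * ⟨ψ w2, hin hv2 hwc2⟩) =
        QuotientGroup.mk' N (⟨ψ w2, hin hv2 hwc2⟩ * ⟨ψ w1, hin hv1 hwc1⟩) := by
      rw [map_mul, map_mul]; exact hcm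
    obtain ⟨a, ha, e⟩ := (hNm _).1 (QuotientGroup.eq.1 hcm'.symm)
    simp only [Subgroup.coe_mul, Subgroup.coe_inv] at e
    have h21 := Swap.hvalid_hmul hv2 hv1
    have h' : hmul w1 w2 = hmul (hmul w2 w1) a := by
      refine H.hψ.inj _ _ (Swap.hvalid_hmul hv1 hv2) (Swap.hvalid_hmul h21 (hall a ha).1) ?_
      rw [H.hψ.map_mul _ _ h21 (hall a ha).1, H.hψ.map_mul _ _ hv1 hv2, H.hψ.map_mul _ _ hv2 hv1, e]
      group
    have h'' := hd a ha
    rw [h'] at h''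
    simp at h''
  have htc : ∀ {w} (hw : hvalid w = true) (hc : ∀ a ∈ el, hmul w a = hmul a w),
      Commute (QuotientGroup.mk' N ⟨ψ w, hin hw hc⟩) tb := fun hw _ => by
    show _ * _ = _ * _
    rw [← map_mul, ← map_mul]
    exact congrArg _ (Subtype.ext (Swap.ψ_comm_t H.hψ hw))
  have hr : ∃ c, orderOf c = 2 ∧ c ≠ tb ∧ Commute c tb := by
    by_cases hb : b1 = tb
    · exact ⟨b2, hwi hv2 hwc2 hww2 hn2, fun e => hne (by rw [hb, e]), htc hv2 hwc2⟩
    · exact ⟨b1, hwi hv1 hwc1 hww1 hn1, hb, htc hv1 hwc1⟩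
  have h2 : IsPGroup 2 (Subgroup.centralizer ({tb} : Set (K ⧸ N))) := by
    rintro ⟨x, hx⟩
    obtain ⟨k, rfl⟩ := QuotientGroup.mk'_surjective N x
    have hcomm := Subgroup.mem_centralizer_singleton_iff.1 hx
    rw [← map_mul, ← map_mul] at hcomm
    have hmemA := (hNm _).1 (QuotientGroup.eq.1 hcomm.symm)
    rw [← hA] at hmemA
    simp only [Subgroup.coe_mul, Subgroup.coe_inv] at hmemA
    set b := (t * (k : G))⁻¹ * ((k : G) * t)
    have hkb : (k : G) * t * (k : G)⁻¹ = t * b := by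
      have hkc : (k : G) * b = b * k := mem_nodeCent.1 k.2 b (hA.subset hmemA)
      calc (k : G) * t * (k : G)⁻¹ = t * ((k : G) * b) * (k : G)⁻¹ := by simp only [b]; group
        _ = t * b := by rw [hkc]; group
    have hstep : ∀ n : ℕ, (k : G) ^ n * t * ((k : G) ^ n)⁻¹ = t * b ^ n := by
      intro n
      induction n with
      | zero => simp
      | succ n ih =>
        have hkc : (k : G) * b ^ n = b ^ n * k := mem_nodeCent.1 k.2 _ (hA.subset (pow_mem hmemA n))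
        calc (k : G) ^ (n + 1) * t * ((k : G) ^ (n + 1))⁻¹
            = (k : G) * ((k : G) ^ n * t * ((k : G) ^ n)⁻¹) * (k : G)⁻¹ := by rw [pow_succ']; group
          _ = (k : G) * t * ((k : G)⁻¹ * ((k : G) * b ^ n)) * (k : G)⁻¹ := by rw [ih]; group
          _ = (k : G) * t * (k : G)⁻¹ * b ^ n := by rw [hkc]; group
          _ = t * b ^ (n + 1) := by rw [hkb, pow_succ', mul_assoc]
    have hb16 : b ^ 16 = 1 := by
      have h := orderOf_dvd_natCard (⟨b, hmemA⟩ : A)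
      rw [hAc, hm] at h
      have hm4 : 2 ^ m ∣ 2 ^ 4 := pow_dvd_pow 2 (by
        by_contra hcon
        have := Nat.pow_le_pow_right (show 2 > 0 by norm_num) (show 5 ≤ m by omega)
        omega)
      exact congrArg Subtype.val (orderOf_dvd_iff_pow_eq_one.1 (h.trans hm4))
    have hct : (k : G) ^ 16 * t = t * (k : G) ^ 16 := by
      have h := hstep 16
      rw [hb16, mul_one, mul_inv_eq_iff_eq_mul] at h
      exact h
    obtain ⟨x, hx, hxe⟩ := Swap.code_of_comm H.hψ hct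
    have hxc := cent_complete H.hψ T i hi x hx fun a ha => by
      refine (Swap.mul_eq_iff H.hψ hx (hall a ha).1 (hall a ha).1 hx).1 ?_
      rw [hxe]
      exact (Commute.pow_left (show Commute (k : G) (ψ a) from mem_nodeCent.1 k.2 _ ⟨a, ha, rfl⟩) 16)
    have h256 := congrArg ψ (Nat.eq_of_beq_eq_true (hexp x hxc))
    have sqv : ∀ {y}, hvalid y = true → ψ (sq1 y) = ψ y ^ 2 ∧ hvalid (sq1 y) = true := fun hy =>
      ⟨by rw [sq1, H.hψ.map_mul _ _ hy hy, pow_two], Swap.hvalid_hmul hy hy⟩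
    rw [Swap.ψ_one H.hψ, (sqv (sqv (sqv (sqv hx).2).2).2).1, (sqv (sqv (sqv hx).2).2).1,
      (sqv (sqv hx).2).1, (sqv hx).1, hxe, ← pow_mul, ← pow_mul, ← pow_mul, ← pow_mul] at h256
    refine ⟨8, Subtype.ext ?_⟩
    simp only [SubmonoidClass.coe_pow, OneMemClass.coe_one]
    rw [← map_pow, show k ^ 2 ^ 8 = 1 from Subtype.ext (by simpa using h256), _root_.map_one]
  have htH : tb ∈ Hb := (hHb _).2 H.t_mem
  exact hne (se_commute hse htH hti h2 hr b1 ((hHb _).2 (H.psi_mem hv1)) b2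
    ((hHb _).2 (H.psi_mem hv2)) (hwi hv1 hwc1 hww1 hn1) (hwi hv2 hwc2 hww2 hn2))

end CfsgLib.InvChar.HeRec.Tri
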