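import Cfsg.Agent.Lib.InvChar.HeRec.Trichotomy.EndCrit

/-!
# All nodes are good, so the subgroup is everything
-/

set_option autoImplicit false
set_option maxRecDepth 100000

namespace CfsgLib.InvChar.HeRec.Tri

open Fus

/-- The criterion used at a node; `other` is left to a separate argument. -/
inductive Kind : Type
  | count (w : ℕ)
  | inv (w : ℕ) (wits : List (ℕ × ℕ × ℕ × ℕ × ℕ))
  | noncomm (w1 w2 : ℕ)
  | other

/-- The node is of the remaining kind. -/
def Kind.isOther : Kind → Bool
  | .other => true
  | _ => false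

/-- The check of a criterion. -/
def kindOK (pb : List Bool) (n : Node) : Kind → Bool
  | .count w => countOK pb n w
  | .inv w wits => invOK pb n w wits
  | .noncomm w1 w2 => noncommOK n w1 w2
  | .other => true

/-- The kind of a node. -/
def kindAt (ks : List Kind) (i : ℕ) : Kind := ks.getD i .other

variable {G : Type*} [Group G] [Finite G] {G0 : Subgroup G} {t : G} {ψ : ℕ → G} {pb : List Bool}
  {ns : List Node} {ks : List Kind}

/-- All nodes are good. -/
theorem good_all (H : EndHyp G0 t ψ) (hl : Labels pb t ψ) (T : TableOK pb ns)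
    (hk : ∀ i < ns.length, kindOK pb (nodeAt ns i) (kindAt ks i) = true)
    (hother : ∀ i < ns.length, (kindAt ks i).isOther = true →
      BigGood G0 ψ ns (nodeAt ns i).el.length →
      (∀ j < ns.length, (kindAt ks j).isOther = false →
        (nodeAt ns j).el.length = (nodeAt ns i).el.length → GoodS G0 (pset ψ (nodeAt ns j).el)) →
      GoodS G0 (pset ψ (nodeAt ns i).el)) :
    ∀ i < ns.length, GoodS G0 (pset ψ (nodeAt ns i).el) := by
  have hlen : ∀ i < ns.length, (nodeAt ns i).el.length ≤ 16 := fun i hi => (elOK_spec (T.el i hi)).2.2.2.1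
  suffices h : ∀ m, ∀ i < ns.length, 16 - (nodeAt ns i).el.length = m →
      GoodS G0 (pset ψ (nodeAt ns i).el) from fun i hi => h _ i hi rfl
  intro m
  induction m using Nat.strong_induction_on with
  | _ m ih =>
    intro i hi him
    have hbig : ∀ {n : ℕ}, n = (nodeAt ns i).el.length → BigGood G0 ψ ns n := fun hn j hj hj' => by
      refine ih _ ?_ j hj rfl
      have := hlen j hj; have := hlen i hi; omega
    have hsame : ∀ j < ns.length, (kindAt ks j).isOther = false →
        (nodeAt ns j).el.length = (nodeAt ns i).el.length → GoodS G0 (pset ψ (nodeAt ns j).el) := by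
      intro j hj hjo hjl
      have h := hk j hj
      cases e : kindAt ks j with
      | count w => rw [e] at h; exact good_count H hl T hj (hbig hjl) h
      | inv w wits => rw [e] at h; exact good_inv H hl T hj (hbig hjl) h
      | noncomm w1 w2 => rw [e] at h; exact good_noncomm H hl T hj (hbig hjl) h
      | other => rw [e] at hjo; exact Bool.noConfusion hjo
    by_cases ho : (kindAt ks i).isOther = true
    · exact hother i hi ho (hbig rfl) hsame
    · exact hsame i hi (by simpa using ho) rfl

/-- The subgroup is everything. -/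
theorem top_of_nodes (H : EndHyp G0 t ψ) (hl : Labels pb t ψ) (T : TableOK pb ns)
    (hgood : ∀ i < ns.length, GoodS G0 (pset ψ (nodeAt ns i).el)) : G0 = ⊤ := by
  classical
  by_contra hne
  have : Fact (Nat.Prime 2) := ⟨Nat.prime_two⟩
  have hse : Cfsg.IsStronglyEmbedded G0 := by
    refine CfsgLib.Recog.Co3Inv.stronglyEmbedded_of_control hne H.t_mem H.ht fun x hx hx2 g hg => ?_
    by_cases hc : IsConj t x
    · exact H.control hx hc hg
    have hxx : x * x = 1 := by rw [← pow_two, ← hx2, pow_orderOf_eq_one]
    obtain ⟨s, hs, hsc, hsx⟩ := H.exists_t (T := Subgroup.zpowers x) ((Subgroup.zpowers_le).2 hx)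
      (IsPGroup.of_card (n := 1) (by rw [Nat.card_zpowers, hx2, pow_one]))
    set y := g * x * g⁻¹
    have hy2 : orderOf y = 2 := by rw [CfsgLib.Invol.orderOf_conj_eq, hx2]
    have hP : IsPure G0 t (Subgroup.zpowers y) := by
      refine ⟨(Subgroup.zpowers_le).2 hg, IsPGroup.of_card (n := 1) (by rw [Nat.card_zpowers, hy2, pow_one]),
        fun a ha b hb => ?_, ?_, ?_⟩
      · obtain ⟨i, rfl⟩ := Subgroup.mem_zpowers_iff.1 ha
        obtain ⟨j, rfl⟩ := Subgroup.mem_zpowers_iff.1 hb
        exact (Commute.zpow_zpow (Commute.refl y) i j)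
      · intro a ha h
        obtain ⟨i, rfl⟩ := Subgroup.mem_zpowers_iff.1 ha
        have hyy : y * y = 1 := by rw [← pow_two, ← hy2, pow_orderOf_eq_one]
        rcases Int.even_or_odd' i with ⟨k, rfl | rfl⟩
        · rw [zpow_mul, zpow_ofNat, pow_two, hyy, one_zpow] at h
          obtain ⟨c, hc'⟩ := isConj_iff.1 h
          have ht1 : t = 1 := by
            calc t = c⁻¹ * (c * t * c⁻¹) * c := by group
              _ = 1 := by rw [hc']; group
          have h2 := H.ht
          rw [ht1, orderOf_one] at h2
          norm_num at h2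
        · rw [zpow_add, zpow_mul, zpow_ofNat, pow_two, hyy, one_zpow, one_mul, zpow_one] at h
          exact hc (h.trans (isConj_iff.2 ⟨g, rfl⟩).symm)
      · rw [Subgroup.zpowers_ne_bot]
        intro e; rw [e, orderOf_one] at hy2; norm_num at hy2
    refine H.control hs hsc (good_of_nodes H hl T hP (fun j hj _ => hgood j hj) _ ?_)
    intro b hb
    obtain ⟨i, rfl⟩ := Subgroup.mem_zpowers_iff.1 hb
    refine (Commute.zpow_right (?_ : Commute (g * s * g⁻¹) y) i)
    show g * s * g⁻¹ * (g * x * g⁻¹) = g * x * g⁻¹ * (g * s * g⁻¹)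
    exact Swap.comm_of_eq_conj (hsx x (Subgroup.mem_zpowers x))
  obtain ⟨f5, -⟩ := fused_high H.ht H.hψ
  have hv : hvalid (reps.getD 5 0) = true := by decide
  have h2 : orderOf (ψ (reps.getD 5 0)) = 2 := by
    refine orderOf_eq_prime ?_ fun e => ?_
    · rw [pow_two, ← H.hψ.map_mul _ _ hv hv,
        show hmul (reps.getD 5 0) (reps.getD 5 0) = hOne by decide, Swap.ψ_one H.hψ]
    · exact absurd (H.hψ.inj _ _ hv (by decide) (e.trans (Swap.ψ_one H.hψ).symm))
        (show reps.getD 5 0 ≠ hOne by decide)
  have := CfsgLib.Invol.se_isConj hse H.ht h2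
  simp only [fused, decide_eq_false_iff_not] at f5
  exact f5 this

/-- The labels from the five bits. -/
theorem labels_of_bits (ht : orderOf t = 2) (hψ : IsFrame t ψ) {b0 b1 b2 b3 b4 : Bool}
    (hb : bits (fused t ψ) = [b0, b1, b2, b3, b4]) :
    Labels [b0, b1, b2, b3, b4, false, false, true] t ψ := by
  simp only [bits, List.range_succ, List.range_zero, List.nil_append, List.cons_append,
    List.map_cons, List.map_nil, List.cons.injEq, and_true] at hb
  obtain ⟨e0, e1, e2, e3, e4⟩ := hb
  obtain ⟨f5, f6⟩ := fused_high ht hψ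
  intro k
  by_cases h : k < 8
  · interval_cases k <;> simp [lab, e0, e1, e2, e3, e4, f5, f6, fused_seven hψ]
  · simp [lab, h]

end CfsgLib.InvChar.HeRec.Tri
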