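import Cfsg.Agent.Lib.InvChar.HeRec.Trichotomy.EndStep
import Cfsg.Agent.Lib.InvChar.HeRec.Trichotomy.SeLemmas

/-!
# The last nodes of the affine pattern

The conjugates of `t` in the centraliser of `t` are the fifteen non-trivial elements of an elementary
abelian group `E` normalised by `G0`.  An element of odd order centralising a node acts linearly on
`E` commuting with the node; if every such map fixes `t` after a two-power, the node is good by the
transitivity of a two point stabiliser on involutions.  If `t` is isolated modulo the node, an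
element of the model normalising the node splits the inverted subgroup into two centralisers.
-/

set_option autoImplicit false
set_option maxRecDepth 100000

namespace CfsgLib.InvChar.HeRec.Tri

open Fus

/-- The elementary abelian group of order sixteen; the index of a product is the exclusive or. -/
def eList : List ℕ :=
  [273, 785, 1297, 1809, 2321, 2833, 3345, 3857, 33041, 33553, 34065, 34577, 35089, 35601, 36113,
    36625]

/-- The element of `eList` with an index. -/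
def eAt (k : ℕ) : ℕ := eList.getD k 0

theorem eList_table : ∀ a < 16, hvalid (eAt a) = true ∧
    ∀ b < 16, Nat.beq (hmul (eAt a) (eAt b)) (eAt (a ^^^ b)) = true := by decide +kernel

theorem eList_nodup : eList.Nodup := by decide

/-- The rows of the classes two and seven lie in `eList`. -/
theorem eList_rows : ∀ r ∈ invTab, rCls r = 2 ∨ rCls r = 7 → eCode r ∈ eList := by decide +kernel

/-- The linear map with given images of the four basis indices. -/
def lin4 (r : List ℕ) (k : ℕ) : ℕ :=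
  ((k &&& 1) * r.getD 0 0) ^^^ (((k >>> 1) &&& 1) * r.getD 1 0) ^^^
    (((k >>> 2) &&& 1) * r.getD 2 0) ^^^ (((k >>> 3) &&& 1) * r.getD 3 0)

/-- All lists of the given length of indices from one to fifteen. -/
def cands : ℕ → List (List ℕ)
  | 0 => [[]]
  | r + 1 => (cands r).flatMap fun l => (List.range' 1 15).map fun x => x :: l

/-- The data of a linear node: a coset, generators of `E` as a module, the action of some elements
of the node on the basis, and the basis as sums of images of generators. -/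
structure LinData where
  w : ℕ
  gens : List ℕ
  acts : List (ℕ × List ℕ)
  der : List (List (ℕ × ℕ))

/-- The value of a derivation on given images of the generators. -/
def derVal (d : LinData) (fs : List ℕ) (m : ℕ) : ℕ :=
  (d.der.getD m []).foldr (fun p acc => lin4 (d.acts.getD p.1 (0, [])).2 (fs.getD p.2 0) ^^^ acc) 0

/-- A linear map is no equivariant bijection, or its sixteenth power fixes `hZ`. -/
def mapOK (d : LinData) (bs : List ℕ) : Bool :=
  !(([1, 2, 4, 8] : List ℕ).all (fun b => d.acts.all fun a =>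
      Nat.beq (lin4 bs (lin4 a.2 b)) (lin4 a.2 (lin4 bs b))) &&
    (List.range' 1 15).all fun k => !Nat.beq (lin4 bs k) 0) ||
  Nat.beq ((lin4 bs)^[16] 8) 8

/-- The checker of a linear node. -/
def linCheck (ns : List Node) (i : ℕ) (d : LinData) : Bool :=
  let n := nodeAt ns i
  hvalid d.w && n.el.all (fun a => Nat.beq (hmul d.w a) (hmul a d.w)) &&
  memB n.el (hmul d.w d.w) && !memB n.el d.w && !memB n.el (hmul hZ d.w) &&
  n.cent.all (fun x => hvalid x && Nat.beq (sq1 (sq1 (sq1 (sq1 x)))) hOne) &&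
  d.acts.all (fun a => memB n.el a.1 && (List.range 4).all fun m =>
    Nat.blt (a.2.getD m 0) 16 &&
      Nat.beq (hmul a.1 (eAt (2 ^ m))) (hmul (eAt (a.2.getD m 0)) a.1)) &&
  d.gens.all (fun g => Nat.blt g 16 && !Nat.beq g 0) &&
  (List.range 4).all (fun m => (d.der.getD m []).all (fun p =>
    Nat.blt p.1 d.acts.length && Nat.blt p.2 d.gens.length) &&
      Nat.beq (derVal d d.gens m) (2 ^ m)) &&
  (cands d.gens.length).all fun fs => mapOK d ((List.range 4).map (derVal d fs))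

/-- The data of an isolated node: an element normalising it and two nodes with conjugators. -/
structure IsoData where
  s : ℕ
  j₁ : ℕ
  c₁ : ℕ
  j₂ : ℕ
  c₂ : ℕ

/-- The node `j` is conjugate into the node `el` extended by `w`. -/
def intoOK (ns : List Node) (el : List ℕ) (w j c : ℕ) : Bool :=
  decide (j < ns.length) && hvalid c && (nodeAt ns j).el.all fun f => hvalid f && el.any fun a =>
    Nat.beq (hmul f c) (hmul c a) || Nat.beq (hmul f c) (hmul c (hmul a w))

/-- The checker of an isolated node. -/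
def isoCheck (pb : List Bool) (ns : List Node) (i : ℕ) (d : IsoData) : Bool :=
  let n := nodeAt ns i
  eList.all (fun e => Nat.beq e hOne || tT pb e) &&
  n.cent.all (fun x => memB n.el x || memB n.el (hmul hZ x)) &&
  hvalid d.s && memB n.el (hmul d.s d.s) &&
  n.el.all (fun a => n.el.any fun b => Nat.beq (hmul d.s a) (hmul b d.s)) &&
  intoOK ns n.el d.s d.j₁ d.c₁ && intoOK ns n.el (hmul d.s hZ) d.j₂ d.c₂

theorem cands_mem : ∀ (fs : List ℕ), (∀ x ∈ fs, 1 ≤ x ∧ x < 16) → fs ∈ cands fs.length := by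
  intro fs
  induction fs with
  | nil => simp [cands]
  | cons a l ih =>
    intro h
    simp only [List.length_cons, cands, List.mem_flatMap, List.mem_map, List.mem_range'_1]
    exact ⟨l, ih fun x hx => h x (List.mem_cons_of_mem _ hx), a,
      h a (List.mem_cons_self ..), rfl⟩

theorem lin4_id : ∀ k < 16, lin4 [1, 2, 4, 8] k = k := by decide

theorem sel_lt {c x : ℕ} (hc : c ≤ 1) (hx : x < 16) : c * x < 16 := by
  interval_cases c <;> omega

theorem lin4_lt {r : List ℕ} (hr : ∀ m < 4, r.getD m 0 < 16) (k : ℕ) : lin4 r k < 16 := by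
  have h : ∀ j m, m < 4 → ((k >>> j) &&& 1) * r.getD m 0 < 2 ^ 4 := fun j m hm =>
    sel_lt Nat.and_le_right (hr m hm)
  have h0 : (k &&& 1) * r.getD 0 0 < 2 ^ 4 := sel_lt Nat.and_le_right (hr 0 (by norm_num))
  exact Nat.xor_lt_two_pow (Nat.xor_lt_two_pow (Nat.xor_lt_two_pow h0
    (h 1 1 (by norm_num))) (h 2 2 (by norm_num))) (h 3 3 (by norm_num))

variable {G : Type*} [Group G] {G0 : Subgroup G} {t : G} {ψ : ℕ → G} {pb : List Bool}
  {ns : List Node}

theorem eAt_mul (hψ : IsFrame t ψ) {a b : ℕ} (ha : a < 16) (hb : b < 16) :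
    ψ (eAt (a ^^^ b)) = ψ (eAt a) * ψ (eAt b) := by
  rw [← Nat.eq_of_beq_eq_true ((eList_table a ha).2 b hb)]
  exact hψ.map_mul _ _ (eList_table a ha).1 (eList_table b hb).1

theorem eAt_inj (hψ : IsFrame t ψ) {a b : ℕ} (ha : a < 16) (hb : b < 16)
    (h : ψ (eAt a) = ψ (eAt b)) : a = b := by
  have e := hψ.inj _ _ (eList_table a ha).1 (eList_table b hb).1 h
  have la : a < eList.length := ha
  have lb : b < eList.length := hb
  rw [eAt, eAt, List.getD_eq_getElem _ _ la, List.getD_eq_getElem _ _ lb] at e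
  exact eList_nodup.getElem_inj_iff.1 e

theorem eAt_one (hψ : IsFrame t ψ) : ψ (eAt 0) = 1 := Swap.ψ_one hψ

theorem eAt_mem {a : ℕ} (ha : a < 16) : eAt a ∈ eList := by
  have la : a < eList.length := ha
  rw [eAt, List.getD_eq_getElem _ _ la]
  exact List.getElem_mem _

theorem exists_eAt {e : ℕ} (he : e ∈ eList) : ∃ a < 16, eAt a = e := by
  obtain ⟨a, ha, rfl⟩ := List.getElem_of_mem he
  exact ⟨a, ha, List.getD_eq_getElem _ _ ha⟩

/-- Conjugation by an element sending the basis into `E` is linear. -/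
theorem conj_lin (hψ : IsFrame t ψ) {g : G} {r : List ℕ} (hr : ∀ m < 4, r.getD m 0 < 16)
    (hg : ∀ m < 4, g * ψ (eAt (2 ^ m)) * g⁻¹ = ψ (eAt (r.getD m 0))) {k : ℕ} (hk : k < 16) :
    g * ψ (eAt k) * g⁻¹ = ψ (eAt (lin4 r k)) := by
  have key : ∀ c m, c ≤ 1 → m < 4 →
      g * ψ (eAt (c * 2 ^ m)) * g⁻¹ = ψ (eAt (c * r.getD m 0)) := by
    intro c m hc hm
    interval_cases c
    · rw [zero_mul, zero_mul, eAt_one hψ, mul_one, mul_inv_cancel]
    · rw [one_mul, one_mul, hg m hm]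
  have hpow : ∀ c m, c ≤ 1 → m < 4 → c * 2 ^ m < 16 := fun c m hc hm =>
    sel_lt hc (by interval_cases m <;> norm_num)
  have hb : ∀ j, (k >>> j) &&& 1 ≤ 1 := fun j => Nat.and_le_right
  have h0 : k &&& 1 ≤ 1 := Nat.and_le_right
  have hid : k = ((k &&& 1) * 2 ^ 0) ^^^ (((k >>> 1) &&& 1) * 2 ^ 1) ^^^
      (((k >>> 2) &&& 1) * 2 ^ 2) ^^^ (((k >>> 3) &&& 1) * 2 ^ 3) := (lin4_id k hk).symm
  have a0 := hpow _ 0 h0 (by norm_num)
  have a1 := hpow _ 1 (hb 1) (by norm_num)
  have a2 := hpow _ 2 (hb 2) (by norm_num)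
  have a3 := hpow _ 3 (hb 3) (by norm_num)
  have b0 := sel_lt h0 (hr 0 (by norm_num))
  have b1 := sel_lt (hb 1) (hr 1 (by norm_num))
  have b2 := sel_lt (hb 2) (hr 2 (by norm_num))
  have b3 := sel_lt (hb 3) (hr 3 (by norm_num))
  have a01 := Nat.xor_lt_two_pow (n := 4) a0 a1
  have b01 := Nat.xor_lt_two_pow (n := 4) b0 b1
  have a012 := Nat.xor_lt_two_pow (n := 4) a01 a2
  have b012 := Nat.xor_lt_two_pow (n := 4) b01 b2
  conv_lhs => rw [hid]
  rw [lin4, eAt_mul hψ a012 a3, eAt_mul hψ a01 a2, eAt_mul hψ a0 a1,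
    eAt_mul hψ b012 b3, eAt_mul hψ b01 b2, eAt_mul hψ b0 b1,
    ← key _ 0 h0 (by norm_num), ← key _ 1 (hb 1) (by norm_num),
    ← key _ 2 (hb 2) (by norm_num), ← key _ 3 (hb 3) (by norm_num)]
  group

theorem conj_iter {g : G} {r : List ℕ} (hr : ∀ m < 4, r.getD m 0 < 16)
    (hg : ∀ k < 16, g * ψ (eAt k) * g⁻¹ = ψ (eAt (lin4 r k))) {k : ℕ} (hk : k < 16) (j : ℕ) :
    (lin4 r)^[j] k < 16 ∧ g ^ j * ψ (eAt k) * (g ^ j)⁻¹ = ψ (eAt ((lin4 r)^[j] k)) := by
  induction j with
  | zero => simp [hk]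
  | succ j ih =>
    rw [Function.iterate_succ', Function.comp_apply]
    refine ⟨lin4_lt hr _, ?_⟩
    rw [← hg _ ih.1, ← ih.2, pow_succ']
    group

/-- An element of odd order is a power of its square. -/
theorem mem_of_sq_mem {H : Subgroup G} {n : G} (ho : Odd (orderOf n)) {e : ℕ}
    (h : n ^ 2 ^ e ∈ H) : n ∈ H := by
  obtain ⟨m, hm⟩ := exists_pow_eq_self_of_coprime (n := 2 ^ e) (x := n)
    ((Nat.coprime_two_left.2 ho).pow_left e)
  rw [← hm]
  exact pow_mem h m

section Finite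

variable [Finite G]

/-- The elements of a node have exponent dividing sixteen. -/
theorem pset_pow (H : EndHyp G0 t ψ) (hl : Labels pb t ψ) {n : Node} (h : elOK pb n = true) {g : G}
    (hg : g ∈ pset ψ n.el) : g ^ 16 = 1 := by
  obtain ⟨A, hA, -, hAc⟩ := exists_esub H hl h
  obtain ⟨-, ⟨e, he⟩, -, hle, -, -⟩ := elOK_spec h
  have hgA : g ∈ A := hA.symm.subset hg
  have he4 : e ≤ 4 := (Nat.pow_le_pow_iff_right (le_refl 2)).1
    (show 2 ^ e ≤ 2 ^ 4 by omega)
  obtain ⟨c, hc⟩ : Nat.card A ∣ 16 := by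
    rw [hAc, he]; exact pow_dvd_pow 2 he4
  have h1 : (⟨g, hgA⟩ : A) ^ Nat.card A = 1 := pow_card_eq_one'
  have h2 : g ^ Nat.card A = 1 := congrArg Subtype.val h1
  rw [hc, pow_mul, h2, one_pow]

/-- The sixteenth power of an element which is odd modulo a node has odd order. -/
theorem odd_lift (H : EndHyp G0 t ψ) (hl : Labels pb t ψ) {n : Node} (h : elOK pb n = true) {k : G}
    {m : ℕ} (hm : Odd m) (hk : k ^ m ∈ pset ψ n.el) : Odd (orderOf (k ^ 16)) := by
  refine hm.of_dvd_nat (orderOf_dvd_of_pow_eq_one ?_)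
  rw [← pow_mul, mul_comm, pow_mul, pset_pow H hl h hk]

/-- A linear node is good. -/
theorem good_linear (H : EndHyp G0 t ψ) (hl : Labels pb t ψ) (T : TableOK pb ns)
    (hE : ∀ g ∈ G0, ∀ e ∈ eList, ∃ f ∈ eList, g * ψ e * g⁻¹ = ψ f) {i : ℕ} (hi : i < ns.length)
    (hbig : BigGood G0 ψ ns (nodeAt ns i).el.length) {d : LinData}
    (hc : linCheck ns i d = true) : GoodS G0 (pset ψ (nodeAt ns i).el) := by
  by_contra hbad
  obtain ⟨h1, -, -, -, -, hall⟩ := elOK_spec (T.el i hi)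
  have hse0 := exists_se H hl T hi hbig hbad
  simp only [linCheck, Bool.and_eq_true, List.all_eq_true, Bool.not_eq_true', memB_iff,
    List.mem_range] at hc
  obtain ⟨⟨⟨⟨⟨⟨⟨⟨⟨hwv, hwc⟩, hww⟩, hwn⟩, hwz⟩, hcent⟩, hacts⟩, hgens⟩, hder⟩, hcands⟩ := hc
  set el := (nodeAt ns i).el
  set K := nodeCent ψ el
  obtain ⟨N, hN, Hb, hNm, hHb, hse⟩ := hse0
  haveI := hN
  have hwn' : d.w ∉ el := fun h => by simp [memB_iff.2 h] at hwn
  have hwz' : hmul hZ d.w ∉ el := fun h => by simp [memB_iff.2 h] at hwz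
  have htK : t ∈ K := mem_nodeCent.2 fun b hb => by
    obtain ⟨x, hx, rfl⟩ := hb
    exact (Swap.ψ_comm_t H.hψ (hall x hx).1).symm
  have hwK : ψ d.w ∈ K := mem_nodeCent.2 fun b hb => by
    obtain ⟨x, hx, rfl⟩ := hb
    exact (Swap.mul_eq_iff H.hψ hwv (hall x hx).1 (hall x hx).1 hwv).2
      (Nat.eq_of_beq_eq_true (hwc x hx))
  have hord : ∀ k : K, (k : G) * k ∈ pset ψ el → (k : G) ∉ pset ψ el →
      orderOf (QuotientGroup.mk' N k) = 2 := fun k h1 h2 =>
    orderOf_eq_prime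
      (by rw [pow_two, ← map_mul]; exact (QuotientGroup.eq_one_iff _).2 ((hNm _).2 h1))
      fun e => h2 ((hNm k).1 ((QuotientGroup.eq_one_iff _).1 e))
  have hti := hord ⟨t, htK⟩ ⟨hOne, h1, by rw [Swap.ψ_one H.hψ]; exact H.tt.symm⟩
    (fun ⟨x, hx, e⟩ => Bool.false_ne_true ((hall x hx).2.1.symm.trans
      ((tT_iff H hl (hall x hx).1).1 (by rw [e]))))
  have hwi := hord ⟨ψ d.w, hwK⟩ ⟨_, hww, H.hψ.map_mul _ _ hwv hwv⟩
    (fun ⟨x, hx, e⟩ => hwn' (H.hψ.inj _ _ (hall x hx).1 hwv e ▸ hx))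
  -- a two point stabiliser
  obtain ⟨g, -, hg⟩ := SetLike.exists_of_lt hse.1.lt_top
  have hxy : ((1 : K ⧸ N) : (K ⧸ N) ⧸ Hb) ≠ (g : (K ⧸ N) ⧸ Hb) := by
    rw [Ne, QuotientGroup.eq, inv_one, one_mul]
    exact hg
  have hfix : ∀ r : K ⧸ N, r • ((1 : K ⧸ N) : (K ⧸ N) ⧸ Hb) = ((1 : K ⧸ N) : (K ⧸ N) ⧸ Hb) ↔
      r ∈ Hb := fun r => by
    rw [CfsgLib.Invol.fix_coset_iff, inv_one, one_mul, mul_one]
  obtain ⟨δ, hδx, hδy, hδ⟩ := CfsgLib.Invol.se_stab_transitive hse hxy hti hwi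
    ((hfix _).2 ((hHb _).2 H.t_mem)) ((hfix _).2 ((hHb _).2 (H.psi_mem hwv)))
  have hodd : Odd (orderOf δ) := by
    have hmem := CfsgLib.Invol.mem_inter_conj_iff.2 ⟨hδx, hδy⟩
    exact (hse.2.2 g hg).of_dvd_nat (Subgroup.orderOf_dvd_natCard _ hmem)
  obtain ⟨k, rfl⟩ := QuotientGroup.mk'_surjective N δ
  have hkG : (k : G) ∈ G0 := (hHb k).1 ((hfix _).1 hδx)
  have hkN : (k : G) ^ orderOf (QuotientGroup.mk' N k) ∈ pset ψ el := by
    have h := (QuotientGroup.eq_one_iff (N := N) (k ^ orderOf (QuotientGroup.mk' N k))).1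
      (by
        show QuotientGroup.mk' N _ = 1
        rw [map_pow, pow_orderOf_eq_one])
    simpa using (hNm _).1 h
  have hko := odd_lift H hl (T.el i hi) hodd hkN
  set k' : G := (k : G) ^ 16 with hk'
  have hk'G : k' ∈ G0 := pow_mem hkG 16
  have hk'K : ∀ a ∈ el, k' * ψ a = ψ a * k' := fun a ha =>
    mem_nodeCent.1 (pow_mem k.2 16) _ ⟨a, ha, rfl⟩
  -- the action on `E`
  have hσex : ∀ a, ∃ b, b < 16 ∧ (a < 16 → k' * ψ (eAt a) * k'⁻¹ = ψ (eAt b)) := by
    intro a
    by_cases ha : a < 16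
    · obtain ⟨f, hf, e⟩ := hE k' hk'G _ (eAt_mem ha)
      obtain ⟨b, hb, rfl⟩ := exists_eAt hf
      exact ⟨b, hb, fun _ => e⟩
    · exact ⟨0, by norm_num, fun h => absurd h ha⟩
  choose σ hσlt hσ using hσex
  set bs : List ℕ := (List.range 4).map fun m => σ (2 ^ m) with hbs
  have hbsget : ∀ m < 4, bs.getD m 0 = σ (2 ^ m) := fun m hm => by
    rw [hbs, List.getD_eq_getElem _ _ (by simpa using hm)]
    simp
  have hbslt : ∀ m < 4, bs.getD m 0 < 16 := fun m hm => by rw [hbsget m hm]; exact hσlt _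
  have hσlin : ∀ a < 16, k' * ψ (eAt a) * k'⁻¹ = ψ (eAt (lin4 bs a)) := fun a ha =>
    conj_lin H.hψ hbslt (fun m hm => by
      rw [hbsget m hm]
      exact hσ _ (by interval_cases m <;> norm_num)) ha
  have hrow : ∀ p ∈ d.acts, p.1 ∈ el ∧ (∀ m < 4, p.2.getD m 0 < 16) ∧
      ∀ a < 16, ψ p.1 * ψ (eAt a) * (ψ p.1)⁻¹ = ψ (eAt (lin4 p.2 a)) := by
    intro p hp
    obtain ⟨hpe, hp4⟩ := hacts p hp
    have hlt : ∀ m < 4, p.2.getD m 0 < 16 := fun m hm => by
      have h := (hp4 m hm).1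
      simpa [Nat.blt_eq] using h
    refine ⟨hpe, hlt, fun a ha => conj_lin H.hψ hlt (fun m hm => ?_) ha⟩
    rw [mul_inv_eq_iff_eq_mul]
    exact (Swap.mul_eq_iff H.hψ (hall _ hpe).1 (eList_table _ (by interval_cases m <;> norm_num)).1
      (eList_table _ (hlt m hm)).1 (hall _ hpe).1).2 (Nat.eq_of_beq_eq_true (hp4 m hm).2)
  have hequi : ∀ p ∈ d.acts, ∀ a < 16, lin4 bs (lin4 p.2 a) = lin4 p.2 (lin4 bs a) := by
    intro p hp a ha
    obtain ⟨hpe, hlt, hpa⟩ := hrow p hp
    refine eAt_inj H.hψ (lin4_lt hbslt _) (lin4_lt hlt _) ?_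
    rw [← hσlin _ (lin4_lt hlt _), ← hpa a ha, ← hpa _ (lin4_lt hbslt _), ← hσlin a ha]
    have hc := hk'K _ hpe
    calc k' * (ψ p.1 * ψ (eAt a) * (ψ p.1)⁻¹) * k'⁻¹
        = (k' * ψ p.1) * ψ (eAt a) * (k' * ψ p.1)⁻¹ := by group
      _ = (ψ p.1 * k') * ψ (eAt a) * (ψ p.1 * k')⁻¹ := by rw [hc]
      _ = _ := by group
  have hadd : ∀ a < 16, ∀ b < 16, lin4 bs (a ^^^ b) = lin4 bs a ^^^ lin4 bs b := by
    intro a ha b hb
    refine eAt_inj H.hψ (lin4_lt hbslt _)
      (Nat.xor_lt_two_pow (n := 4) (lin4_lt hbslt _) (lin4_lt hbslt _)) ?_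
    rw [← hσlin _ (Nat.xor_lt_two_pow (n := 4) ha hb), eAt_mul H.hψ ha hb,
      eAt_mul H.hψ (lin4_lt hbslt _) (lin4_lt hbslt _), ← hσlin a ha, ← hσlin b hb]
    group
  have hzero : lin4 bs 0 = 0 := by simp [lin4]
  have hactget : ∀ q < d.acts.length, d.acts.getD q (0, []) ∈ d.acts := fun q hq => by
    rw [List.getD_eq_getElem _ _ hq]
    exact List.getElem_mem _
  set fs : List ℕ := d.gens.map (lin4 bs) with hfs
  have hderv : ∀ m < 4, derVal d fs m = lin4 bs (2 ^ m) := by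
    intro m hm
    obtain ⟨hp, hv⟩ := hder m hm
    rw [← Nat.eq_of_beq_eq_true hv]
    simp only [derVal]
    clear hv
    generalize d.der.getD m [] = L at hp ⊢
    induction L with
    | nil => simp [hzero]
    | cons p l ih =>
      obtain ⟨hp1, hp2⟩ : p.1 < d.acts.length ∧ p.2 < d.gens.length := by
        simpa [Nat.blt_eq] using hp p (List.mem_cons_self ..)
      obtain ⟨-, hlt, -⟩ := hrow _ (hactget _ hp1)
      have hg16 : d.gens.getD p.2 0 < 16 := by
        rw [List.getD_eq_getElem _ _ hp2]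
        simpa [Nat.blt_eq] using (hgens _ (List.getElem_mem hp2)).1
      have hfold : ∀ q ∈ l, q.1 < d.acts.length := fun q hq => by
        have := hp q (List.mem_cons_of_mem _ hq)
        simp [Nat.blt_eq] at this
        exact this.1
      rw [List.foldr_cons, List.foldr_cons, ih (fun q hq => hp q (List.mem_cons_of_mem _ hq)),
        hadd _ (lin4_lt hlt _) _ ?_, hequi _ (hactget _ hp1) _ hg16]
      · congr 2
        rw [hfs, List.getD_eq_getElem _ _ (by simpa using hp2), List.getD_eq_getElem _ _ hp2]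
        simp
      · clear ih hp
        induction l with
        | nil => norm_num
        | cons q l' ih' =>
          rw [List.foldr_cons]
          exact Nat.xor_lt_two_pow (n := 4)
            (lin4_lt (hrow _ (hactget _ (hfold q (List.mem_cons_self ..)))).2.1 _)
            (ih' fun r hr => hfold r (List.mem_cons_of_mem _ hr))
  have hpos : ∀ a, 1 ≤ a → a < 16 → lin4 bs a ≠ 0 := by
    intro a ha1 ha h0
    have h := hσlin a ha
    rw [h0, eAt_one H.hψ, conj_eq_one_iff, ← eAt_one H.hψ] at h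
    have := eAt_inj H.hψ ha (by norm_num) h
    omega
  have hfsmem : fs ∈ cands d.gens.length := by
    have h := cands_mem fs (fun x hx => by
      obtain ⟨g, hg', rfl⟩ := List.mem_map.1 hx
      obtain ⟨hglt, hg0⟩ : g < 16 ∧ g ≠ 0 := by
        obtain ⟨ha, hb⟩ := hgens g hg'
        exact ⟨by simpa [Nat.blt_eq] using ha, fun e => by simp [e] at hb⟩
      exact ⟨Nat.one_le_iff_ne_zero.2 (hpos g (by omega) hglt), lin4_lt hbslt _⟩)
    rwa [hfs, List.length_map] at h
  have hmap := hcands fs hfsmem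
  rw [show (List.range 4).map (derVal d fs) = bs from List.map_congr_left fun m hm => by
    rw [hderv m (List.mem_range.1 hm), ← hbsget m (List.mem_range.1 hm)]
    have h := hσlin (2 ^ m) (by have := List.mem_range.1 hm; interval_cases m <;> norm_num)
    refine eAt_inj H.hψ (lin4_lt hbslt _) (hbslt m (List.mem_range.1 hm)) ?_
    rw [← h, hbsget m (List.mem_range.1 hm)]
    exact hσ _ (by have := List.mem_range.1 hm; interval_cases m <;> norm_num)] at hmap
  have hbeq : ∀ {a b : ℕ}, a = b → Nat.beq a b = true := fun e => e ▸ Nat.beq_refl _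
  simp only [mapOK, Bool.or_eq_true, Bool.not_eq_true'] at hmap
  rcases hmap with hmap | hmap
  · refine Bool.false_ne_true (hmap.symm.trans ?_)
    simp only [Bool.and_eq_true, List.all_eq_true, Bool.not_eq_true', List.mem_range'_1]
    refine ⟨fun b hb p hp => hbeq (hequi p hp b ?_), fun a ha => ?_⟩
    · simp at hb
      omega
    · by_contra hcon
      rw [Bool.not_eq_false] at hcon
      exact hpos a ha.1 (by omega) (Nat.eq_of_beq_eq_true hcon)
  · have h16 := (conj_iter hbslt hσlin (k := 8) (by norm_num) 16).2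
    rw [Nat.eq_of_beq_eq_true hmap, show eAt 8 = hZ from rfl, H.hψ.map_z,
      mul_inv_eq_iff_eq_mul] at h16
    -- so the element is trivial
    have hk't : k' * t = t * k' := Subgroup.mem_centralizer_singleton_iff.1
      (mem_of_sq_mem (H := Subgroup.centralizer ({t} : Set G)) hko (e := 4)
        (Subgroup.mem_centralizer_singleton_iff.2 h16))
    obtain ⟨x, hx, hxk⟩ := Swap.code_of_comm H.hψ hk't
    have hxc : x ∈ (nodeAt ns i).cent := cent_complete H.hψ T i hi x hx fun a ha =>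
      (Swap.mul_eq_iff H.hψ hx (hall a ha).1 (hall a ha).1 hx).1 (by rw [hxk]; exact hk'K a ha)
    have hv : ∀ {y}, hvalid y = true → hvalid (sq1 y) = true := fun h => Swap.hvalid_hmul h h
    have hsq : ∀ {y}, hvalid y = true → ψ (sq1 y) = ψ y ^ 2 := fun h => by
      rw [pow_two]; exact H.hψ.map_mul _ _ h h
    have hx16 := congrArg ψ (Nat.eq_of_beq_eq_true (hcent x hxc).2)
    rw [hsq (hv (hv (hv hx))), hsq (hv (hv hx)), hsq (hv hx), hsq hx, Swap.ψ_one H.hψ, hxk,
      ← pow_mul, ← pow_mul, ← pow_mul] at hx16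
    have hk'1 : k' = 1 :=
      Subgroup.mem_bot.1 (mem_of_sq_mem (H := ⊥) hko (e := 4) (Subgroup.mem_bot.2 hx16))
    have hδ1 : QuotientGroup.mk' N k = 1 := by
      refine Subgroup.mem_bot.1 (mem_of_sq_mem (H := ⊥) hodd (e := 4) (Subgroup.mem_bot.2 ?_))
      rw [← map_pow, QuotientGroup.mk'_apply, QuotientGroup.eq_one_iff, hNm]
      refine ⟨hOne, h1, ?_⟩
      rw [Swap.ψ_one H.hψ, SubmonoidClass.coe_pow]
      exact hk'1.symm
    rw [hδ1, one_mul, inv_one, mul_one] at hδ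
    obtain ⟨a, ha, e⟩ := (hNm _).1 (QuotientGroup.eq.1 hδ)
    simp only [Subgroup.coe_mul, Subgroup.coe_inv] at e
    refine hwz' ?_
    rw [inv_eq_of_mul_eq_one_right H.tt, ← H.hψ.map_z,
      ← H.hψ.map_mul _ _ (by decide) hwv] at e
    rw [← H.hψ.inj _ _ (hall a ha).1 (Swap.hvalid_hmul (by decide) hwv) e]
    exact ha

omit [Finite G] in
/-- An element centralising a node and `w` centralises a conjugate of the node `j`. -/
theorem into_spec (H : EndHyp G0 t ψ) {el : List ℕ} (hv : ∀ a ∈ el, hvalid a = true) {w j c : ℕ}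
    (hw : hvalid w = true) (hgood : GoodS G0 (pset ψ (nodeAt ns j).el))
    (hinto : intoOK ns el w j c = true) {x : G} (hxA : ∀ a ∈ el, x * ψ a = ψ a * x)
    (hxw : x * ψ w = ψ w * x) : x ∈ G0 := by
  simp only [intoOK, Bool.and_eq_true, List.all_eq_true, List.any_eq_true, Bool.or_eq_true,
    decide_eq_true_eq] at hinto
  obtain ⟨⟨-, hc⟩, hall⟩ := hinto
  have key : ψ c * x * (ψ c)⁻¹ ∈ G0 := by
    refine hgood _ ?_
    rintro _ ⟨f, hf, rfl⟩
    obtain ⟨hfv, a, ha, he⟩ := hall f hf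
    obtain ⟨y, hy, e⟩ : ∃ y, x * y = y * x ∧ ψ f = ψ c * y * (ψ c)⁻¹ := by
      rcases he with he | he
      · refine ⟨ψ a, hxA a ha, ?_⟩
        rw [eq_mul_inv_iff_mul_eq]
        exact (Swap.mul_eq_iff H.hψ hfv hc hc (hv a ha)).2 (Nat.eq_of_beq_eq_true he)
      · refine ⟨ψ (hmul a w), ?_, ?_⟩
        · rw [H.hψ.map_mul _ _ (hv a ha) hw, ← mul_assoc, hxA a ha, mul_assoc, hxw, mul_assoc]
        · rw [eq_mul_inv_iff_mul_eq]
          exact (Swap.mul_eq_iff H.hψ hfv hc hc (Swap.hvalid_hmul (hv a ha) hw)).2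
            (Nat.eq_of_beq_eq_true he)
    rw [e]
    calc ψ c * x * (ψ c)⁻¹ * (ψ c * y * (ψ c)⁻¹) = ψ c * (x * y) * (ψ c)⁻¹ := by group
      _ = ψ c * (y * x) * (ψ c)⁻¹ := by rw [hy]
      _ = _ := by group
  have hcm := H.psi_mem hc
  have := mul_mem (mul_mem (inv_mem hcm) key) hcm
  rwa [show (ψ c)⁻¹ * (ψ c * x * (ψ c)⁻¹) * ψ c = x by group] at this

/-- A node modulo which `t` is isolated is good. -/
theorem good_isolated (H : EndHyp G0 t ψ) (hl : Labels pb t ψ) (T : TableOK pb ns)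
    (hE : ∀ g ∈ G0, ∀ e ∈ eList, ∃ f ∈ eList, g * ψ e * g⁻¹ = ψ f) {i : ℕ} (hi : i < ns.length)
    {d : IsoData} (h₁ : GoodS G0 (pset ψ (nodeAt ns d.j₁).el))
    (h₂ : GoodS G0 (pset ψ (nodeAt ns d.j₂).el)) (hc : isoCheck pb ns i d = true) :
    GoodS G0 (pset ψ (nodeAt ns i).el) := by
  obtain ⟨hone, -, -, -, -, hall⟩ := elOK_spec (T.el i hi)
  obtain ⟨A, hA, hAP, -⟩ := exists_esub H hl (T.el i hi)
  simp only [isoCheck, Bool.and_eq_true, List.all_eq_true, List.any_eq_true, Bool.or_eq_true,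
    memB_iff] at hc
  obtain ⟨⟨⟨⟨⟨⟨hET, hcent⟩, hsv⟩, hss⟩, hnorm⟩, hw1⟩, hw2⟩ := hc
  have h16 : ∀ {g : G}, g ∈ A → g ^ 16 = 1 := fun hg => pset_pow H hl (T.el i hi) (hA.subset hg)
  set el := (nodeAt ns i).el
  set K := nodeCent ψ el
  have hmemA : ∀ {g : G}, g ∈ A ↔ ∃ a ∈ el, ψ a = g := fun {g} => by
    rw [← SetLike.mem_coe, hA]; rfl
  have hKA : ∀ {k : G}, k ∈ K → ∀ a ∈ A, k * a = a * k := fun hk a ha =>
    mem_nodeCent.1 hk a (hA.subset ha)
  have hAK : ∀ {a : G}, a ∈ A → a ∈ K := fun ha =>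
    mem_nodeCent.2 fun b hb => hAP.comm _ ha b (hA.symm.subset hb)
  by_contra hbad
  obtain ⟨g, hgK, hgG⟩ : ∃ g, g ∈ K ∧ g ∉ G0 := by
    by_contra hcon
    push Not at hcon
    exact hbad fun g hg => hcon g (mem_nodeCent.2 hg)
  let N : Subgroup K := A.subgroupOf K
  have hNn : N.Normal := ⟨fun x hx y => by
    rw [Subgroup.mem_subgroupOf] at hx ⊢
    simp only [Subgroup.coe_mul, Subgroup.coe_inv]
    rwa [hKA y.2 _ hx, mul_inv_cancel_right]⟩
  have htK : t ∈ K := mem_nodeCent.2 fun b hb => by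
    obtain ⟨x, hx, rfl⟩ := hb
    exact (Swap.ψ_comm_t H.hψ (hall x hx).1).symm
  have htA : t ∉ A := fun h => hAP.pure t h (IsConj.refl t)
  have hmk : ∀ {k l : K}, QuotientGroup.mk' N k = QuotientGroup.mk' N l ↔ (k : G)⁻¹ * l ∈ A := by
    intro k l
    rw [QuotientGroup.mk'_apply, QuotientGroup.mk'_apply, QuotientGroup.eq,
      Subgroup.mem_subgroupOf]
    simp
  have hu : orderOf (QuotientGroup.mk' N ⟨t, htK⟩) = 2 := by
    refine orderOf_eq_prime ?_ fun e => htA ?_
    · rw [pow_two, ← map_mul, ← map_one (QuotientGroup.mk' N), hmk]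
      simp [H.tt]
    · rw [← map_one (QuotientGroup.mk' N), eq_comm, hmk] at e
      simpa using e
  -- the centraliser of `t` modulo the node has order two
  have hcu : ∀ r : K ⧸ N, Commute r (QuotientGroup.mk' N ⟨t, htK⟩) →
      r = 1 ∨ r = QuotientGroup.mk' N ⟨t, htK⟩ := by
    intro r hr
    obtain ⟨k, rfl⟩ := QuotientGroup.mk'_surjective N r
    have hr' : QuotientGroup.mk' N (⟨t, htK⟩ * k) = QuotientGroup.mk' N (k * ⟨t, htK⟩) := by
      rw [map_mul, map_mul, hr.eq]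
    rw [hmk] at hr'
    simp only [Subgroup.coe_mul] at hr'
    obtain ⟨b, hb, e⟩ : ∃ b ∈ A, (k : G) * t * (k : G)⁻¹ = t * b := ⟨_, hr', by
      rw [show t * ((t * (k : G))⁻¹ * ((k : G) * t)) = t * ((k : G)⁻¹ * (t⁻¹ * (k : G) * t)) by
        group]
      have hcm := hKA k.2 _ hr'
      rw [show (k : G) * ((t * (k : G))⁻¹ * ((k : G) * t)) = t⁻¹ * ((k : G) * t) by group] at hcm
      calc (k : G) * t * (k : G)⁻¹ = t * (t⁻¹ * ((k : G) * t)) * (k : G)⁻¹ := by group
        _ = t * ((t * (k : G))⁻¹ * ((k : G) * t) * (k : G)) * (k : G)⁻¹ := by rw [hcm]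
        _ = _ := by group⟩
    have hkG : (k : G) ∈ G0 :=
      H.control H.t_mem (IsConj.refl t) (by rw [e]; exact mul_mem H.t_mem (hAP.le hb))
    obtain ⟨f, hf, ef⟩ := hE _ hkG hZ (by decide)
    rw [H.hψ.map_z, e] at ef
    obtain ⟨a, ha, rfl⟩ := hmemA.1 hb
    obtain ⟨m, hm, rfl⟩ := exists_eAt hf
    have ha' : ψ a = ψ (eAt (8 ^^^ m)) := by
      rw [eAt_mul H.hψ (by norm_num) hm, show eAt 8 = hZ from rfl, H.hψ.map_z, ← ef, ← mul_assoc,
        H.tt, one_mul]
    have hlt : 8 ^^^ m < 16 := Nat.xor_lt_two_pow (n := 4) (by norm_num) hm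
    have hae := H.hψ.inj _ _ (hall a ha).1 (eList_table _ hlt).1 ha'
    have hkt : (k : G) * t = t * k := by
      have h1 : ψ a = 1 := by
        rcases hET _ (eAt_mem hlt) with h | h
        · rw [ha', Nat.eq_of_beq_eq_true h, Swap.ψ_one H.hψ]
        · rw [← hae, (hall a ha).2.1] at h
          exact absurd h Bool.false_ne_true
      rw [h1, mul_one, mul_inv_eq_iff_eq_mul] at e
      exact e
    obtain ⟨x, hx, hxk⟩ := Swap.code_of_comm H.hψ hkt
    have hxc : x ∈ (nodeAt ns i).cent := cent_complete H.hψ T i hi x hx fun a ha =>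
      (Swap.mul_eq_iff H.hψ hx (hall a ha).1 (hall a ha).1 hx).1 (by
        rw [hxk]; exact hKA k.2 _ (hmemA.2 ⟨a, ha, rfl⟩))
    rcases hcent x hxc with h | h
    · left
      rw [← map_one (QuotientGroup.mk' N), eq_comm, hmk]
      simpa using hmemA.2 ⟨x, h, hxk⟩
    · right
      rw [eq_comm, hmk]
      have h' := hmemA.2 ⟨_, h, H.hψ.map_mul _ _ (by decide) hx⟩
      rw [H.hψ.map_z, hxk] at h'
      simpa [inv_eq_of_mul_eq_one_right H.tt] using h'
  obtain ⟨hdec, hab⟩ := isolated_inverted hu hcu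
  obtain ⟨n0, hn0, hninv, hgn⟩ := hdec (QuotientGroup.mk' N ⟨g, hgK⟩)
  obtain ⟨k, rfl⟩ := QuotientGroup.mk'_surjective N n0
  -- an element of odd order outside `G0` inverted by `t`
  set n : G := (k : G) ^ 16 with hn
  have hnK : n ∈ K := pow_mem k.2 16
  have hkpow : (k : G) ^ orderOf (QuotientGroup.mk' N k) ∈ A := by
    have h := (QuotientGroup.eq_one_iff (N := N) (k ^ orderOf (QuotientGroup.mk' N k))).1
      (by
        show QuotientGroup.mk' N _ = 1
        rw [map_pow, pow_orderOf_eq_one])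
    simpa [N, Subgroup.mem_subgroupOf] using h
  have hno : Odd (orderOf n) := odd_lift H hl (T.el i hi) hn0 (hA.subset hkpow)
  have hnG : n ∉ G0 := by
    intro h
    have hk : (k : G) ∈ G0 := by
      obtain ⟨m, hm⟩ := exists_pow_eq_self_of_coprime (n := 16) (x := QuotientGroup.mk' N k)
        ((Nat.coprime_two_left.2 hn0).pow_left 4)
      rw [← map_pow, ← map_pow, hmk] at hm
      simp only [SubmonoidClass.coe_pow] at hm
      have h' := mul_mem (pow_mem h m) (hAP.le hm)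
      rwa [hn, mul_inv_cancel_left] at h'
    apply hgG
    rcases hgn with e | e
    · rw [eq_comm, hmk] at e
      simpa using mul_mem hk (hAP.le e)
    · rw [← map_mul, eq_comm, hmk] at e
      simp only [Subgroup.coe_mul] at e
      simpa [mul_assoc] using mul_mem (mul_mem hk H.t_mem) (hAP.le e)
  have hnt : t * n * t⁻¹ = n⁻¹ := by
    rw [← map_inv, ← map_mul, ← map_mul, ← map_inv, eq_comm, hmk] at hninv
    simp only [Subgroup.coe_mul, Subgroup.coe_inv, inv_inv] at hninv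
    have e : t * (k : G) * t⁻¹ = (k : G)⁻¹ * ((k : G) * (t * (k : G) * t⁻¹)) := by group
    have hcm : Commute (k : G)⁻¹ ((k : G) * (t * (k : G) * t⁻¹)) := hKA (inv_mem k.2) _ hninv
    rw [hn, ← conj_pow, e, hcm.mul_pow, h16 hninv, mul_one, inv_pow]
  -- the element normalising the node
  have hsv' : ψ d.s * t = t * ψ d.s := Swap.ψ_comm_t H.hψ hsv
  set S : G := ψ d.s with hS
  have hs2 : S * S ∈ A := hmemA.2 ⟨_, hss, H.hψ.map_mul _ _ hsv hsv⟩
  have hconjA : ∀ a ∈ A, S * a * S⁻¹ ∈ A := by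
    intro a ha
    obtain ⟨a, ha', rfl⟩ := hmemA.1 ha
    obtain ⟨b, hb, e⟩ := hnorm a ha'
    refine hmemA.2 ⟨b, hb, ?_⟩
    rw [eq_mul_inv_iff_mul_eq]
    exact ((Swap.mul_eq_iff H.hψ hsv (hall a ha').1 (hall b hb).1 hsv).2
      (Nat.eq_of_beq_eq_true e)).symm
  have hSS : ∀ x, x ∈ K → S * (S * x * S⁻¹) * S⁻¹ = x := fun x hx => by
    calc S * (S * x * S⁻¹) * S⁻¹ = S * S * x * (S * S)⁻¹ := by group
      _ = x := by rw [← hKA hx _ hs2, mul_inv_cancel_right]
  set m : G := S * n * S⁻¹ with hm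
  have hmK : m ∈ K := mem_nodeCent.2 fun b hb => by
    have hb' : b ∈ A := hA.symm.subset hb
    have e := hSS b (hAK hb')
    calc m * b = S * n * S⁻¹ * (S * (S * b * S⁻¹) * S⁻¹) := by rw [e]
      _ = S * (n * (S * b * S⁻¹)) * S⁻¹ := by group
      _ = S * ((S * b * S⁻¹) * n) * S⁻¹ := by rw [hKA hnK _ (hconjA b hb')]
      _ = S * (S * b * S⁻¹) * S⁻¹ * m := by rw [hm]; group
      _ = _ := by rw [e]
  have hmo : Odd (orderOf m) := by rw [hm, CfsgLib.Invol.orderOf_conj_eq]; exact hno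
  have hmt : t * m * t⁻¹ = m⁻¹ := by
    have hc' : Commute S t := hsv'
    calc t * m * t⁻¹ = (t * S) * n * (t * S)⁻¹ := by rw [hm]; group
      _ = (S * t) * n * (S * t)⁻¹ := by rw [hc'.eq]
      _ = S * (t * n * t⁻¹) * S⁻¹ := by group
      _ = m⁻¹ := by rw [hnt, hm]; group
  have hcm : Commute n m := by
    have h := hab (QuotientGroup.mk' N ⟨n, hnK⟩) (QuotientGroup.mk' N ⟨m, hmK⟩)
      (hno.of_dvd_nat (by
        rw [← Subgroup.orderOf_mk n hnK]; exact orderOf_map_dvd _ _))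
      (hmo.of_dvd_nat (by
        rw [← Subgroup.orderOf_mk m hmK]; exact orderOf_map_dvd _ _))
      (by rw [← map_inv, ← map_mul, ← map_mul, ← map_inv]; exact congrArg _ (Subtype.ext hnt))
      (by rw [← map_inv, ← map_mul, ← map_mul, ← map_inv]; exact congrArg _ (Subtype.ext hmt))
    have h' : QuotientGroup.mk' N (⟨m, hmK⟩ * ⟨n, hnK⟩) =
        QuotientGroup.mk' N (⟨n, hnK⟩ * ⟨m, hmK⟩) := by
      rw [map_mul, map_mul, h.eq]
    rw [hmk] at h'
    simp only [Subgroup.coe_mul] at h'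
    set c : G := (m * n)⁻¹ * (n * m) with hcdef
    have e : n * m * n⁻¹ = m * c := by
      rw [hcdef]
      calc n * m * n⁻¹ = m * n * ((m * n)⁻¹ * (n * m)) * n⁻¹ := by group
        _ = m * ((m * n)⁻¹ * (n * m)) * n * n⁻¹ := by
          rw [mul_assoc m n, hKA hnK _ h', ← mul_assoc]
        _ = _ := by group
    have hmc : Commute m c := hKA hmK _ h'
    have hco : orderOf c ∣ orderOf m := by
      refine orderOf_dvd_of_pow_eq_one ?_
      have := congrArg (· ^ orderOf m) e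
      simp only [conj_pow, pow_orderOf_eq_one, mul_one, mul_inv_cancel, hmc.mul_pow,
        one_mul] at this
      exact this.symm
    have hc1 : c = 1 := Subgroup.mem_bot.1
      (mem_of_sq_mem (H := ⊥) (hmo.of_dvd_nat hco) (e := 4) (Subgroup.mem_bot.2 (h16 h')))
    rw [hc1, mul_one, mul_inv_eq_iff_eq_mul] at e
    exact e
  have hSm : S * m * S⁻¹ = n := hSS n hnK
  -- two centralisers generate
  have hsum : n * m ∈ G0 := by
    refine into_spec H (fun a ha => (hall a ha).1) hsv h₁ hw1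
      (fun a ha => hKA (mul_mem hnK hmK) _ (hmemA.2 ⟨a, ha, rfl⟩)) ?_
    rw [eq_comm, ← mul_inv_eq_iff_eq_mul]
    calc S * (n * m) * S⁻¹ = (S * n * S⁻¹) * (S * m * S⁻¹) := by group
      _ = n * m := by rw [← hm, hSm, hcm.eq]
  have hdif : n * m⁻¹ ∈ G0 := by
    refine into_spec H (fun a ha => (hall a ha).1) (Swap.hvalid_hmul hsv (by decide)) h₂ hw2
      (fun a ha => hKA (mul_mem hnK (inv_mem hmK)) _ (hmemA.2 ⟨a, ha, rfl⟩)) ?_
    rw [H.hψ.map_mul _ _ hsv (by decide), H.hψ.map_z, eq_comm, ← mul_inv_eq_iff_eq_mul]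
    calc S * t * (n * m⁻¹) * (S * t)⁻¹
        = S * ((t * n * t⁻¹) * (t * m * t⁻¹)⁻¹) * S⁻¹ := by group
      _ = (S * n * S⁻¹)⁻¹ * (S * m * S⁻¹) := by rw [hnt, hmt]; group
      _ = n * m⁻¹ := by rw [← hm, hSm]; exact hcm.symm.inv_left.eq
  refine hnG (mem_of_sq_mem hno (e := 1) ?_)
  have h := mul_mem hsum hdif
  rwa [show n * m * (n * m⁻¹) = n ^ 2 ^ 1 by
    calc n * m * (n * m⁻¹) = n * (m * n) * m⁻¹ := by group
      _ = n * (n * m) * m⁻¹ := by rw [hcm.eq]
      _ = n ^ 2 ^ 1 := by rw [pow_one, pow_two]; group] at h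

end Finite

end CfsgLib.InvChar.HeRec.Tri
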