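import Cfsg.Agent.Lib.InvChar.HeRec.Trichotomy.EndMathieuData

/-!
# The endgame in the mathieu pattern
-/

set_option autoImplicit false
set_option maxRecDepth 100000

namespace CfsgLib.InvChar.HeRec.Tri

open Fus

theorem mathieu_el : ∀ i < mathieuNodes.length, elOK mathieuPat (nodeAt mathieuNodes i) = true := by decide +kernel

theorem mathieu_cent : ∀ i < mathieuNodes.length, centOK mathieuNodes i = true := by decide +kernel

theorem mathieu_edges : ∀ i < mathieuNodes.length, edgesOK mathieuPat mathieuNodes i = true := by decide +kernel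

theorem mathieu_roots : rootsOK mathieuPat mathieuNodes = true := by decide +kernel

theorem mathieu_kinds : ∀ i < mathieuNodes.length,
    kindOK mathieuPat (nodeAt mathieuNodes i) (kindAt mathieuKinds i) = true ∧
      (kindAt mathieuKinds i).isOther = false := by
  decide +kernel

/-- The subgroup is the whole group. -/
theorem eq_top_mathieu {G : Type*} [Group G] [Finite G] {G0 : Subgroup G} {t : G} {ψ : ℕ → G}
    (H : EndHyp G0 t ψ) (hb : bits (fused t ψ) = [true, true, true, false, true]) : G0 = ⊤ :=
  top_of_nodes H (labels_of_bits H.ht H.hψ hb) ⟨mathieu_el, mathieu_cent, mathieu_edges, mathieu_roots⟩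
    (good_all H (labels_of_bits H.ht H.hψ hb) ⟨mathieu_el, mathieu_cent, mathieu_edges, mathieu_roots⟩
      (fun i hi => (mathieu_kinds i hi).1)
      (fun i hi ho => absurd ho (by rw [(mathieu_kinds i hi).2]; exact Bool.false_ne_true)))

end CfsgLib.InvChar.HeRec.Tri
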