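import Cfsg.Agent.Lib.InvChar.HeRec.Trichotomy.EndBase
import Mathlib.GroupTheory.Index

/-!
# Certificates for the abelian two-subgroups without conjugates of `t`

A node lists such a subgroup of the model up to conjugacy, with its centraliser in the model and the
classes of its extensions of index two.
-/

set_option autoImplicit false
set_option maxRecDepth 100000

namespace CfsgLib.InvChar.HeRec.Tri

open Fus

/-- A node: the elements, the centraliser in the model, the origin (`(0, k)` for the class `k`, else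
`(i + 1, z)` for node `i` extended by `z`) and the extensions `(z, conjugator, target)`. -/
structure Node where
  el : List ℕ
  cent : List ℕ
  org : ℕ × ℕ
  edges : List (ℕ × ℕ × ℕ)

/-- The label of a code in a pattern. -/
def tT (pb : List Bool) (x : ℕ) : Bool := pb.getD (fcl x) false

/-- Membership in a list of codes. -/
def memB : List ℕ → ℕ → Bool
  | [], _ => false
  | a :: l, x => Nat.beq a x || memB l x

theorem memB_iff : ∀ {l : List ℕ} {x : ℕ}, memB l x = true ↔ x ∈ l := by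
  intro l x
  induction l with
  | nil => simp [memB]
  | cons a l ih => simp [memB, ih, eq_comm (a := x)]

/-- The default node. -/
def noNode : Node := ⟨[], [], (0, 0), []⟩

/-- The node of a list. -/
def nodeAt (ns : List Node) (i : ℕ) : Node := ns.getD i noNode

/-- The elements form a pure abelian subgroup of two-power order. -/
def elOK (pb : List Bool) (n : Node) : Bool :=
  memB n.el hOne && [2, 4, 8, 16].elem n.el.length && decide n.el.Nodup &&
    n.el.all fun a => hvalid a && !tT pb a &&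
      n.el.all fun b => memB n.el (hmul a b) && Nat.beq (hmul a b) (hmul b a)

/-- The centraliser list is right. -/
def centOK (ns : List Node) (i : ℕ) : Bool :=
  let n := nodeAt ns i
  match n.org with
  | (0, k) => decide (k < 7) && n.el == [hOne, reps.getD k 0] &&
      n.cent == (Swap.hScan fun A => mulA A (reps.getD k 0 % 512) == mulA (reps.getD k 0 % 512) A).filter
        fun x => hmul x (reps.getD k 0) == hmul (reps.getD k 0) x
  | (p + 1, z) => decide (p < i) && memB n.el z && hvalid z &&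
      (nodeAt ns p).el.all (memB n.el) &&
      n.cent == (nodeAt ns p).cent.filter fun x => hmul x z == hmul z x

/-- Every extension without conjugates of `t` is listed. -/
def edgesOK (pb : List Bool) (ns : List Node) (i : ℕ) : Bool :=
  let n := nodeAt ns i
  (n.cent.all fun z =>
    !memB n.el (hmul z z) || memB n.el z || n.el.any (fun a => tT pb (hmul z a)) ||
      n.edges.any fun e => n.el.any fun a => Nat.beq (hmul z a) e.1) &&
  n.edges.all fun e =>
    let m := (nodeAt ns e.2.2).el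
    decide (e.2.2 < ns.length) && hvalid e.1 && hvalid e.2.1 &&
      Nat.beq m.length (2 * n.el.length) &&
      n.el.all fun x => m.any (fun f => Nat.beq (hmul e.2.1 x) (hmul f e.2.1)) &&
        m.any (fun f => Nat.beq (hmul e.2.1 (hmul e.1 x)) (hmul f e.2.1))

/-- Each unfused class has its node. -/
def rootsOK (pb : List Bool) (ns : List Node) : Bool :=
  (List.range 7).all fun k => pb.getD k false || ns.any fun n => n.el == [hOne, reps.getD k 0]

variable {G : Type*} [Group G]

/-- The subgroup of the elements of a node, as a set. -/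
def pset (ψ : ℕ → G) (el : List ℕ) : Set G := {g | ∃ x ∈ el, ψ x = g}

/-- The centraliser of a set is inside `G0`. -/
def GoodS (G0 : Subgroup G) (s : Set G) : Prop := ∀ g : G, (∀ b ∈ s, g * b = b * g) → g ∈ G0

/-- An abelian two-subgroup of `G0` without conjugates of `t`. -/
structure IsPure (G0 : Subgroup G) (t : G) (B : Subgroup G) : Prop where
  le : B ≤ G0
  two : IsPGroup 2 B
  comm : ∀ x ∈ B, ∀ y ∈ B, x * y = y * x
  pure : ∀ x ∈ B, ¬ IsConj t x
  ne : B ≠ ⊥

/-- The tables are checked. -/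
structure TableOK (pb : List Bool) (ns : List Node) : Prop where
  el : ∀ i < ns.length, elOK pb (nodeAt ns i) = true
  cent : ∀ i < ns.length, centOK ns i = true
  edges : ∀ i < ns.length, edgesOK pb ns i = true
  roots : rootsOK pb ns = true

variable {G0 : Subgroup G} {t : G} {ψ : ℕ → G} {pb : List Bool} {ns : List Node}

/-- The pattern is the one of the group. -/
def Labels (pb : List Bool) (t : G) (ψ : ℕ → G) : Prop := ∀ k, lab t ψ k = pb.getD k false

theorem tT_iff (H : EndHyp G0 t ψ) (hl : Labels pb t ψ) {x : ℕ} (hx : hvalid x = true) :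
    IsConj t (ψ x) ↔ tT pb x = true := by
  rw [fcl_spec H.ht H.hψ hx, hl, tT]

theorem elOK_spec {n : Node} (h : elOK pb n = true) :
    hOne ∈ n.el ∧ (∃ m, n.el.length = 2 ^ m) ∧ 2 ≤ n.el.length ∧ n.el.length ≤ 16 ∧ n.el.Nodup ∧
      ∀ a ∈ n.el, hvalid a = true ∧ tT pb a = false ∧
        ∀ b ∈ n.el, hmul a b ∈ n.el ∧ hmul a b = hmul b a := by
  simp only [elOK, Bool.and_eq_true, List.all_eq_true, memB_iff, decide_eq_true_eq,
    Bool.not_eq_true', List.elem_eq_mem, List.mem_cons, List.not_mem_nil, or_false] at h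
  obtain ⟨⟨⟨h1, h2⟩, h3⟩, h4⟩ := h
  refine ⟨h1, ?_, by omega, by omega, h3, fun a ha => ?_⟩
  · rcases h2 with e | e | e | e
    exacts [⟨1, e⟩, ⟨2, e⟩, ⟨3, e⟩, ⟨4, e⟩]
  · obtain ⟨⟨u, v⟩, w⟩ := h4 a ha
    exact ⟨u, v, fun b hb => ⟨(w b hb).1, Nat.eq_of_beq_eq_true (w b hb).2⟩⟩

section Finite

variable [Finite G]

theorem pset_card (hψ : IsFrame t ψ) {el : List ℕ} (hv : ∀ a ∈ el, hvalid a = true) (hn : el.Nodup) :
    Nat.card (pset ψ el) = el.length := by
  classical
  rw [← List.toFinset_card_of_nodup hn, ← Nat.card_eq_finsetCard]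
  refine (Nat.card_eq_of_bijective (fun a : el.toFinset =>
    (⟨ψ a.1, a.1, List.mem_toFinset.1 a.2, rfl⟩ : pset ψ el)) ⟨fun a b e => ?_, ?_⟩).symm
  · exact Subtype.ext (hψ.inj _ _ (hv _ (List.mem_toFinset.1 a.2)) (hv _ (List.mem_toFinset.1 b.2))
      (congrArg Subtype.val e))
  · rintro ⟨_, x, hx, rfl⟩
    exact ⟨⟨x, List.mem_toFinset.2 hx⟩, rfl⟩

/-- The subgroup of a node. -/
theorem exists_esub (H : EndHyp G0 t ψ) (hl : Labels pb t ψ) {n : Node} (h : elOK pb n = true) :
    ∃ A : Subgroup G, (A : Set G) = pset ψ n.el ∧ IsPure G0 t A ∧ Nat.card A = n.el.length := by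
  classical
  obtain ⟨h1, ⟨m, hm⟩, h2, -, hn, hall⟩ := elOK_spec h
  have hpow : ∀ x ∈ n.el, ∀ k : ℕ, ψ x ^ k ∈ pset ψ n.el := by
    intro x hx k
    induction k with
    | zero => exact ⟨hOne, h1, by rw [pow_zero, Swap.ψ_one H.hψ]⟩
    | succ k ih =>
      obtain ⟨y, hy, e⟩ := ih
      exact ⟨_, ((hall y hy).2.2 x hx).1,
        by rw [H.hψ.map_mul _ _ (hall y hy).1 (hall x hx).1, e, pow_succ]⟩
  let A : Subgroup G :=
    { carrier := pset ψ n.el
      one_mem' := ⟨hOne, h1, Swap.ψ_one H.hψ⟩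
      mul_mem' := by
        rintro _ _ ⟨x, hx, rfl⟩ ⟨y, hy, rfl⟩
        exact ⟨_, ((hall x hx).2.2 y hy).1, H.hψ.map_mul _ _ (hall x hx).1 (hall y hy).1⟩
      inv_mem' := by
        rintro _ ⟨x, hx, rfl⟩
        obtain ⟨y, hy, e⟩ := hpow x hx (orderOf (ψ x) - 1)
        refine ⟨y, hy, e.trans (eq_inv_of_mul_eq_one_left ?_)⟩
        rw [← pow_succ, Nat.sub_add_cancel (orderOf_pos _), pow_orderOf_eq_one] }
  have hcard : Nat.card A = n.el.length := pset_card H.hψ (fun a ha => (hall a ha).1) hn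
  refine ⟨A, rfl, ⟨?_, IsPGroup.of_card (hcard.trans hm), ?_, ?_, ?_⟩, hcard⟩
  · rintro _ ⟨x, hx, rfl⟩
    exact H.psi_mem (hall x hx).1
  · rintro _ ⟨x, hx, rfl⟩ _ ⟨y, hy, rfl⟩
    exact (Swap.mul_eq_iff H.hψ (hall x hx).1 (hall y hy).1 (hall y hy).1 (hall x hx).1).2
      ((hall x hx).2.2 y hy).2
  · rintro _ ⟨x, hx, rfl⟩ hc
    exact Bool.false_ne_true ((hall x hx).2.1.symm.trans ((tT_iff H hl (hall x hx).1).1 hc))
  · intro e
    rw [e, Subgroup.card_bot] at hcard
    omega

omit [Finite G] in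
theorem cent_complete (hψ : IsFrame t ψ) (T : TableOK pb ns) : ∀ i < ns.length, ∀ x, hvalid x = true →
    (∀ a ∈ (nodeAt ns i).el, hmul x a = hmul a x) → x ∈ (nodeAt ns i).cent := by
  intro i
  induction i using Nat.strong_induction_on with
  | _ i ih =>
    intro hi x hx hcomm
    have h := T.cent i hi
    simp only [centOK] at h
    split at h
    · rename_i k hk
      simp only [Bool.and_eq_true, beq_iff_eq, decide_eq_true_eq] at h
      obtain ⟨⟨-, hel⟩, hce⟩ := h
      have hxy := hcomm (reps.getD k 0) (by rw [hel]; simp)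
      rw [hce, List.mem_filter]
      refine ⟨Swap.mem_hScan hx ?_, by simpa using hxy⟩
      rw [beq_iff_eq, ← hmul_mod, ← hmul_mod, hxy]
    · rename_i p z hp
      simp only [Bool.and_eq_true, beq_iff_eq, decide_eq_true_eq, List.all_eq_true, memB_iff] at h
      obtain ⟨⟨⟨⟨hpi, hzel⟩, -⟩, hsub⟩, hce⟩ := h
      rw [hce, List.mem_filter]
      exact ⟨ih p hpi (by omega) x hx fun a ha => hcomm a (hsub a ha), by simpa using hcomm z hzel⟩

/-- `ψ c` carries `B` onto the node `j`. -/
def Carried (ψ : ℕ → G) (ns : List Node) (B : Subgroup G) (c j : ℕ) : Prop :=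
  ∀ g : G, g ∈ B ↔ ψ c * g * (ψ c)⁻¹ ∈ pset ψ (nodeAt ns j).el

omit [Finite G] in
theorem carried_of_subset [Finite G] {A : Subgroup G} {B : Subgroup G} {c : G}
    (hsub : ∀ g ∈ B, c * g * c⁻¹ ∈ A) (hle : Nat.card A ≤ Nat.card B) :
    ∀ g : G, g ∈ B ↔ c * g * c⁻¹ ∈ A := by
  have h1 : B.map (MulAut.conj c).toMonoidHom ≤ A := by
    rintro _ ⟨g, hg, rfl⟩; exact hsub g hg
  have h2 := Subgroup.eq_of_le_of_card_ge h1 (le_of_le_of_eq hle
    (Nat.card_congr (B.equivMapOfInjective _ (MulAut.conj c).injective).toEquiv))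
  intro g
  refine ⟨hsub g, fun h => ?_⟩
  rw [← h2] at h
  obtain ⟨b, hb, e⟩ := h
  obtain rfl : b = g := (MulAut.conj c).injective e
  exact hb

/-- Every pure abelian two-subgroup of `C(t)` is conjugate there to a node. -/
theorem classify (H : EndHyp G0 t ψ) (hl : Labels pb t ψ) (T : TableOK pb ns) :
    ∀ (m : ℕ) (B : Subgroup G), Nat.card B = m → IsPure G0 t B → (∀ g ∈ B, g * t = t * g) →
      ∃ c j, hvalid c = true ∧ j < ns.length ∧ Carried ψ ns B c j ∧
        (nodeAt ns j).el.length = m := by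
  intro m
  induction m using Nat.strong_induction_on with
  | _ m ih =>
    intro B hm hB hBt
    classical
    have : Fact (Nat.Prime 2) := ⟨Nat.prime_two⟩
    obtain ⟨e, he⟩ := IsPGroup.iff_card.1 hB.two
    rcases e with _ | e
    · exact absurd (Subgroup.card_eq_one.1 (by rw [he, pow_zero])) hB.ne
    obtain ⟨B0', hB0⟩ := Sylow.exists_subgroup_card_pow_prime 2
      (G := B) (n := e) (by rw [he]; exact pow_dvd_pow 2 (Nat.le_succ e))
    have hidx : B0'.index = 2 := by
      have h := B0'.card_mul_index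
      rw [hB0, he, pow_succ] at h
      exact Nat.eq_of_mul_eq_mul_left (by positivity) h
    obtain ⟨z, hz⟩ : ∃ z : B, z ∉ B0' := by
      by_contra hcon
      push Not at hcon
      rw [(Subgroup.eq_top_iff' B0').2 hcon, Subgroup.index_top] at hidx
      norm_num at hidx
    rcases Nat.eq_zero_or_pos e with rfl | hepos
    · -- order two
      have hbot : B0' = ⊥ := Subgroup.card_eq_one.1 (by rw [hB0, pow_zero])
      have hz1 : (z : G) ≠ 1 := fun h => hz (by rw [hbot, Subgroup.mem_bot]; exact Subtype.ext h)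
      have hzz : (z : G) * z = 1 := by
        have h := Subgroup.sq_mem_of_index_two hidx z
        rw [hbot, Subgroup.mem_bot, pow_two] at h
        exact congrArg Subtype.val h
      obtain ⟨x, hx, hxz⟩ := Swap.code_of_comm H.hψ (hBt _ z.2)
      obtain ⟨r, hr, rfl⟩ := tab_complete hx (Swap.ψ_eq_mul H.hψ hx hx (by decide)
        (by rw [hxz, hzz, Swap.ψ_one H.hψ])) (fun h => hz1 (by rw [← hxz, h, Swap.ψ_one H.hψ]))
      obtain ⟨h1, h2, h3, h4⟩ := tab_spec r hr
      have hnf : pb.getD (rCls r) false = false := by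
        rw [← hl]
        by_contra hcon
        simp only [Bool.not_eq_false, lab, Bool.and_eq_true] at hcon
        exact hB.pure _ z.2 (hxz ▸ (fused_iff H.hψ hr).2 hcon.2)
      have h8 := rCls_lt r
      have h7 : rCls r < 7 := by
        by_contra hcon
        rw [show rCls r = 7 by omega] at hnf
        have := hl 7
        rw [hnf] at this
        simp [lab, fused_seven H.hψ] at this
      have hroot := T.roots
      simp only [rootsOK, List.all_eq_true, List.mem_range, Bool.or_eq_true, List.any_eq_true,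
        beq_iff_eq] at hroot
      obtain ⟨n, hn, hnel⟩ := (hroot _ h7).resolve_left (by rw [hnf]; simp)
      obtain ⟨j, hj, rfl⟩ := List.getElem_of_mem hn
      have hnode : (nodeAt ns j).el = [hOne, reps.getD (rCls r) 0] := by
        rw [nodeAt, List.getD_eq_getElem _ _ hj, hnel]
      obtain ⟨A, hA, -, hAc⟩ := exists_esub H hl (T.el j hj)
      refine ⟨rCjg r, j, h2, hj, ?_, by rw [hnode, ← hm, he]; rfl⟩
      intro g
      rw [← hA]
      refine carried_of_subset (fun b hb => ?_) (by rw [hAc, hnode, he]; rfl) g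
      show _ ∈ (A : Set G)
      rw [hA, hnode]
      by_cases hb1 : b = 1
      · exact ⟨hOne, by simp, by rw [hb1, Swap.ψ_one H.hψ]; group⟩
      refine ⟨reps.getD (rCls r) 0, by simp, ?_⟩
      have hbz : b = z := by
        by_contra hne
        have h3' := Subgroup.mul_mem_iff_of_index_two hidx (a := ⟨b, hb⟩) (b := z)
        have hb0 : (⟨b, hb⟩ : B) ∉ B0' := by
          rw [hbot, Subgroup.mem_bot]; exact fun h => hb1 (congrArg Subtype.val h)
        have h := h3'.2 (iff_of_false hb0 hz)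
        rw [hbot, Subgroup.mem_bot] at h
        have h' : b * z = 1 := congrArg Subtype.val h
        exact hne (mul_right_cancel (h'.trans hzz.symm))
      rw [hbz, ← hxz, (Swap.mul_eq_iff H.hψ h2 h1 h3 h2).2 h4, mul_inv_cancel_right]
    · let B0 : Subgroup G := B0'.map B.subtype
      have hB0c : Nat.card B0 = 2 ^ e :=
        (Subgroup.card_map_of_injective B.subtype_injective).trans hB0
      have hB0le : B0 ≤ B := Subgroup.map_subtype_le _
      have hB0P : IsPure G0 t B0 := by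
        refine ⟨hB0le.trans hB.le, IsPGroup.of_card hB0c, fun x hx y hy => hB.comm x (hB0le hx) y (hB0le hy),
          fun x hx => hB.pure x (hB0le hx), fun h => ?_⟩
        rw [h, Subgroup.card_bot] at hB0c
        exact absurd hB0c.symm (Nat.one_lt_two_pow (by omega)).ne'
      obtain ⟨c, i, hc, hi, hcar, hlen⟩ := ih (2 ^ e) (by
        rw [← hm, he]; exact Nat.pow_lt_pow_right (by norm_num) (Nat.lt_succ_self e)) B0 hB0c hB0P
        (fun g hg => hBt g (hB0le hg))
      have hmemB0 : ∀ (g : G) (hg : g ∈ B), g ∈ B0 ↔ (⟨g, hg⟩ : B) ∈ B0' := fun g hg => by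
        simp [B0, hg]
      obtain ⟨-, -, -, -, -, hall⟩ := elOK_spec (T.el i hi)
      have hct := Swap.ψ_comm_t H.hψ hc
      have hw0 : ψ c * z * (ψ c)⁻¹ * t = t * (ψ c * z * (ψ c)⁻¹) := by
        calc _ = ψ c * (z * ((ψ c)⁻¹ * t * ψ c)) * (ψ c)⁻¹ := by group
          _ = ψ c * (z * t) * (ψ c)⁻¹ := by
            rw [show (ψ c)⁻¹ * t * ψ c = t by rw [mul_assoc, ← hct, inv_mul_cancel_left]]
          _ = ψ c * t * z * (ψ c)⁻¹ := by rw [hBt _ z.2]; group
          _ = _ := by rw [hct]; group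
      obtain ⟨w, hw, hwz⟩ := Swap.code_of_comm H.hψ hw0
      have hback : ∀ a ∈ (nodeAt ns i).el, ∃ b ∈ B0, ψ a = ψ c * b * (ψ c)⁻¹ := fun a ha =>
        ⟨(ψ c)⁻¹ * ψ a * ψ c, (hcar _).2 ⟨a, ha, by group⟩, by group⟩
      have hwc : ∀ a ∈ (nodeAt ns i).el, hmul w a = hmul a w := by
        intro a ha
        obtain ⟨b, hb, e1⟩ := hback a ha
        refine (Swap.mul_eq_iff H.hψ hw (hall a ha).1 (hall a ha).1 hw).1 ?_
        rw [hwz, e1, ← map_mul_conj, hB.comm _ z.2 _ (hB0le hb), map_mul_conj]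
      have hwm := cent_complete H.hψ T i hi w hw hwc
      have hww : hmul w w ∈ (nodeAt ns i).el := by
        have h := Subgroup.sq_mem_of_index_two hidx z
        have h' : (z : G) * z ∈ B0 := (hmemB0 _ (mul_mem z.2 z.2)).2 (by
          rw [pow_two] at h; exact h)
        obtain ⟨a, ha, e1⟩ := (hcar _).1 h'
        rw [map_mul_conj, ← hwz, ← H.hψ.map_mul _ _ hw hw] at e1
        rwa [← H.hψ.inj _ _ (hall a ha).1 (Swap.hvalid_hmul hw hw) e1]
      have hwn : w ∉ (nodeAt ns i).el := fun h => hz ((hmemB0 _ z.2).1 ((hcar _).2 ⟨w, h, hwz⟩))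
      have hwp : ∀ a ∈ (nodeAt ns i).el, tT pb (hmul w a) = false := by
        intro a ha
        by_contra hcon
        rw [Bool.not_eq_false] at hcon
        have h := (tT_iff H hl (Swap.hvalid_hmul hw (hall a ha).1)).2 hcon
        obtain ⟨b, hb, e1⟩ := hback a ha
        rw [H.hψ.map_mul _ _ hw (hall a ha).1, hwz, e1, ← map_mul_conj] at h
        exact hB.pure _ (mul_mem z.2 (hB0le hb)) (h.trans (isConj_iff.2 ⟨ψ c, rfl⟩).symm)
      have hE := T.edges i hi
      simp only [edgesOK, Bool.and_eq_true, List.all_eq_true, Bool.or_eq_true, Bool.not_eq_true',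
        decide_eq_true_eq] at hE
      obtain ⟨hE1, hE2⟩ := hE
      rcases hE1 w hwm with ((h | h) | h) | h
      · exact absurd (memB_iff.2 hww) (by rw [h]; simp)
      · exact absurd (memB_iff.1 h) hwn
      · obtain ⟨a, ha, h⟩ := List.any_eq_true.1 h
        exact absurd h (by rw [hwp a ha]; simp)
      obtain ⟨⟨z1, c1, j⟩, hedge, h⟩ := List.any_eq_true.1 h
      obtain ⟨a1, ha1, h⟩ := List.any_eq_true.1 h
      have hz1 : hmul w a1 = z1 := Nat.eq_of_beq_eq_true h
      obtain ⟨⟨⟨⟨hj, hz1v⟩, hc1⟩, hlen2⟩, hsub⟩ := hE2 _ hedge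
      replace hlen2 := Nat.eq_of_beq_eq_true hlen2
      refine ⟨hmul c1 c, j, Swap.hvalid_hmul hc1 hc, hj, ?_, ?_⟩
      swap
      · show (nodeAt ns j).el.length = m
        rw [hlen2, hlen, ← hm, he, pow_succ]; ring
      obtain ⟨A, hA, -, hAc⟩ := exists_esub H hl (T.el j hj)
      obtain ⟨-, -, -, -, -, hallj⟩ := elOK_spec (T.el j hj)
      intro g
      rw [← hA]
      refine carried_of_subset (fun b hb => ?_) (by
        rw [hAc, hlen2, hlen, he, pow_succ]; exact le_of_eq (by ring)) g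
      show _ ∈ (A : Set G)
      rw [hA, H.hψ.map_mul _ _ hc1 hc]
      have key : ψ c * b * (ψ c)⁻¹ ∈ pset ψ (nodeAt ns i).el ∨
          ∃ a ∈ (nodeAt ns i).el, ψ c * b * (ψ c)⁻¹ = ψ (hmul z1 a) := by
        by_cases hb0 : b ∈ B0
        · exact Or.inl ((hcar b).1 hb0)
        right
        have hzb : z.1⁻¹ * b ∈ B0 := (hmemB0 _ (mul_mem (inv_mem z.2) hb)).2
          ((Subgroup.mul_mem_iff_of_index_two hidx (a := z⁻¹) (b := ⟨b, hb⟩)).2
            (iff_of_false (fun h => hz (inv_mem_iff.1 h)) (fun h => hb0 ((hmemB0 b hb).2 h))))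
        obtain ⟨u, hu, e1⟩ := (hcar _).1 hzb
        obtain ⟨u', hu', e2⟩ := hback a1 ha1
        obtain ⟨v, hv, e3⟩ := (hcar _).1 (mul_mem (inv_mem hu') hzb)
        refine ⟨v, hv, ?_⟩
        rw [H.hψ.map_mul _ _ hz1v (hall v hv).1, ← hz1, H.hψ.map_mul _ _ hw (hall a1 ha1).1, hwz,
          e2, e3]
        group
      rw [show ψ c1 * ψ c * b * (ψ c1 * ψ c)⁻¹ = ψ c1 * (ψ c * b * (ψ c)⁻¹) * (ψ c1)⁻¹ by group]
      rcases key with ⟨a, ha, ea⟩ | ⟨a, ha, ea⟩
      · obtain ⟨f, hf, hfe⟩ := List.any_eq_true.1 (hsub a ha).1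
        have hav := (hall a ha).1
        exact ⟨f, hf, by rw [← ea, (Swap.mul_eq_iff H.hψ hc1 hav (hallj f hf).1 hc1).2
          (Nat.eq_of_beq_eq_true hfe), mul_inv_cancel_right]⟩
      · obtain ⟨f, hf, hfe⟩ := List.any_eq_true.1 (hsub a ha).2
        have hav := Swap.hvalid_hmul hz1v (hall a ha).1
        exact ⟨f, hf, by rw [ea, (Swap.mul_eq_iff H.hψ hc1 hav (hallj f hf).1 hc1).2
          (Nat.eq_of_beq_eq_true hfe), mul_inv_cancel_right]⟩
where
  map_mul_conj {a x y : G} : a * (x * y) * a⁻¹ = (a * x * a⁻¹) * (a * y * a⁻¹) := by group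

/-- Every pure subgroup larger than a bound is good if the nodes above the bound are. -/
theorem good_of_nodes (H : EndHyp G0 t ψ) (hl : Labels pb t ψ) (T : TableOK pb ns) {B : Subgroup G}
    (hB : IsPure G0 t B)
    (hgood : ∀ j < ns.length, (nodeAt ns j).el.length = Nat.card B →
      GoodS G0 (pset ψ (nodeAt ns j).el)) :
    GoodS G0 (B : Set G) := by
  obtain ⟨g, hg, hgy⟩ := H.exists_into_cent hB.le hB.two
  set B' := B.map (MulAut.conj g).toMonoidHom
  have hmem : ∀ b ∈ B, g * b * g⁻¹ ∈ B' := fun b hb => ⟨b, hb, rfl⟩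
  have hc' : Nat.card B' = Nat.card B :=
    Subgroup.card_map_of_injective (MulAut.conj g).injective
  have hP : IsPure G0 t B' := by
    refine ⟨?_, hB.two.map _, ?_, ?_, ?_⟩
    · rintro _ ⟨b, hb, rfl⟩
      exact mul_mem (mul_mem hg (hB.le hb)) (inv_mem hg)
    · rintro _ ⟨a, ha, rfl⟩ _ ⟨b, hb, rfl⟩
      simp only [← map_mul, hB.comm a ha b hb]
    · rintro _ ⟨b, hb, rfl⟩ h
      exact hB.pure b hb (h.trans (isConj_iff.2 ⟨g, rfl⟩).symm)
    · intro h
      refine hB.ne ?_
      rw [Subgroup.map_eq_bot_iff_of_injective _ (MulAut.conj g).injective] at h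
      exact h
  obtain ⟨c, j, hc, hj, hcar, hlen⟩ := classify H hl T _ B' rfl hP (by
    rintro _ ⟨b, hb, rfl⟩; exact hgy b hb)
  intro x hx
  have h := hgood j hj (by rw [hlen, hc']) (ψ c * g * x * g⁻¹ * (ψ c)⁻¹) (by
    intro y hy
    obtain ⟨a, rfl⟩ : ∃ a, y = ψ c * a * (ψ c)⁻¹ := ⟨(ψ c)⁻¹ * y * ψ c, by group⟩
    obtain ⟨b, hb, e⟩ := (hcar a).2 hy
    have hb' : a = g * b * g⁻¹ := e.symm
    subst hb'
    calc ψ c * g * x * g⁻¹ * (ψ c)⁻¹ * (ψ c * (g * b * g⁻¹) * (ψ c)⁻¹)
        = ψ c * g * (x * b) * g⁻¹ * (ψ c)⁻¹ := by group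
      _ = ψ c * g * (b * x) * g⁻¹ * (ψ c)⁻¹ := by rw [hx b hb]
      _ = _ := by group)
  have hcm := H.psi_mem hc
  have := mul_mem (mul_mem (inv_mem (mul_mem hcm hg)) h) (mul_mem hcm hg)
  rwa [show (ψ c * g)⁻¹ * (ψ c * g * x * g⁻¹ * (ψ c)⁻¹) * (ψ c * g) = x by group] at this

end Finite

end CfsgLib.InvChar.HeRec.Tri
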