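import Cfsg.Agent.Lib.InvChar.HeRec.Trichotomy.EndSLFiveData

/-!
# The endgame in the L5(2) pattern
-/

set_option autoImplicit false
set_option maxRecDepth 100000

namespace CfsgLib.InvChar.HeRec.Tri

open Fus

theorem slFive_el : ∀ i < slFiveNodes.length, elOK slFivePat (nodeAt slFiveNodes i) = true := by decide +kernel

theorem slFive_cent : ∀ i < slFiveNodes.length, centOK slFiveNodes i = true := by decide +kernel

theorem slFive_edges : ∀ i < slFiveNodes.length, edgesOK slFivePat slFiveNodes i = true := by decide +kernel

theorem slFive_roots : rootsOK slFivePat slFiveNodes = true := by decide +kernel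

theorem slFive_kinds : ∀ i < slFiveNodes.length,
    kindOK slFivePat (nodeAt slFiveNodes i) (kindAt slFiveKinds i) = true ∧
      (kindAt slFiveKinds i).isOther = false := by
  decide +kernel

/-- The subgroup is the whole group. -/
theorem eq_top_slFive {G : Type*} [Group G] [Finite G] {G0 : Subgroup G} {t : G} {ψ : ℕ → G}
    (H : EndHyp G0 t ψ) (hb : bits (fused t ψ) = [true, false, true, false, true]) : G0 = ⊤ :=
  top_of_nodes H (labels_of_bits H.ht H.hψ hb) ⟨slFive_el, slFive_cent, slFive_edges, slFive_roots⟩
    (good_all H (labels_of_bits H.ht H.hψ hb) ⟨slFive_el, slFive_cent, slFive_edges, slFive_roots⟩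
      (fun i hi => (slFive_kinds i hi).1)
      (fun i hi ho => absurd ho (by rw [(slFive_kinds i hi).2]; exact Bool.false_ne_true)))

end CfsgLib.InvChar.HeRec.Tri
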