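import Cfsg.Agent.Lib.InvChar.HeRec.Trichotomy.EndNode
import Cfsg.Agent.Lib.Recog.Co3Inv.TopAbs

/-!
# The strongly embedded image in the centraliser of a node modulo the node
-/

set_option autoImplicit false
set_option maxRecDepth 100000

namespace CfsgLib.InvChar.HeRec.Tri

open Fus

variable {G : Type*} [Group G] [Finite G] {G0 : Subgroup G} {t : G} {ψ : ℕ → G} {pb : List Bool}
  {ns : List Node}

/-- The centraliser in `G` of a node. -/
def nodeCent (ψ : ℕ → G) (el : List ℕ) : Subgroup G := Subgroup.centralizer (pset ψ el)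

omit [Finite G] in
theorem mem_nodeCent {el : List ℕ} {g : G} :
    g ∈ nodeCent ψ el ↔ ∀ b ∈ pset ψ el, g * b = b * g := by
  simp only [nodeCent, Subgroup.mem_centralizer_iff]
  exact ⟨fun h b hb => (h b hb).symm, fun h b hb => (h b hb).symm⟩

/-- All nodes above a size are good. -/
def BigGood (G0 : Subgroup G) (ψ : ℕ → G) (ns : List Node) (m : ℕ) : Prop :=
  ∀ j < ns.length, m < (nodeAt ns j).el.length → GoodS G0 (pset ψ (nodeAt ns j).el)

/-- If a node is not good then, modulo the node, `G0` is strongly embedded in its centraliser. -/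
theorem exists_se (H : EndHyp G0 t ψ) (hl : Labels pb t ψ) (T : TableOK pb ns) {i : ℕ}
    (hi : i < ns.length) (hbig : BigGood G0 ψ ns (nodeAt ns i).el.length)
    (hbad : ¬ GoodS G0 (pset ψ (nodeAt ns i).el)) :
    ∃ (N : Subgroup (nodeCent ψ (nodeAt ns i).el)) (_ : N.Normal)
      (Hb : Subgroup (nodeCent ψ (nodeAt ns i).el ⧸ N)),
      (∀ k, k ∈ N ↔ (k : G) ∈ pset ψ (nodeAt ns i).el) ∧
      (∀ k, QuotientGroup.mk' N k ∈ Hb ↔ (k : G) ∈ G0) ∧ Cfsg.IsStronglyEmbedded Hb := by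
  obtain ⟨A, hA, hAP, hAc⟩ := exists_esub H hl (T.el i hi)
  obtain ⟨-, -, -, -, -, hall⟩ := elOK_spec (T.el i hi)
  rw [← hA] at hbad
  set el := (nodeAt ns i).el
  set K := nodeCent ψ el with hKdef
  have hKA : ∀ k : K, ∀ a ∈ A, (k : G) * a = a * k := fun k a ha =>
    mem_nodeCent.1 k.2 a (hA.subset ha)
  let N : Subgroup K := A.subgroupOf K
  have hNmem : ∀ k : K, k ∈ N ↔ (k : G) ∈ A := fun k => Subgroup.mem_subgroupOf
  have hNn : N.Normal := ⟨fun x hx g => by
    rw [hNmem] at hx ⊢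
    simp only [Subgroup.coe_mul, Subgroup.coe_inv]
    rwa [hKA g _ hx, mul_inv_cancel_right]⟩
  let Hb : Subgroup (K ⧸ N) := (G0.subgroupOf K).map (QuotientGroup.mk' N)
  have hHb : ∀ k : K, QuotientGroup.mk' N k ∈ Hb ↔ (k : G) ∈ G0 := by
    intro k
    constructor
    · rintro ⟨y, hy, e⟩
      have hd : y⁻¹ * k ∈ N := QuotientGroup.eq.1 e
      rw [hNmem] at hd
      have := mul_mem (Subgroup.mem_subgroupOf.1 hy) (hAP.le hd)
      simpa using this
    · exact fun h => ⟨k, h, rfl⟩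
  refine ⟨N, hNn, Hb, fun k => by rw [hNmem, ← hA]; rfl, hHb, ?_⟩
  have hne : Hb ≠ ⊤ := by
    intro e
    refine hbad fun g hg => ?_
    have hgK : g ∈ K := mem_nodeCent.2 fun b hb => hg b (hA.symm.subset hb)
    exact (hHb ⟨g, hgK⟩).1 (by rw [e]; trivial)
  have htK : t ∈ K := mem_nodeCent.2 fun b hb => by
    obtain ⟨x, hx, rfl⟩ := hb
    exact (Swap.ψ_comm_t H.hψ (hall x hx).1).symm
  have htA : t ∉ A := fun h => hAP.pure t h (IsConj.refl t)
  have ht2 : orderOf (QuotientGroup.mk' N ⟨t, htK⟩) = 2 := by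
    refine orderOf_eq_prime ?_ fun e => ?_
    · rw [pow_two, ← map_mul]
      refine (QuotientGroup.eq_one_iff _).2 ((hNmem _).2 ?_)
      show t * t ∈ A
      rw [H.tt]; exact one_mem _
    · exact htA ((hNmem _).1 ((QuotientGroup.eq_one_iff _).1 e))
  refine CfsgLib.Recog.Co3Inv.stronglyEmbedded_of_control hne ((hHb _).2 H.t_mem) ht2 ?_
  intro a ha ha2 b hb
  obtain ⟨z, rfl⟩ := QuotientGroup.mk'_surjective N a
  obtain ⟨g, rfl⟩ := QuotientGroup.mk'_surjective N b
  rw [← map_inv, ← map_mul, ← map_mul, hHb] at hb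
  rw [hHb] at ha
  refine (hHb g).2 ?_
  have hzn : (z : G) ∉ A := fun h => by
    rw [show QuotientGroup.mk' N z = 1 from (QuotientGroup.eq_one_iff z).2 ((hNmem z).2 h),
      orderOf_one] at ha2
    norm_num at ha2
  have hzz : (z : G) * z ∈ A := by
    refine (hNmem (z * z)).1 ((QuotientGroup.eq_one_iff _).1 ?_)
    show QuotientGroup.mk' N (z * z) = 1
    rw [map_mul, ← pow_two, ← ha2, pow_orderOf_eq_one]
  have hb' : (g : G) * z * (g : G)⁻¹ ∈ G0 := by simpa using hb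
  by_cases hT : ∃ a ∈ A, IsConj t ((z : G) * a)
  · obtain ⟨a, haA, hc⟩ := hT
    refine H.control (mul_mem ha (hAP.le haA)) hc ?_
    have e : (g : G) * ((z : G) * a) * (g : G)⁻¹ = (g : G) * z * (g : G)⁻¹ * a := by
      calc _ = (g : G) * z * (g : G)⁻¹ * ((g : G) * a * (g : G)⁻¹) := by group
        _ = _ := by rw [hKA g a haA, mul_inv_cancel_right]
    rw [e]
    exact mul_mem hb' (hAP.le haA)
  push Not at hT
  -- the abelian subgroup generated by the node and `z`
  have hzc : ∀ a ∈ A, (z : G) * a = a * z := hKA z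
  have hcase : ∀ x y : G, (x ∈ A ∨ (z : G)⁻¹ * x ∈ A) → (y ∈ A ∨ (z : G)⁻¹ * y ∈ A) →
      x * y ∈ A ∨ (z : G)⁻¹ * (x * y) ∈ A := by
    rintro x y (hx | hx) (hy | hy)
    · exact Or.inl (mul_mem hx hy)
    · refine Or.inr ?_
      have : (z : G)⁻¹ * (x * y) = x * ((z : G)⁻¹ * y) := by
        calc (z : G)⁻¹ * (x * y) = (z : G)⁻¹ * (x * z) * ((z : G)⁻¹ * y) := by group
          _ = x * ((z : G)⁻¹ * y) := by rw [← hzc x hx]; group
      rw [this]; exact mul_mem hx hy
    · refine Or.inr ?_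
      rw [← mul_assoc]; exact mul_mem hx hy
    · refine Or.inl ?_
      have e : x * y = (z : G) * z * (((z : G)⁻¹ * x) * ((z : G)⁻¹ * y)) := by
        calc x * y = (z : G) * (((z : G)⁻¹ * x) * z) * ((z : G)⁻¹ * y) := by group
          _ = (z : G) * ((z : G) * ((z : G)⁻¹ * x)) * ((z : G)⁻¹ * y) := by rw [← hzc _ hx]
          _ = _ := by group
      rw [e]; exact mul_mem hzz (mul_mem hx hy)
  let B : Subgroup G :=
    { carrier := {x | x ∈ A ∨ (z : G)⁻¹ * x ∈ A}
      one_mem' := Or.inl (one_mem A)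
      mul_mem' := fun hx hy => hcase _ _ hx hy
      inv_mem' := by
        rintro x (hx | hx)
        · exact Or.inl (inv_mem hx)
        · refine Or.inr ?_
          have e : (z : G)⁻¹ * x⁻¹ = ((z : G) * z)⁻¹ * ((z : G)⁻¹ * x)⁻¹ := by
            calc (z : G)⁻¹ * x⁻¹ = (((z : G)⁻¹ * x) * ((z : G) * z))⁻¹ := by
                  rw [← mul_assoc ((z : G)⁻¹ * x), ← hzc _ hx]; group
              _ = _ := by group
          rw [e]; exact mul_mem (inv_mem hzz) (inv_mem hx) }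
  have hAB : A ≤ B := fun x hx => Or.inl hx
  have hzB : (z : G) ∈ B := Or.inr (by simp)
  have hBle : B ≤ G0 := by
    rintro x (hx | hx)
    · exact hAP.le hx
    · have := mul_mem ha (hAP.le hx)
      rwa [mul_inv_cancel_left] at this
  have hBP : IsPure G0 t B := by
    refine ⟨hBle, ?_, ?_, ?_, fun h => hAP.ne (le_bot_iff.1 (h ▸ hAB))⟩
    · rintro ⟨x, hx⟩
      have hxx : x * x ∈ A := by
        rcases hx with hx | hx
        · exact mul_mem hx hx
        · obtain ⟨u, hu, rfl⟩ : ∃ u ∈ A, x = (z : G) * u := ⟨_, hx, by group⟩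
          have e : (z : G) * u * ((z : G) * u) = (z : G) * z * (u * u) := by
            calc _ = (z : G) * (u * z) * u := by group
              _ = _ := by rw [← hzc u hu]; group
          rw [e]; exact mul_mem hzz (mul_mem hu hu)
      obtain ⟨k, hk⟩ : ∃ k : ℕ, (⟨x * x, hxx⟩ : A) ^ 2 ^ k = 1 := hAP.two _
      refine ⟨k + 1, Subtype.ext ?_⟩
      have h := congrArg Subtype.val hk
      simp only [SubmonoidClass.coe_pow, OneMemClass.coe_one] at h ⊢
      rw [pow_succ', pow_mul, pow_two, h]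
    · rintro x (hx | hx) y (hy | hy)
      · exact hAP.comm x hx y hy
      · obtain ⟨v, hv, rfl⟩ : ∃ v ∈ A, y = (z : G) * v := ⟨_, hy, by group⟩
        rw [← mul_assoc, ← hzc x hx, mul_assoc, hAP.comm x hx v hv, mul_assoc]
      · obtain ⟨u, hu, rfl⟩ : ∃ u ∈ A, x = (z : G) * u := ⟨_, hx, by group⟩
        rw [← mul_assoc y, ← hzc y hy, mul_assoc, hAP.comm u hu y hy, mul_assoc]
      · obtain ⟨u, hu, rfl⟩ : ∃ u ∈ A, x = (z : G) * u := ⟨_, hx, by group⟩
        obtain ⟨v, hv, rfl⟩ : ∃ v ∈ A, y = (z : G) * v := ⟨_, hy, by group⟩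
        calc (z : G) * u * ((z : G) * v) = (z : G) * (u * z) * v := by group
          _ = (z : G) * z * (u * v) := by rw [← hzc u hu]; group
          _ = (z : G) * z * (v * u) := by rw [hAP.comm u hu v hv]
          _ = (z : G) * ((z : G) * v) * u := by group
          _ = (z : G) * (v * z) * u := by rw [hzc v hv]
          _ = _ := by group
    · rintro x (hx | hx) hc
      · exact hAP.pure x hx hc
      · exact hT _ hx (by rwa [mul_inv_cancel_left])
  have hlt : el.length < Nat.card B := by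
    rw [← hAc]
    refine lt_of_le_of_ne (Subgroup.card_le_of_le hAB) fun e => hzn ?_
    rw [Subgroup.eq_of_le_of_card_ge hAB e.ge]
    exact hzB
  have hgood : ∀ {C : Subgroup G}, IsPure G0 t C → Nat.card C = Nat.card B → GoodS G0 (C : Set G) :=
    fun hC e => good_of_nodes H hl T hC fun j hj hj' => hbig j hj (by rw [hj', e]; exact hlt)
  obtain ⟨s, hs, hsc, hsB⟩ := H.exists_t hBle hBP.two
  have hconjmem : ∀ x ∈ B, (g : G) * x * (g : G)⁻¹ ∈ G0 := by
    rintro x (hx | hx)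
    · rw [hKA g x hx, mul_inv_cancel_right]; exact hAP.le hx
    · have e : (g : G) * x * (g : G)⁻¹ = (g : G) * z * (g : G)⁻¹ * ((z : G)⁻¹ * x) := by
        calc _ = (g : G) * z * (g : G)⁻¹ * ((g : G) * ((z : G)⁻¹ * x) * (g : G)⁻¹) := by group
          _ = _ := by rw [hKA g _ hx, mul_inv_cancel_right]
      rw [e]; exact mul_mem hb' (hAP.le hx)
  set B' := B.map (MulAut.conj (g : G)).toMonoidHom
  have hB'P : IsPure G0 t B' := by
    refine ⟨?_, hBP.two.map _, ?_, ?_, fun h => hBP.ne ?_⟩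
    · rintro _ ⟨x, hx, rfl⟩; exact hconjmem x hx
    · rintro _ ⟨x, hx, rfl⟩ _ ⟨y, hy, rfl⟩
      simp only [← map_mul, hBP.comm x hx y hy]
    · rintro _ ⟨x, hx, rfl⟩ h
      exact hBP.pure x hx (h.trans (isConj_iff.2 ⟨(g : G), rfl⟩).symm)
    · rwa [Subgroup.map_eq_bot_iff_of_injective _ (MulAut.conj (g : G)).injective] at h
  refine H.control hs hsc (hgood hB'P (Subgroup.card_map_of_injective
    (MulAut.conj (g : G)).injective) _ ?_)
  rintro _ ⟨x, hx, rfl⟩
  simp only [MulEquiv.coe_toMonoidHom, MulAut.conj_apply]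
  calc (g : G) * s * (g : G)⁻¹ * ((g : G) * x * (g : G)⁻¹) = (g : G) * (s * x) * (g : G)⁻¹ := by group
    _ = (g : G) * (x * s) * (g : G)⁻¹ := by rw [hsB x hx]
    _ = _ := by group

/-- In a bad node every involution modulo the node is conjugate to the image of `t`. -/
theorem conj_coset (H : EndHyp G0 t ψ) (hl : Labels pb t ψ) (T : TableOK pb ns) {i : ℕ}
    (hi : i < ns.length) (hbig : BigGood G0 ψ ns (nodeAt ns i).el.length)
    (hbad : ¬ GoodS G0 (pset ψ (nodeAt ns i).el)) {w : ℕ} (hw : hvalid w = true)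
    (hwc : ∀ a ∈ (nodeAt ns i).el, hmul w a = hmul a w)
    (hww : hmul w w ∈ (nodeAt ns i).el) (hwn : w ∉ (nodeAt ns i).el) :
    ∃ g : G, g ∈ nodeCent ψ (nodeAt ns i).el ∧
      ∃ a ∈ (nodeAt ns i).el, g * t * g⁻¹ = ψ (hmul w a) := by
  obtain ⟨h1, -, -, -, -, hall⟩ := elOK_spec (T.el i hi)
  have hse0 := exists_se H hl T hi hbig hbad
  set el := (nodeAt ns i).el
  obtain ⟨N, hN, Hb, hNm, -, hse⟩ := hse0
  haveI := hN
  have htK : t ∈ nodeCent ψ el := mem_nodeCent.2 fun b hb => by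
    obtain ⟨x, hx, rfl⟩ := hb
    exact (Swap.ψ_comm_t H.hψ (hall x hx).1).symm
  have hwK : ψ w ∈ nodeCent ψ el := mem_nodeCent.2 fun b hb => by
    obtain ⟨x, hx, rfl⟩ := hb
    exact (Swap.mul_eq_iff H.hψ hw (hall x hx).1 (hall x hx).1 hw).2 (hwc x hx)
  have hord : ∀ k : nodeCent ψ el, (k : G) * k ∈ pset ψ el → (k : G) ∉ pset ψ el →
      orderOf (QuotientGroup.mk' N k) = 2 := fun k h1 h2 =>
    orderOf_eq_prime (by rw [pow_two, ← map_mul]; exact (QuotientGroup.eq_one_iff _).2 ((hNm _).2 h1))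
      fun e => h2 ((hNm k).1 ((QuotientGroup.eq_one_iff _).1 e))
  have hti := hord ⟨t, htK⟩ ⟨hOne, h1, by rw [Swap.ψ_one H.hψ]; exact H.tt.symm⟩
    (fun ⟨x, hx, e⟩ => Bool.false_ne_true ((hall x hx).2.1.symm.trans
      ((tT_iff H hl (hall x hx).1).1 (by rw [e]))))
  have hwi := hord ⟨ψ w, hwK⟩ ⟨_, hww, H.hψ.map_mul _ _ hw hw⟩
    (fun ⟨x, hx, e⟩ => hwn (H.hψ.inj _ _ (hall x hx).1 hw e ▸ hx))
  obtain ⟨b, hb⟩ := isConj_iff.1 (CfsgLib.Invol.se_isConj hse hti hwi)
  obtain ⟨g, rfl⟩ := QuotientGroup.mk'_surjective N b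
  rw [← map_inv, ← map_mul, ← map_mul] at hb
  obtain ⟨a, ha, e⟩ := (hNm _).1 (QuotientGroup.eq.1 hb.symm)
  simp only [Subgroup.coe_mul, Subgroup.coe_inv] at e
  refine ⟨g, g.2, a, ha, ?_⟩
  rw [H.hψ.map_mul _ _ hw (hall a ha).1, e]
  simp [mul_assoc]

end CfsgLib.InvChar.HeRec.Tri
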