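import Cfsg.Agent.Lib.InvChar.HeRec.Trichotomy.Fusion

/-!
# A search tree for the classes of the involutions of the model
-/

set_option autoImplicit false
set_option maxRecDepth 100000

namespace CfsgLib.InvChar.HeRec.Tri

open Fus

/-- A search tree of rows. -/
inductive RowTree : Type
  | tip
  | node (l : RowTree) (r : ℕ) (right : RowTree)

/-- The sort key of a code. -/
def codeKey (x : ℕ) : ℕ := 65536 * (x % 512) + x

/-- All rows in order. -/
def RowTree.toList : RowTree → List ℕ
  | .tip => []
  | .node l r right => l.toList ++ r :: right.toList

/-- The class found, eight if none. -/
def RowTree.look : RowTree → ℕ → ℕ → ℕ
  | .tip, _, _ => 8
  | .node l r right, key, x =>
    bif Nat.blt key (codeKey (eCode r)) then l.look key x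
    else bif Nat.blt (codeKey (eCode r)) key then right.look key x
    else bif Nat.beq (eCode r) x then rCls r else 8

/-- The tree of the table of involutions. -/
def rowTree : RowTree :=
  (.node (.node (.node (.node (.node (.node (.node (.node (.node (.node .tip
            143130708 .tip)
           32926925908 .tip)
          16150170196 (.node .tip
           5816520276 .tip))
         16858161236 (.node (.node .tip
           32876210772 .tip)
          14975258708 (.node .tip
           25679713364 .tip)))
        16201439828 (.node (.node (.node (.node .tip
            9303580244 .tip)
           10955223124 .tip)
          9522346580 (.node .tip
           20743880788 .tip))
         28117664852 (.node (.node .tip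
           24246127188 .tip)
          19257724500 (.node .tip
           6928703572 .tip))))
       18112293460 (.node (.node (.node (.node (.node .tip
            16457322580 .tip)
           21405750356 .tip)
          3065043540 (.node .tip
           31586377300 .tip))
         19722924116 (.node (.node .tip
           13473413716 .tip)
          11535384700 (.node .tip
           31319458940 .tip)))
        25698044540 (.node (.node (.node (.node .tip
            24756883068 .tip)
           2289250428 .tip)
          22379970172 (.node .tip
           3573043324 .tip))
         21937345660 (.node (.node .tip
           25963354748 .tip)
          31258992252 (.node .tip
           30206550140 .tip)))))
      14205283964 (.node (.node (.node (.node (.node (.node .tip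
            15513583740 .tip)
           11726849148 .tip)
          28110850684 (.node .tip
           21159120508 .tip))
         14904176764 (.node (.node .tip
           29504552572 .tip)
          12300767356 (.node .tip
           27844007036 .tip)))
        6099688060 (.node (.node (.node (.node .tip
            23245414012 .tip)
           15352979580 .tip)
          20646194812 (.node .tip
           31571574945 .tip))
         2624127649 (.node (.node .tip
           13285985441 .tip)
          19535040161 (.node .tip
           143331489 .tip))))
       11726953633 (.node (.node (.node (.node (.node .tip
            27276632225 .tip)
           29734560417 .tip)
          2402708641 (.node .tip
           10676170401 .tip))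
         18878263457 (.node (.node .tip
           17863244961 .tip)
          26826145953 (.node .tip
           19265585825 .tip)))
        10455780513 (.node (.node (.node (.node .tip
            2112458401 .tip)
           19202281633 .tip)
          33639079073 (.node .tip
           850845857 .tip))
         27881759393 (.node (.node .tip
           5542309025 .tip)
          24392101537 (.node .tip
           11128271009 .tip))))))
     20316945569 (.node (.node (.node (.node (.node (.node (.node .tip
            25649217703 .tip)
           6928532135 .tip)
          24383655079 (.node .tip
           30414999207 .tip))
         8655679655 (.node (.node .tip
           12052020903 .tip)
          4439363751 (.node .tip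
           33640111783 .tip)))
        3746062503 (.node (.node (.node (.node .tip
            16858047143 .tip)
           22236196007 .tip)
          28117986983 (.node .tip
           3065413799 .tip))
         19273974439 (.node (.node .tip
           14453148839 .tip)
          23198076583 (.node .tip
           2657857703 .tip))))
       1427881639 (.node (.node (.node (.node (.node .tip
            30398992551 .tip)
           15654968999 .tip)
          31586705575 (.node .tip
           25987506855 .tip))
         15516953767 (.node (.node .tip
           33442295463 .tip)
          4439146710 (.node .tip
           22002337494 .tip)))
        33934019286 (.node (.node (.node (.node .tip
            23610330326 .tip)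
           29734674646 .tip)
          11392985814 (.node .tip
           19387338966 .tip))
         28574440150 (.node (.node .tip
           30221562070 .tip)
          2659808982 (.node .tip
           16831642326 .tip)))))
      6687915222 (.node (.node (.node (.node (.node (.node .tip
            3573448918 .tip)
           32458770134 .tip)
          14055017174 (.node .tip
           526486742 .tip))
         19265724630 (.node (.node .tip
           14020225750 .tip)
          25649467606 (.node .tip
           26366696150 .tip)))
        11727204566 (.node (.node (.node (.node .tip
            25746863830 .tip)
           3332438742 .tip)
          4004642006 (.node .tip
           20743454953 .tip))
         13147637481 (.node (.node .tip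
           30326459113 .tip)
          16201026793 (.node .tip
           23235596521 .tip))))
       12259106025 (.node (.node (.node (.node (.node .tip
            23711146217 .tip)
           33436167401 .tip)
          8416424169 (.node .tip
           5630424809 .tip))
         9636510441 (.node (.node .tip
           2906553577 .tip)
          9072181481 (.node .tip
           16636806889 .tip)))
        1871809257 (.node (.node (.node (.node .tip
            10783460585 .tip)
           30422044905 .tip)
          30988279017 (.node .tip
           2507399401 .tip))
         9303747817 (.node (.node .tip
           14453502185 .tip)
          10193860329 (.node .tip
           22253009641 .tip)))))))
    6099631337 (.node (.node (.node (.node (.node (.node (.node (.node .tip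
            33638842634 .tip)
           8150058762 .tip)
          8991082762 (.node .tip
           9245363978 .tip))
         13473165578 (.node (.node .tip
           1751004938 .tip)
          13286062346 (.node .tip
           21861842698 .tip)))
        10783244554 (.node (.node (.node (.node .tip
            24383801098 .tip)
           6100840714 .tip)
          28796221194 (.node .tip
           29504733450 .tip))
         4439574282 (.node (.node .tip
           7915800842 .tip)
          7905316618 (.node .tip
           1503572234 .tip))))
       21158737674 (.node (.node (.node (.node (.node .tip
            5767805194 .tip)
           31258689290 .tip)
          6219874570 (.node .tip
           16062334730 .tip))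
         25698234634 (.node (.node .tip
           22236362506 .tip)
          143262481 (.node .tip
           18976212241 .tip)))
        26825852689 (.node (.node (.node (.node .tip
            3065121041 .tip)
           22379891473 .tip)
          14020119825 (.node .tip
           24383721233 .tip))
         143397137 (.node (.node .tip
           143463697 .tip)
          33144248593 (.node .tip
           29511982353 .tip)))))
      6099837201 (.node (.node (.node (.node (.node (.node .tip
            25649554193 .tip)
           18842200337 .tip)
          6099905297 (.node .tip
           4439421201 .tip))
         29504648977 (.node (.node .tip
           33640233233 .tip)
          10676420369 (.node .tip
           24383865105 .tip)))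
        22236447505 (.node (.node (.node (.node .tip
            25679971601 .tip)
           22941091601 .tip)
          16201306385 (.node .tip
           1756189969 .tip))
         16201374481 (.node (.node .tip
           31258926865 .tip)
          7137943825 (.node .tip
           167076625 .tip))))
       26826075409 (.node (.node (.node (.node (.node .tip
            3065343761 .tip)
           6052147473 .tip)
          11165071121 (.node .tip
           3573381905 .tip))
         9072114961 (.node (.node .tip
           143622417 .tip)
          33640055569 (.node .tip
           13473318161 .tip)))
        13286147857 (.node (.node (.node (.node .tip
            10783197457 .tip)
           25746901777 .tip)
          24757046545 (.node .tip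
           6099734289 .tip))
         33144213777 (.node (.node .tip
           23245722897 .tip)
          28547324177 (.node .tip
           2660080913 .tip))))))
     4149518609 (.node (.node (.node (.node (.node (.node (.node .tip
            19265856273 .tip)
           4149586193 .tip)
          7702162193 (.node .tip
           33640198417 .tip))
         4439521041 (.node (.node .tip
           11909576977 .tip)
          14975614737 (.node .tip
           25747046673 .tip)))
        24383963921 (.node (.node (.node (.node .tip
            24757257489 .tip)
           25747113745 .tip)
          12300636433 (.node .tip
           14020367633 .tip))
         24246082321 (.node (.node .tip
           12300705553 .tip)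
          22380077329 (.node .tip
           22380143377 .tip))))
       10455739665 (.node (.node (.node (.node (.node .tip
            31586643729 .tip)
           9072079121 .tip)
          6052247313 (.node .tip
           11727141649 .tip))
         10783423761 (.node (.node .tip
           17843093779 .tip)
          30988043027 (.node .tip
           27204847891 .tip)))
        14054656787 (.node (.node (.node (.node .tip
            2810716435 .tip)
           1758864147 .tip)
          33639966995 (.node .tip
           25052130067 .tip))
         28117778707 (.node (.node .tip
           7892845331 .tip)
          12396486931 (.node .tip
           20390830867 .tip)))))
      25649643795 (.node (.node (.node (.node (.node (.node .tip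
            16858383123 .tip)
           1427736851 .tip)
          18878139155 (.node .tip
           19265921299 .tip))
         33143956243 (.node (.node .tip
           24245807379 .tip)
          16201132819 (.node .tip
           526631187 .tip)))
        18033656595 (.node (.node (.node (.node .tip
            22002524435 .tip)
           31129330451 .tip)
          9303490837 (.node .tip
           14019986197 .tip))
         4439213333 (.node (.node .tip
           6051923733 .tip)
          6617768213 (.node .tip
           26479895317 .tip))))
       29504323861 (.node (.node (.node (.node (.node .tip
            22236513045 .tip)
           33984955669 .tip)
          2290698005 (.node .tip
           13018292501 .tip))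
         7915922197 (.node (.node .tip
           15517253909 .tip)
          24384013077 (.node .tip
           19202147605 .tip)))
        143230741 (.node (.node (.node (.node .tip
            21799084309 .tip)
           5156086549 .tip)
          30415438101 (.node .tip
           24808833813 .tip))
         29151053077 (.node (.node .tip
           32355501845 .tip)
          24064024853 (.node .tip
           26825974549 .tip))))))))
   6219628823 (.node (.node (.node (.node (.node (.node (.node (.node (.node .tip
            31258575639 .tip)
           27593870615 .tip)
          9071824663 (.node .tip
           25298149655 .tip))
         9308414743 (.node (.node .tip
           4477632791 .tip)
          20314276631 (.node .tip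
           10783056151 .tip)))
        167142167 (.node (.node (.node (.node .tip
            12301462807 .tip)
           2906222359 .tip)
          2507571479 (.node .tip
           7138083607 .tip))
         13365775639 (.node (.node .tip
           14975340311 .tip)
          19837198615 (.node .tip
           3403916055 .tip))))
       4149461271 (.node (.node (.node (.node (.node .tip
            9636659991 .tip)
           22380208407 .tip)
          2659771159 (.node .tip
           15513283863 .tip))
         12300447511 (.node (.node .tip
           4149215513 .tip)
          10455352601 (.node .tip
           29047195929 .tip)))
        11594698009 (.node (.node (.node (.node .tip
            33639895321 .tip)
           143529241 .tip)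
          33342167321 (.node .tip
           22871088409 .tip))
         13147783449 (.node (.node .tip
           14309606681 .tip)
          33934233881 (.node .tip
           16636925209 .tip)))))
      15498903833 (.node (.node (.node (.node (.node (.node .tip
            23245784345 .tip)
           18841962777 .tip)
          593071385 (.node .tip
           19202478361 .tip))
         22002308377 (.node (.node .tip
           22333724953 .tip)
          13473258777 (.node .tip
           8969765145 .tip)))
        33548911897 (.node (.node (.node (.node .tip
            30415245593 .tip)
           24392226073 .tip)
          24245698862 (.node .tip
           18976081710 .tip))
         26825788206 (.node (.node .tip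
           10455420206 .tip)
          19535180078 (.node .tip
           1251686190 .tip))))
       4384833838 (.node (.node (.node (.node (.node .tip
            24757094190 .tip)
           14309421358 .tip)
          24809207598 (.node .tip
           2402384686 .tip))
         29511744814 (.node (.node .tip
           11165139246 .tip)
          6052284206 (.node .tip
           520719150 .tip)))
        18501700910 (.node (.node (.node (.node .tip
            10676318510 .tip)
           33078097710 .tip)
          25679872302 (.node .tip
           28661499694 .tip))
         24033292590 (.node (.node .tip
           20314126126 .tip)
          29778115374 (.node .tip
           14209383726 .tip))))))
     19265487153 (.node (.node (.node (.node (.node (.node (.node .tip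
            11164779313 .tip)
           2507146545 .tip)
          2289108785 (.node .tip
           25980244273 .tip))
         28547159345 (.node (.node .tip
           7202685233 .tip)
          24032920369 (.node .tip
           12409259313 .tip)))
        30206412593 (.node (.node (.node (.node .tip
            29778202929 .tip)
           31080535345 .tip)
          25680052529 (.node .tip
           27805188913 .tip))
         24757306673 (.node (.node .tip
           8731592497 .tip)
          13286215985 (.node .tip
           16201258289 .tip))))
       27844329777 (.node (.node (.node (.node (.node .tip
            30221648689 .tip)
           24651023665 .tip)
          7137773361 (.node .tip
           8991265073 .tip))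
         9490388273 (.node (.node .tip
           10551820597 .tip)
          25649283893 (.node .tip
           16809264437 .tip)))
        16857958197 (.node (.node (.node (.node .tip
            3971690805 .tip)
           33342306101 .tip)
          20718305589 (.node .tip
           10901603125 .tip))
         5534991669 (.node (.node .tip
           33934427957 .tip)
          17393479989 (.node .tip
           16202299189 .tip)))))
      22941172021 (.node (.node (.node (.node (.node (.node .tip
            27276706613 .tip)
           166823221 .tip)
          3332802357 (.node .tip
           6804975925 .tip))
         14054831925 (.node (.node .tip
           25747177781 .tip)
          31571690293 (.node .tip
           20028966197 .tip)))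
        22379808565 (.node (.node (.node (.node .tip
            9072013621 .tip)
           29047387957 .tip)
          10676076857 (.node .tip
           11630282041 .tip))
         8776125241 (.node (.node .tip
           10119876409 .tip)
          6688018745 (.node .tip
           2810910009 .tip))))
       8150270265 (.node (.node (.node (.node (.node .tip
            33144128825 .tip)
           25052074297 .tip)
          1756255545 (.node .tip
           7701879609 .tip))
         5542338361 (.node (.node .tip
           30399168825 .tip)
          14020412729 (.node .tip
           18976181049 .tip)))
        19234131769 (.node (.node (.node (.node .tip
            25746968889 .tip)
           22110508345 .tip)
          17547116857 (.node .tip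
           10030925113 .tip))
         27710640441 (.node (.node .tip
           31077225785 .tip)
          16831339321 (.node .tip
           24063893305 .tip)))))))
    25679626577 (.node (.node (.node (.node (.node (.node (.node (.node .tip
            22593209681 .tip)
           6928468305 .tip)
          6219697489 (.node .tip
           10955002193 .tip))
         16150238545 (.node (.node .tip
           2811107665 .tip)
          25818635601 (.node .tip
           18976285009 .tip)))
        7701997905 (.node (.node (.node (.node .tip
            15188832593 .tip)
           5630540113 .tip)
          33144340817 (.node .tip
           20718388561 .tip))
         28547385681 (.node (.node .tip
           18033511761 .tip)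
          3046019409 (.node .tip
           10783135057 .tip))))
       9071794513 (.node (.node (.node (.node (.node .tip
            32793795921 .tip)
           454271313 .tip)
          20826007889 (.node .tip
           27805331793 .tip))
         33547336017 (.node (.node .tip
           21405630809 .tip)
          14020052313 (.node .tip
           30398810457 .tip)))
        18112056665 (.node (.node (.node (.node .tip
            7915704665 .tip)
           24756950361 .tip)
          8655542617 (.node .tip
           20108418393 .tip))
         23198392665 (.node (.node .tip
           3304287577 .tip)
          16831443289 (.node .tip
           10120035673 .tip)))))
      29512073561 (.node (.node (.node (.node (.node (.node .tip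
            865174873 .tip)
           4090595673 .tip)
          22264319321 (.node .tip
           2660143449 .tip))
         26366547289 (.node (.node .tip
           4624324953 .tip)
          11909242201 (.node .tip
           11164967257 .tip)))
        3065245017 (.node (.node (.node (.node .tip
            10552078681 .tip)
           7137918297 .tip)
          2289041809 (.node .tip
           3304129425 .tip))
         23235398033 (.node (.node .tip
           20743523217 .tip)
          23245558161 (.node .tip
           33275189649 .tip))))
       30206337425 (.node (.node (.node (.node (.node .tip
            32555738001 .tip)
           18842266001 .tip)
          30415072145 (.node .tip
           21157851537 .tip))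
         756758929 (.node (.node .tip
           29927834001 .tip)
          1953596305 (.node .tip
           13473581457 .tip)))
        17791290257 (.node (.node (.node (.node .tip
            13314527633 .tip)
           31337453969 .tip)
          4149649809 (.node .tip
           10551927697 .tip))
         11726793105 (.node (.node .tip
           15920638865 .tip)
          19257864593 (.node .tip
           1503377809 .tip))))))
     166723987 (.node (.node (.node (.node (.node (.node (.node .tip
            33645724563 .tip)
           11909269907 .tip)
          29047131027 (.node .tip
           24383594899 .tip))
         23710999443 (.node (.node .tip
           10557663635 .tip)
          6099970963 (.node .tip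
           33985089939 .tip)))
        644570003 (.node (.node (.node (.node .tip
            21158916499 .tip)
           20718517139 .tip)
          24064197011 (.node .tip
           4384719763 .tip))
         22379858323 (.node (.node .tip
           7702219667 .tip)
          21937693075 (.node .tip
           10030785427 .tip))))
       2507254163 (.node (.node (.node (.node (.node .tip
            9459772307 .tip)
           32165843347 .tip)
          12300573587 (.node .tip
           24053019027 .tip))
         9884662675 (.node (.node .tip
           28546957770 .tip)
          29653272522 (.node .tip
           10866985418 .tip)))
        11164717002 (.node (.node (.node (.node .tip
            26366456266 .tip)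
           2810787786 .tip)
          26162051530 (.node .tip
           31337627594 .tip))
         10455568842 (.node (.node .tip
           2998099914 .tip)
          166945226 (.node .tip
           20743679946 .tip)))))
      10676502986 (.node (.node (.node (.node (.node (.node .tip
            18112153546 .tip)
           7108921802 .tip)
          8776486858 (.node .tip
           14975676874 .tip))
         33144027082 (.node (.node .tip
           4149328330 .tip)
          3045638090 (.node .tip
           6340989386 .tip)))
        13764386762 (.node (.node (.node (.node .tip
            1953751498 .tip)
           5535166410 .tip)
          25746735569 (.node .tip
           3065055185 .tip))
         6051858897 (.node (.node .tip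
           23197716433 .tip)
          29722087889 (.node .tip
           31571778001 .tip))))
       6099771857 (.node (.node (.node (.node (.node .tip
            20029057489 .tip)
           31586267601 .tip)
          32050853841 (.node .tip
           4385028561 .tip))
         8969600977 (.node (.node .tip
           33640317393 .tip)
          24808884177 (.node .tip
           11909630417 .tip)))
        7892733905 (.node (.node (.node (.node .tip
            520851921 .tip)
           12064102865 .tip)
          21937496529 (.node .tip
           24651213265 .tip))
         6805172689 (.node (.node .tip
           33934129105 .tip)
          15513205201 (.node .tip
           14875738065 .tip)))))))))

theorem rowTree_toList : rowTree.toList = invTab := by decide +kernel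

/-- The class of a code, by tree search. -/
def fcl (x : ℕ) : ℕ := rowTree.look (codeKey x) x

theorem fcl_found : ∀ r ∈ invTab, fcl (eCode r) = rCls r := by decide +kernel

theorem look_cases : ∀ (T : RowTree) (key x : ℕ),
    T.look key x = 8 ∨ ∃ r ∈ T.toList, eCode r = x ∧ T.look key x = rCls r := by
  intro T
  induction T with
  | tip => exact fun _ _ => Or.inl rfl
  | node l r right ihl ihr =>
    intro key x
    simp only [RowTree.look]
    cases Nat.blt key (codeKey (eCode r))
    · cases Nat.blt (codeKey (eCode r)) key
      · cases h : Nat.beq (eCode r) x
        · exact Or.inl rfl
        · exact Or.inr ⟨r, by simp [RowTree.toList], Nat.eq_of_beq_eq_true h, rfl⟩
      · rcases ihr key x with e | ⟨s, hs, e⟩
        · exact Or.inl e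
        · exact Or.inr ⟨s, by simp [RowTree.toList, hs], e⟩
    · rcases ihl key x with e | ⟨s, hs, e⟩
      · exact Or.inl e
      · exact Or.inr ⟨s, by simp [RowTree.toList, hs], e⟩

variable {G : Type*} [Group G] {t : G} {ψ : ℕ → G}

/-- The tree decides conjugacy to `t`. -/
theorem fcl_spec (ht : orderOf t = 2) (hψ : IsFrame t ψ) {x : ℕ} (hx : hvalid x = true) :
    IsConj t (ψ x) ↔ lab t ψ (fcl x) = true := by
  constructor
  · intro h
    obtain ⟨r, hr, rfl⟩ := exists_row ht hψ hx h
    rw [fcl_found r hr]
    simp [lab, rCls_lt, (fused_iff hψ hr).1 h]
  · intro h
    rcases look_cases rowTree (codeKey x) x with e | ⟨r, hr, rfl, e⟩
    · rw [fcl, e] at h
      simp [lab] at h
    · rw [rowTree_toList] at hr
      rw [fcl, e] at h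
      simp [lab, rCls_lt] at h
      exact (fused_iff hψ hr).2 h

end CfsgLib.InvChar.HeRec.Tri
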