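import Cfsg.Agent.Lib.InvChar.HeRec.Trichotomy.EndAffine
import Cfsg.Agent.Lib.InvChar.HeRec.Trichotomy.EndHeld
import Cfsg.Agent.Lib.InvChar.HeRec.Trichotomy.EndMathieu
import Cfsg.Agent.Lib.InvChar.HeRec.Trichotomy.EndSLFive

/-!
# The subgroup glued from the centraliser of `t` is the whole group
-/

set_option autoImplicit false

namespace CfsgLib.InvChar.HeRec.Tri

open Fus

/-- A subgroup containing the centraliser of `t` and joining `t` to every fused class is the whole
group, in each of the four normalised patterns. -/
theorem eq_top {G : Type*} [Group G] [Finite G] {t : G} {ψ : ℕ → G} (ht : orderOf t = 2)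
    (hψ : IsFrame t ψ)
    (hb : bits (fused t ψ) = [false, false, true, false, false] ∨
      bits (fused t ψ) = [true, false, true, false, true] ∨
      bits (fused t ψ) = [true, true, true, false, true] ∨
      bits (fused t ψ) = [true, true, true, true, true])
    (G0 : Subgroup G) (hcent : Subgroup.centralizer ({t} : Set G) ≤ G0)
    (htr : ∀ k < 5, fused t ψ k = true → ∃ h : G, h ∈ G0 ∧ h * t * h⁻¹ = ψ (reps.getD k 0)) :
    G0 = ⊤ := by
  have H : EndHyp G0 t ψ := ⟨ht, hψ, hcent, htr⟩
  rcases hb with h | h | h | h
  · exact eq_top_affine H h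
  · exact eq_top_slFive H h
  · exact eq_top_mathieu H h
  · exact eq_top_held H h

end CfsgLib.InvChar.HeRec.Tri
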