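import Cfsg.Agent.Lib.InvChar.HeRec.Trichotomy.L5Outer

/-!
# The normaliser of a sixteen group over `t` is transitive on its involutions

In the affine and linear patterns the elementary sixteen group of the column transvections has a normaliser
moving `t`.
-/

set_option autoImplicit false
set_option maxRecDepth 100000

namespace CfsgLib.InvChar.HeRec.Tri

/-- The codes of the column group, numbered by `u + 8 c`. -/
def eC (k : ℕ) : ℕ := mk 273 (k % 8) 0 (k / 8)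

/-- The codes of the row group, numbered by `f + 8 c`. -/
def fC (k : ℕ) : ℕ := mk 273 0 (k % 8) (k / 8)

/-- The renumbering by the graph automorphism. -/
def ePerm : List ℕ := [0, 4, 2, 6, 1, 5, 3, 7, 8, 12, 10, 14, 9, 13, 11, 15]

theorem eC_check : ∀ k < 16, hvalid (eC k) = true ∧ hvalid (fC k) = true ∧ hmul (eC k) (eC k) = hOne ∧
    (k = 0 ∨ fcls (eC k) = 2 ∨ k = 8) ∧ ePerm.getD k 0 < 16 ∧
    revT (cMat (eC k)) = cMat (fC (ePerm.getD k 0)) ∧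
    ∀ j < 16, j ^^^ k < 16 ∧ hmul (eC j) (eC k) = eC (j ^^^ k) ∧ (eC j = eC k → j = k) := by
  decide +kernel

theorem eC_conj_check : ∀ k < 16, k ≠ 0 → k ≠ 8 → ∃ r ∈ Fus.invTab, Fus.eCode r = eC k ∧ Fus.rCls r = 2 := by
  decide +kernel

theorem eC_special : eC 0 = hOne ∧ eC 8 = hZ ∧ eC 1 = Fus.reps.getD 2 0 ∧ hmul 4369 (eC 1) = hmul (eC 9) 4369 ∧
    fC 0 = hOne ∧ fC 8 = hZ ∧ hmul hZ (eC 1) = eC 9 := by
  decide +kernel

theorem zero_z_check : ∀ r ∈ Fus.invTab, Fus.rCls r = 0 → fcls (hmul (Fus.eCode r) hZ) = 6 := by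
  decide +kernel

theorem row_shape : ∀ r ∈ Fus.invTab, (Fus.rCls r = 2 ∨ Fus.rCls r = 4 ∨ Fus.rCls r = 7) →
    ∃ k < 16, Fus.eCode r = eC k ∨ Fus.eCode r = fC k := by
  decide +kernel

theorem mixed_check : ∀ a < 16, ∀ b < 16, (∃ k < 16, hmul (eC a) (fC b) = eC k ∨ hmul (eC a) (fC b) = fC k) →
    (∃ k < 16, eC a = fC k) ∨ ∃ k < 16, fC b = eC k := by
  decide +kernel

variable {G : Type*} [Group G] [Finite G] {t : G} {ψ : ℕ → G}

/-- The column group in `G`. -/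
def eGrp (hψ : IsFrame t ψ) : Subgroup G where
  carrier := {g | ∃ k < 16, ψ (eC k) = g}
  one_mem' := ⟨0, by norm_num, by rw [eC_special.1, Swap.ψ_one hψ]⟩
  mul_mem' := by
    rintro _ _ ⟨j, hj, rfl⟩ ⟨k, hk, rfl⟩
    obtain ⟨hlt, he, -⟩ := (eC_check k hk).2.2.2.2.2.2 j hj
    exact ⟨_, hlt, by rw [← hψ.map_mul _ _ (eC_check j hj).1 (eC_check k hk).1, he]⟩
  inv_mem' := by
    rintro _ ⟨k, hk, rfl⟩
    refine ⟨k, hk, (inv_eq_of_mul_eq_one_right ?_).symm⟩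
    rw [← hψ.map_mul _ _ (eC_check k hk).1 (eC_check k hk).1, (eC_check k hk).2.2.1, Swap.ψ_one hψ]

omit [Finite G] in
theorem mem_eGrp (hψ : IsFrame t ψ) {g : G} : g ∈ eGrp hψ ↔ ∃ k < 16, ψ (eC k) = g := Iff.rfl

omit [Finite G] in
theorem t_mem_eGrp (hψ : IsFrame t ψ) : t ∈ eGrp hψ :=
  ⟨8, by norm_num, by rw [eC_special.2.1, hψ.map_z]⟩

omit [Finite G] in
theorem card_eGrp (hψ : IsFrame t ψ) : Nat.card (eGrp hψ) = 16 := by
  refine (Nat.card_eq_of_bijective (fun k : Fin 16 => (⟨ψ (eC k), k, k.2, rfl⟩ : eGrp hψ))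
    ⟨fun j k h => ?_, fun g => ?_⟩).symm.trans (Nat.card_fin 16)
  · exact Fin.ext (((eC_check k k.2).2.2.2.2.2.2 j j.2).2.2
      (hψ.inj _ _ (eC_check j j.2).1 (eC_check k k.2).1 (congrArg Subtype.val h)))
  · obtain ⟨k, hk, e⟩ := g.2
    exact ⟨⟨k, hk⟩, Subtype.ext e⟩

omit [Finite G] in
/-- The centraliser of `t` normalises the column group, linearly. -/
theorem cent_conj (hψ : IsFrame t ψ) {x k : ℕ} (hx : hvalid x = true) (hk : k < 16) :
    ψ x * ψ (eC k) * (ψ x)⁻¹ ∈ eGrp hψ := by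
  obtain ⟨A, u, f, c, rfl, hA, hu, hf, hc, hvA⟩ := of_valid hx
  have hp := bit_xor (show k / 8 ≤ 1 by omega) (parThree_le (f &&& (k % 8)))
  refine ⟨colMul A (k % 8) + 8 * (k / 8 ^^^ parThree (f &&& (k % 8))), ?_, ?_⟩
  · have := colMul_lt A (k % 8); omega
  have hv := colMul_lt A (k % 8)
  have he : eC (colMul A (k % 8) + 8 * (k / 8 ^^^ parThree (f &&& (k % 8)))) =
      mk 273 (colMul A (k % 8)) 0 (k / 8 ^^^ parThree (f &&& (k % 8))) := by
    rw [eC]; congr <;> omega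
  have v1 : hvalid (mk 273 (colMul A (k % 8)) 0 (k / 8 ^^^ parThree (f &&& (k % 8)))) = true :=
    (hvalid_mk (by norm_num) hv (by norm_num) hp).trans (by decide)
  obtain ⟨u1, u2⟩ := units_check
  have u1' := of_below u1 hA
  simp only [Bool.and_eq_true, beq_iff_eq] at u1'
  rw [he, eq_comm, mul_inv_eq_iff_eq_mul, ← hψ.map_mul _ _ hx (eC_check k hk).1, ← hψ.map_mul _ _ v1 hx, eC,
    hmul_mk hA hu hf (by norm_num) (by omega) (by norm_num), hmul_mk (by norm_num) hv (by norm_num) hA hu hf,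
    u1'.2.1, u1'.1, u1'.2.2.2, beq_iff_eq.1 (of_below u2 hf)]
  have hcu : colMul 273 u = u := by
    have h : ∀ u < 8, colMul 273 u = u := by decide +kernel
    exact h u hu
  rw [hcu]
  simp only [Nat.xor_zero, Nat.zero_xor, Nat.zero_and, show parThree 0 = 0 from rfl]
  congr 2
  · exact Nat.xor_comm _ _
  · ac_rfl

omit [Finite G] in
theorem mem_normalizer_of_cent (hψ : IsFrame t ψ) {g : G} (h : g * t = t * g) :
    ∀ e ∈ eGrp hψ, g * e * g⁻¹ ∈ eGrp hψ := by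
  obtain ⟨x, hx, rfl⟩ := Swap.code_of_comm hψ h
  rintro _ ⟨k, hk, rfl⟩
  exact cent_conj hψ hx hk

/-- The elements mapping the column group onto itself. -/
theorem normalizer_of (hψ : IsFrame t ψ) {g : G} (h : ∀ e ∈ eGrp hψ, g * e * g⁻¹ ∈ eGrp hψ) :
    g ∈ Subgroup.normalizer (eGrp hψ : Set G) := by
  have hle : (eGrp hψ).map (MulAut.conj g).toMonoidHom ≤ eGrp hψ := by
    rintro _ ⟨e, he, rfl⟩
    exact h e he
  have heq := Subgroup.eq_of_le_of_card_ge hle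
    (Nat.card_congr ((eGrp hψ).equivMapOfInjective _ (MulAut.conj g).injective).toEquiv).le
  refine Subgroup.mem_normalizer_iff.2 fun e => ⟨h e, fun he => ?_⟩
  rw [← heq] at he
  obtain ⟨e', he', e1⟩ := he
  have : e' = e := (MulAut.conj g).injective e1
  exact this ▸ he'

/-- One element of the normaliser moving `t` makes it transitive on the involutions. -/
theorem eGrp_trans (hψ : IsFrame t ψ) {g : G} (hg : g ∈ Subgroup.normalizer (eGrp hψ : Set G))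
    (hgt : g * t * g⁻¹ ≠ t) {e : G} (he : e ∈ eGrp hψ) (h1 : e ≠ 1) :
    ∃ n ∈ Subgroup.normalizer (eGrp hψ : Set G), n * t * n⁻¹ = e := by
  have hn : ∀ k < 16, k ≠ 0 → k ≠ 8 → ∃ c ∈ Subgroup.normalizer (eGrp hψ : Set G),
      c * t * c⁻¹ = t ∧ c * ψ (eC k) * c⁻¹ = ψ (Fus.reps.getD 2 0) := by
    intro k hk k0 k8
    obtain ⟨r, hr, he, hcl⟩ := eC_conj_check k hk k0 k8
    obtain ⟨h1, h2, h3, h4⟩ := Fus.tab_spec r hr
    rw [hcl, he] at h4
    rw [hcl] at h3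
    refine ⟨ψ (Fus.rCjg r), normalizer_of hψ (mem_normalizer_of_cent hψ (Swap.ψ_comm_t hψ h2)), ?_, ?_⟩
    · rw [Swap.ψ_comm_t hψ h2, mul_inv_cancel_right]
    · rw [← hψ.map_mul _ _ h2 (eC_check k hk).1, h4, hψ.map_mul _ _ h3 h2, mul_inv_cancel_right]
  have code : ∀ a ∈ eGrp hψ, a ≠ 1 → a ≠ t → ∃ k < 16, k ≠ 0 ∧ k ≠ 8 ∧ ψ (eC k) = a := by
    rintro _ ⟨k, hk, rfl⟩ a1 at'
    exact ⟨k, hk, fun e => a1 (by rw [e, eC_special.1, Swap.ψ_one hψ]),
      fun e => at' (by rw [e, eC_special.2.1, hψ.map_z]), rfl⟩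
  by_cases het : e = t
  · exact ⟨1, one_mem _, by rw [het]; group⟩
  have ha := (Subgroup.mem_normalizer_iff.1 hg t).1 (t_mem_eGrp hψ)
  have ha1 : g * t * g⁻¹ ≠ 1 := fun h => by
    have ht1 : t = 1 := conj_eq_one_iff.1 h
    rw [← hψ.map_z, ← Swap.ψ_one hψ] at ht1
    exact absurd (hψ.inj _ _ (by decide) (by decide) ht1) (by decide)
  obtain ⟨i, hi, i0, i8, ei⟩ := code _ ha ha1 hgt
  obtain ⟨k, hk, k0, k8, ek⟩ := code e he h1 het
  obtain ⟨c, hc, -, hci⟩ := hn i hi i0 i8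
  obtain ⟨d, hd, -, hdk⟩ := hn k hk k0 k8
  refine ⟨d⁻¹ * c * g, mul_mem (mul_mem (inv_mem hd) hc) hg, ?_⟩
  calc d⁻¹ * c * g * t * (d⁻¹ * c * g)⁻¹ = d⁻¹ * (c * (g * t * g⁻¹) * c⁻¹) * d := by group
    _ = d⁻¹ * (d * ψ (eC k) * d⁻¹) * d := by rw [← ei, hci, hdk]
    _ = e := by rw [ek]; group

/-- **The normaliser of the column group moves `t`.** -/
theorem exists_moving (ht : orderOf t = 2) (hψ : IsFrame t ψ) (h1 : Fus.fused t ψ 1 = false)
    (h2 : Fus.fused t ψ 2 = true) (h3 : Fus.fused t ψ 3 = false) :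
    ∃ g ∈ Subgroup.normalizer (eGrp hψ : Set G), g * t * g⁻¹ ≠ t := by
  obtain ⟨f5, f6⟩ := fused_high ht hψ
  obtain ⟨g, j, hj, hfj, e1, e2⟩ := exchange ht hψ (show (2 : ℕ) < 5 by norm_num) h2
  rw [← eC_special.2.2.1] at e1
  have hne : g * t * g⁻¹ ≠ t := fun h => by
    have := hψ.inj _ _ (eC_check 1 (by norm_num)).1 (by decide) (show ψ (eC 1) = ψ hZ by
      rw [hψ.map_z]; exact mul_left_cancel (mul_right_cancel (e1.trans h.symm)))
    rw [← eC_special.2.1] at this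
    have := ((eC_check 8 (by norm_num)).2.2.2.2.2.2 1 (by norm_num)).2.2 this
    omega
  -- the conjugates of the elements of the column group
  have hconj : ∀ a ∈ eGrp hψ, a ≠ 1 → IsConj t a := by
    rintro _ ⟨k, hk, rfl⟩ a1
    rcases (eC_check k hk).2.2.2.1 with e | e | e
    · exact absurd (by rw [e, eC_special.1, Swap.ψ_one hψ]) a1
    · rw [fcls_spec ht hψ (eC_check k hk).1, e]; simp [lab, h2]
    · rw [e, eC_special.2.1, hψ.map_z]
  have himg : ∀ a ∈ eGrp hψ, ∃ k < 16, g * a * g⁻¹ = ψ (eC k) ∨ g * a * g⁻¹ = ψ (fC k) := by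
    intro a ha
    by_cases a1 : a = 1
    · exact ⟨0, by norm_num, Or.inl (by rw [a1, eC_special.1, Swap.ψ_one hψ]; group)⟩
    have hcomm : a * ψ (eC 1) = ψ (eC 1) * a := by
      obtain ⟨k, hk, rfl⟩ := ha
      rw [← hψ.map_mul _ _ (eC_check k hk).1 (eC_check 1 (by norm_num)).1,
        ← hψ.map_mul _ _ (eC_check 1 (by norm_num)).1 (eC_check k hk).1,
        ((eC_check 1 (by norm_num)).2.2.2.2.2.2 k hk).2.1,
        ((eC_check k hk).2.2.2.2.2.2 1 (by norm_num)).2.1, Nat.xor_comm]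
    have hct : (g * a * g⁻¹) * t = t * (g * a * g⁻¹) := by
      rw [← e1]; exact Swap.comm_of_eq_conj hcomm
    obtain ⟨x, hx, hxe⟩ := Swap.code_of_comm hψ hct
    have hcx : IsConj t (ψ x) := hxe.symm ▸ (hconj a ha a1).trans (isConj_iff.2 ⟨g, rfl⟩)
    obtain ⟨r, hr, hre⟩ := exists_row ht hψ hx hcx
    have hf := (Fus.fused_iff hψ hr).1 (hre.symm ▸ hcx)
    have hcls : Fus.rCls r = 2 ∨ Fus.rCls r = 4 ∨ Fus.rCls r = 7 := by
      have h8 := Fus.rCls_lt r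
      by_contra hcon
      obtain h | h | h | h | h : Fus.rCls r = 0 ∨ Fus.rCls r = 1 ∨ Fus.rCls r = 3 ∨ Fus.rCls r = 5 ∨
          Fus.rCls r = 6 := by omega
      · have hay : a * ψ (eC 1) ∈ eGrp hψ := mul_mem ha ⟨1, by norm_num, rfl⟩
        have hay1 : a * ψ (eC 1) ≠ 1 := fun e => by
          have : g * a * g⁻¹ * t = 1 := by
            rw [← e1, show g * a * g⁻¹ * (g * ψ (eC 1) * g⁻¹) = g * (a * ψ (eC 1)) * g⁻¹ by group, e]; group
          have htt : t * t = 1 := by rw [← pow_two, ← ht, pow_orderOf_eq_one]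
          rw [mul_eq_one_iff_eq_inv, inv_eq_of_mul_eq_one_right htt, ← hxe, ← hψ.map_z] at this
          have hxz := hψ.inj _ _ hx (by decide) this
          rw [← hre] at hxz
          have : ∀ r ∈ Fus.invTab, Fus.eCode r = hZ → Fus.rCls r ≠ 0 := by decide +kernel
          exact this r hr hxz h
        have hc' : IsConj t (g * (a * ψ (eC 1)) * g⁻¹) := (hconj _ hay hay1).trans (isConj_iff.2 ⟨g, rfl⟩)
        have e3 : g * a * g⁻¹ * t = ψ (hmul x hZ) := by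
          rw [hψ.map_mul _ _ hx valid_z', hψ.map_z, hxe]
        rw [show g * (a * ψ (eC 1)) * g⁻¹ = g * a * g⁻¹ * (g * ψ (eC 1) * g⁻¹) by group, e1, e3,
          fcls_spec ht hψ (Swap.hvalid_hmul hx valid_z'), ← hre, zero_z_check r hr h] at hc'
        simp [lab, f6] at hc'
      · rw [h, h1] at hf; exact Bool.false_ne_true hf
      · rw [h, h3] at hf; exact Bool.false_ne_true hf
      · rw [h, f5] at hf; exact Bool.false_ne_true hf
      · rw [h, f6] at hf; exact Bool.false_ne_true hf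
    obtain ⟨k, hk, hk'⟩ := row_shape r hr hcls
    rw [hre] at hk'
    exact ⟨k, hk, hk'.imp (fun e => by rw [← hxe, e]) fun e => by rw [← hxe, e]⟩
  set hψ4 := sigC_frame hψ
  have fmem : ∀ k < 16, ψ (fC k) ∈ eGrp hψ4 := by
    intro k hk
    have h : ∀ k < 16, ∃ j < 16, ePerm.getD j 0 = k := by decide +kernel
    obtain ⟨j, hj', rfl⟩ := h k hk
    refine ⟨j, hj', ?_⟩
    show ψ (sigC (eC j)) = _
    rw [sigC_invol (eC_check j hj').1 (eC_check j hj').2.2.1 (eC_check _ (eC_check j hj').2.2.2.2.1).2.1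
      (eC_check j hj').2.2.2.2.2.1]
  have fmem' : ∀ a ∈ eGrp hψ4, ∃ k < 16, ψ (fC k) = a := by
    rintro _ ⟨j, hj', rfl⟩
    refine ⟨_, (eC_check j hj').2.2.2.2.1, ?_⟩
    show _ = ψ (sigC (eC j))
    rw [sigC_invol (eC_check j hj').1 (eC_check j hj').2.2.1 (eC_check _ (eC_check j hj').2.2.2.2.1).2.1
      (eC_check j hj').2.2.2.2.2.1]
  by_cases hall : ∀ a ∈ eGrp hψ, g * a * g⁻¹ ∈ eGrp hψ
  · exact ⟨g, normalizer_of hψ hall, hne⟩
  exfalso
  push Not at hall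
  obtain ⟨a₀, ha₀, ha₀'⟩ := hall
  -- otherwise the whole image is the row group
  have h4 : ∀ a ∈ eGrp hψ, g * a * g⁻¹ ∈ eGrp hψ4 := by
    intro a ha
    obtain ⟨k, hk, hk' | hk'⟩ := himg a ha
    swap
    · exact hk' ▸ fmem k hk
    obtain ⟨l, hl, hl' | hl'⟩ := himg a₀ ha₀
    · exact absurd ⟨l, hl, hl'.symm⟩ ha₀'
    obtain ⟨m, hm, hm'⟩ := himg (a * a₀) (mul_mem ha ha₀)
    rw [show g * (a * a₀) * g⁻¹ = g * a * g⁻¹ * (g * a₀ * g⁻¹) by group, hk', hl',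
      ← hψ.map_mul _ _ (eC_check k hk).1 (eC_check l hl).2.1] at hm'
    have hv := Swap.hvalid_hmul (eC_check k hk).1 (eC_check l hl).2.1
    rcases mixed_check k hk l hl ⟨m, hm, hm'.imp (hψ.inj _ _ hv (eC_check m hm).1)
        (hψ.inj _ _ hv (eC_check m hm).2.1)⟩ with ⟨i, hi, ei⟩ | ⟨i, hi, ei⟩
    · exact hk'.symm ▸ ei.symm ▸ fmem i hi
    · exact absurd ⟨i, hi, by rw [hl', ei]⟩ ha₀'
  -- transport a swap inside `C(t)` to make the normaliser of the row group transitive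
  have hgE : (eGrp hψ).map (MulAut.conj g).toMonoidHom = eGrp hψ4 := by
    refine Subgroup.eq_of_le_of_card_ge (by rintro _ ⟨a, ha, rfl⟩; exact h4 a ha) ?_
    rw [← Nat.card_congr ((eGrp hψ).equivMapOfInjective _ (MulAut.conj g).injective).toEquiv, card_eGrp,
      card_eGrp]
  set s := ψ 4369 with hs
  have hsv : hvalid 4369 = true := by decide
  have hsN : g * s * g⁻¹ ∈ Subgroup.normalizer (eGrp hψ4 : Set G) := normalizer_of hψ4 fun b hb => by
    rw [← hgE] at hb ⊢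
    obtain ⟨a, ha, rfl⟩ := hb
    refine ⟨s * a * s⁻¹, mem_normalizer_of_cent hψ (Swap.ψ_comm_t hψ hsv) a ha, ?_⟩
    simp [mul_assoc]
  have hsy : s * ψ (eC 1) * s⁻¹ = t * ψ (eC 1) := by
    rw [hs, ← hψ.map_mul _ _ hsv (eC_check 1 (by norm_num)).1, eC_special.2.2.2.1,
      hψ.map_mul _ _ (eC_check 9 (by norm_num)).1 hsv, mul_inv_cancel_right, ← eC_special.2.2.2.2.2.2,
      hψ.map_mul _ _ valid_z' (eC_check 1 (by norm_num)).1, hψ.map_z]
  have hst : g * s * g⁻¹ * t * (g * s * g⁻¹)⁻¹ ≠ t := fun h => by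
    have : g * (t * ψ (eC 1)) * g⁻¹ = g * ψ (eC 1) * g⁻¹ := by
      rw [← hsy, e1]
      calc g * (s * ψ (eC 1) * s⁻¹) * g⁻¹ = g * s * g⁻¹ * (g * ψ (eC 1) * g⁻¹) * (g * s * g⁻¹)⁻¹ := by group
        _ = t := by rw [e1, h]
    have ht1 : t = 1 := mul_eq_right.1 (mul_left_cancel (mul_right_cancel this))
    rw [ht1, orderOf_one] at ht
    norm_num at ht
  obtain ⟨n, hn, hn'⟩ := eGrp_trans hψ4 hsN hst (h4 t (t_mem_eGrp hψ)) fun h => by
    have ht1 := conj_eq_one_iff.1 h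
    rw [ht1, orderOf_one] at ht
    norm_num at ht
  -- `n⁻¹ g` fixes `t`, so it normalises the column group and carries it to the row group
  have hcg : (n⁻¹ * g) * t = t * (n⁻¹ * g) := by
    calc n⁻¹ * g * t = n⁻¹ * (g * t * g⁻¹) * g := by group
      _ = t * (n⁻¹ * g) := by rw [← hn']; group
  have hmem : n⁻¹ * g * a₀ * (n⁻¹ * g)⁻¹ ∈ eGrp hψ := mem_normalizer_of_cent hψ hcg a₀ ha₀
  have hsub : ∀ a ∈ eGrp hψ, n⁻¹ * g * a * (n⁻¹ * g)⁻¹ ∈ eGrp hψ4 := fun a ha => by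
    have h := (Subgroup.mem_normalizer_iff.1 (inv_mem hn) _).1 (h4 a ha)
    rwa [show n⁻¹ * g * a * (n⁻¹ * g)⁻¹ = n⁻¹ * (g * a * g⁻¹) * n⁻¹⁻¹ by group]
  have hle : eGrp hψ ≤ eGrp hψ4 := by
    intro b hb
    have hb' := mem_normalizer_of_cent hψ (show (n⁻¹ * g)⁻¹ * t = t * (n⁻¹ * g)⁻¹ from
      (Commute.inv_left (hcg : Commute _ _)).eq) b hb
    have h := hsub _ hb'
    rwa [show n⁻¹ * g * ((n⁻¹ * g)⁻¹ * b * (n⁻¹ * g)⁻¹⁻¹) * (n⁻¹ * g)⁻¹ = b by group] at h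
  obtain ⟨k, hk, ek⟩ := fmem' _ (hle ⟨1, by norm_num, rfl⟩)
  have hk1 := hψ.inj _ _ (eC_check k hk).2.1 (eC_check 1 (by norm_num)).1 ek
  have : ∀ k < 16, fC k ≠ eC 1 := by decide +kernel
  exact this k hk hk1

end CfsgLib.InvChar.HeRec.Tri
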