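import Cfsg.Agent.Lib.InvChar.HeRec.Pair
import Cfsg.Agent.Lib.InvChar.HeRec.Swap.Basic
import Cfsg.Agent.Lib.Mathieu.BitMatrix
import Mathlib.LinearAlgebra.Matrix.SpecialLinearGroup
import Mathlib.LinearAlgebra.Matrix.ToLinearEquiv

/-!
# The codes as matrices of `SL(5, 2)`

A code becomes the matrix `[[1, φ, c], [0, A, u], [0, 0, 1]]`; this identifies the codes with the centraliser
of the transvection in the upper right corner.
-/

set_option autoImplicit false
set_option maxRecDepth 100000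

namespace CfsgLib.InvChar.HeRec.Tri

open CfsgLib.Mathieu Matrix

/-- The special linear group `SL(5, 2)`. -/
abbrev SL5 := Matrix.SpecialLinearGroup (Fin 5) (ZMod 2)

/-- Matrices five by five over two elements. -/
abbrev M5 := Matrix (Fin 5) (Fin 5) (ZMod 2)

/-- The matrix with the given fields. -/
def fMat (A u f c : ℕ) : M5 :=
  ![![1, b2z (f.testBit 0), b2z (f.testBit 1), b2z (f.testBit 2), b2z (c.testBit 0)],
    ![0, b2z (A.testBit 0), b2z (A.testBit 1), b2z (A.testBit 2), b2z (u.testBit 0)],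
    ![0, b2z (A.testBit 3), b2z (A.testBit 4), b2z (A.testBit 5), b2z (u.testBit 1)],
    ![0, b2z (A.testBit 6), b2z (A.testBit 7), b2z (A.testBit 8), b2z (u.testBit 2)],
    ![0, 0, 0, 0, 1]]

/-- The matrix of a code. -/
def cMat (x : ℕ) : M5 := fMat (x &&& 511) ((x >>> 9) &&& 7) ((x >>> 12) &&& 7) (x >>> 15)

/-- The value of an entry as a number. -/
def z2n (a : ZMod 2) : ℕ := a.val

/-- The code of a matrix of the shape above. -/
def mCode (M : M5) : ℕ :=
  mk (z2n (M 1 1) + 2 * z2n (M 1 2) + 4 * z2n (M 1 3) + 8 * z2n (M 2 1) + 16 * z2n (M 2 2) + 32 * z2n (M 2 3) +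
      64 * z2n (M 3 1) + 128 * z2n (M 3 2) + 256 * z2n (M 3 3))
    (z2n (M 1 4) + 2 * z2n (M 2 4) + 4 * z2n (M 3 4))
    (z2n (M 0 1) + 2 * z2n (M 0 2) + 4 * z2n (M 0 3)) (z2n (M 0 4))

/-- The affine point with number `i = c + 2 v`, last coordinate one. -/
def pt (i : ℕ) : Fin 5 → ZMod 2 :=
  ![b2z (i.testBit 0), b2z (i.testBit 1), b2z (i.testBit 2), b2z (i.testBit 3), 1]

theorem cMat_mk {A u f c : ℕ} (hA : A < 512) (hu : u < 8) (hf : f < 8) :
    cMat (mk A u f c) = fMat A u f c := by
  obtain ⟨a1, a2, a3, a4⟩ := fields c hA hu hf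
  rw [cMat, a1, a2, a3, a4]

/-- The bits of a product with a column. -/
def colBitsOK (A v : ℕ) : Bool :=
  ((colMul A v).testBit 0 == ((A.testBit 0 && v.testBit 0) ^^ (A.testBit 1 && v.testBit 1) ^^
    (A.testBit 2 && v.testBit 2))) &&
  (((colMul A v).testBit 1 == ((A.testBit 3 && v.testBit 0) ^^ (A.testBit 4 && v.testBit 1) ^^
    (A.testBit 5 && v.testBit 2))) &&
  ((colMul A v).testBit 2 == ((A.testBit 6 && v.testBit 0) ^^ (A.testBit 7 && v.testBit 1) ^^
    (A.testBit 8 && v.testBit 2))))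

theorem col_bits_check : below 512 (fun A => below 8 fun v => colBitsOK A v) = true ∧
    below 8 (fun f => below 8 fun v => (parThree (f &&& v)).testBit 0 ==
      ((f.testBit 0 && v.testBit 0) ^^ (f.testBit 1 && v.testBit 1) ^^ (f.testBit 2 && v.testBit 2))) = true := by
  decide +kernel

theorem pt_act_bits {A u f c i : ℕ} (hc : c ≤ 1) :
    (act A u f c i).testBit 0 = ((i.testBit 0 ^^ (parThree (f &&& (i >>> 1))).testBit 0) ^^ c.testBit 0) ∧
      ∀ k, (act A u f c i).testBit (k + 1) = ((colMul A (i >>> 1)).testBit k ^^ u.testBit k) := by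
  set b := (i &&& 1) ^^^ parThree (f &&& (i >>> 1)) ^^^ c
  have hb : b ≤ 1 := bit_xor (bit_xor Nat.and_le_right (parThree_le _)) hc
  have e : act A u f c i = 2 * (colMul A (i >>> 1) ^^^ u) + b := by rw [act]; omega
  constructor
  · rw [e, Nat.testBit_zero, show (2 * (colMul A (i >>> 1) ^^^ u) + b) % 2 = b % 2 by omega,
      ← Nat.testBit_zero, Nat.testBit_xor, Nat.testBit_xor, Nat.testBit_and]
    simp
  · intro k
    rw [e, Nat.testBit_succ, show (2 * (colMul A (i >>> 1) ^^^ u) + b) / 2 = colMul A (i >>> 1) ^^^ u by omega,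
      Nat.testBit_xor]

theorem fMat_pt {A u f c i : ℕ} (hA : A < 512) (hf : f < 8) (hc : c ≤ 1) (hi : i < 16) :
    fMat A u f c *ᵥ pt i = pt (act A u f c i) := by
  have hi8 : i >>> 1 < 8 := by rw [Nat.shiftRight_eq_div_pow]; omega
  obtain ⟨b0, bk⟩ := pt_act_bits (A := A) (u := u) (f := f) (i := i) hc
  have h := of_below (of_below col_bits_check.1 hA) hi8
  simp only [colBitsOK, Bool.and_eq_true, beq_iff_eq, Nat.testBit_shiftRight] at h
  obtain ⟨h1, h2, h3⟩ := h
  have h0 := beq_iff_eq.1 (of_below (of_below col_bits_check.2 hf) hi8)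
  simp only [Nat.testBit_shiftRight] at h0
  have k0 := bk 0
  have k1 := bk 1
  have k2 := bk 2
  rw [h1] at k0; rw [h2] at k1; rw [h3] at k2; rw [h0] at b0
  ext r
  fin_cases r <;> simp [fMat, pt, Matrix.mulVec, dotProduct, Fin.sum_univ_five, b0, k0, k1, k2, b2z_xor,
    b2z_and] <;> ring

theorem pt_inj : ∀ i < 16, ∀ j < 16, pt i = pt j → i = j := by decide +kernel

theorem ext_pt {M N : M5} (h : ∀ i < 16, M *ᵥ pt i = N *ᵥ pt i) : M = N := by
  ext r k
  have e : ∀ i < 16, (M *ᵥ pt i) r = (N *ᵥ pt i) r := fun i hi => congrFun (h i hi) r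
  have p0 : pt 0 = ![0, 0, 0, 0, 1] := by decide +kernel
  have p1 : pt 1 = ![1, 0, 0, 0, 1] := by decide +kernel
  have p2 : pt 2 = ![0, 1, 0, 0, 1] := by decide +kernel
  have p4 : pt 4 = ![0, 0, 1, 0, 1] := by decide +kernel
  have p8 : pt 8 = ![0, 0, 0, 1, 1] := by decide +kernel
  have e0 := e 0 (by norm_num); have e1 := e 1 (by norm_num); have e2 := e 2 (by norm_num)
  have e4 := e 4 (by norm_num); have e8 := e 8 (by norm_num)
  simp [p0, p1, p2, p4, p8, Matrix.mulVec, dotProduct, Fin.sum_univ_five] at e0 e1 e2 e4 e8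
  rw [e0] at e1 e2 e4 e8
  fin_cases k
  · exact add_right_cancel e1
  · exact add_right_cancel e2
  · exact add_right_cancel e4
  · exact add_right_cancel e8
  · exact e0

theorem cMat_mul {x y : ℕ} (hx : hvalid x = true) (hy : hvalid y = true) :
    cMat (hmul x y) = cMat x * cMat y := by
  obtain ⟨A, u, f, c, rfl, hA, hu, hf, hc, -⟩ := of_valid hx
  obtain ⟨B, v, g, d, rfl, hB, hv, hg, hd, -⟩ := of_valid hy
  have hu' := Nat.xor_lt_two_pow (n := 3) (colMul_lt A v) hu
  have hf' := Nat.xor_lt_two_pow (n := 3) (rowMul_lt f B) hg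
  have hc' := bit_xor (bit_xor hc hd) (parThree_le (f &&& v))
  rw [hmul_mk hA hu hf hB hv hg, cMat_mk (matMul_lt _ _) hu' hf', cMat_mk hA hu hf, cMat_mk hB hv hg]
  refine ext_pt fun i hi => ?_
  rw [fMat_pt (matMul_lt _ _) hf' hc' hi, ← Matrix.mulVec_mulVec, fMat_pt hB hg hd hi,
    fMat_pt hA hf hc (act_lt hv hd), act_comp hA hf hB hv hg hd hi]

theorem col_inj_check : below 512 (fun A => !hvalid A || below 8 fun v => colMul A v != 0 || v == 0) = true ∧
    below 512 (fun A => hvalid A || (List.range 8).any fun v => v != 0 && colMul A v == 0) = true := by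
  decide +kernel

theorem cMat_det {x : ℕ} (hx : hvalid x = true) : (cMat x).det = 1 := by
  obtain ⟨A, u, f, c, rfl, hA, hu, hf, hc, hvA⟩ := of_valid hx
  rw [cMat_mk hA hu hf]
  have hne : (fMat A u f c).det ≠ 0 := fun h0 => by
    obtain ⟨w, hw, hMw⟩ := Matrix.exists_mulVec_eq_zero_iff.2 h0
    have h4 : w 4 = 0 := by
      have := congrFun hMw 4
      simpa [fMat, Matrix.mulVec, dotProduct, Fin.sum_univ_five] using this
    obtain ⟨i, hi, hwi⟩ : ∃ i < 16, w + pt 0 = pt i := by
      have h : ∀ v : Fin 5 → ZMod 2, v 4 = 0 → ∃ i < 16, v + pt 0 = pt i := by decide +kernel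
      exact h w h4
    have e : pt (act A u f c i) = pt (act A u f c 0) := by
      rw [← fMat_pt hA hf hc hi, ← fMat_pt hA hf hc (by norm_num), ← hwi, Matrix.mulVec_add, hMw, zero_add]
    have e' := pt_inj _ (act_lt hu hc) _ (act_lt hu hc) e
    have hi8 : i >>> 1 < 8 := by rw [Nat.shiftRight_eq_div_pow]; omega
    have e2 := congrArg (fun a => a >>> 1) e'
    have d1 : ∀ j, act A u f c j >>> 1 = colMul A (j >>> 1) ^^^ u := fun j => by
      have := bit_xor (bit_xor (a := j &&& 1) Nat.and_le_right (parThree_le (f &&& (j >>> 1)))) hc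
      rw [act, Nat.shiftRight_eq_div_pow]
      simp only [← Nat.shiftRight_eq_div_pow]
      omega
    simp only [d1] at e2
    have e3 : colMul A (i >>> 1) = 0 := by
      have := Nat.xor_left_inj.1 e2
      simpa [colMul, parThree] using this
    have hcol := of_below col_inj_check.1 hA
    rw [hvA, Bool.not_true, Bool.false_or] at hcol
    have hz := of_below hcol hi8
    rw [e3] at hz
    have hi2 : i / 2 = 0 := by simpa [Nat.shiftRight_eq_div_pow] using hz
    obtain rfl | rfl : i = 0 ∨ i = 1 := by omega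
    · refine hw ?_
      have := congrArg (fun v => v + pt 0) hwi
      simpa [add_assoc, show pt 0 + pt 0 = 0 by decide +kernel] using this
    · simp [act, parThree] at e'
  exact ((by decide : ∀ a : ZMod 2, a ≠ 0 → a = 1) _ hne)

/-- The matrix of a valid code, as an element of `SL(5, 2)`. -/
def cSL (x : ℕ) : SL5 := if h : hvalid x = true then (⟨cMat x, cMat_det h⟩ : SL5) else 1

theorem cSL_coe {x : ℕ} (hx : hvalid x = true) : ((cSL x : SL5) : M5) = cMat x := by
  have e : cSL x = (⟨cMat x, cMat_det hx⟩ : SL5) := dif_pos hx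
  exact congrArg Subtype.val e

theorem cSL_mul {x y : ℕ} (hx : hvalid x = true) (hy : hvalid y = true) (hxy : hvalid (hmul x y) = true) :
    cSL (hmul x y) = cSL x * cSL y := by
  apply Subtype.ext
  rw [cSL_coe hxy, Matrix.SpecialLinearGroup.coe_mul, cSL_coe hx, cSL_coe hy, cMat_mul hx hy]

theorem mCode_check : below 512 (fun A => z2n (b2z (A.testBit 0)) + 2 * z2n (b2z (A.testBit 1)) +
      4 * z2n (b2z (A.testBit 2)) + 8 * z2n (b2z (A.testBit 3)) + 16 * z2n (b2z (A.testBit 4)) +
      32 * z2n (b2z (A.testBit 5)) + 64 * z2n (b2z (A.testBit 6)) + 128 * z2n (b2z (A.testBit 7)) +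
      256 * z2n (b2z (A.testBit 8)) == A) = true ∧
    below 8 (fun u => z2n (b2z (u.testBit 0)) + 2 * z2n (b2z (u.testBit 1)) +
      4 * z2n (b2z (u.testBit 2)) == u) = true ∧
    below 2 (fun c => z2n (b2z (c.testBit 0)) == c) = true := by
  decide +kernel

theorem mCode_cMat {x : ℕ} (hx : hvalid x = true) : mCode (cMat x) = x := by
  obtain ⟨A, u, f, c, rfl, hA, hu, hf, hc, -⟩ := of_valid hx
  obtain ⟨hA', hu', hc'⟩ := mCode_check
  have a := beq_iff_eq.1 (of_below hA' hA)
  have b := beq_iff_eq.1 (of_below hu' hu)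
  have b' := beq_iff_eq.1 (of_below hu' hf)
  have d := beq_iff_eq.1 (of_below hc' (show c < 2 by omega))
  rw [cMat_mk hA hu hf]
  simp only [mCode, fMat, Fin.isValue, Matrix.cons_val', Matrix.cons_val, Matrix.cons_val_zero, Matrix.cons_val_one]
  rw [a, b, b', d]

theorem cSL_inj {x y : ℕ} (hx : hvalid x = true) (hy : hvalid y = true) (h : cSL x = cSL y) : x = y := by
  rw [← mCode_cMat hx, ← mCode_cMat hy, ← cSL_coe hx, ← cSL_coe hy, h]

/-- Every matrix of the shape is the matrix of a code. -/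
theorem exists_code (M : SL5) (hc : ∀ i : Fin 5, i ≠ 0 → (M : M5) i 0 = 0)
    (hr : ∀ j : Fin 5, j ≠ 4 → (M : M5) 4 j = 0) : ∃ x, hvalid x = true ∧ cSL x = M := by
  have one_or : ∀ a : ZMod 2, a = 0 ∨ a = 1 := by decide
  have hdet := M.2
  have h00 : (M : M5) 0 0 = 1 := (one_or _).resolve_left fun h => by
    rw [Matrix.det_eq_zero_of_column_eq_zero 0 fun i => ?_] at hdet
    · exact zero_ne_one hdet
    · by_cases hi : i = 0
      · rw [hi]; exact h
      · exact hc i hi
  have h44 : (M : M5) 4 4 = 1 := (one_or _).resolve_left fun h => by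
    rw [Matrix.det_eq_zero_of_row_eq_zero 4 fun j => ?_] at hdet
    · exact zero_ne_one hdet
    · by_cases hj : j = 4
      · rw [hj]; exact h
      · exact hr j hj
  have bnd : ∀ a : ZMod 2, z2n a ≤ 1 ∧ b2z (decide (z2n a = 1)) = a := by decide
  set A := z2n ((M : M5) 1 1) + 2 * z2n ((M : M5) 1 2) + 4 * z2n ((M : M5) 1 3) + 8 * z2n ((M : M5) 2 1) +
    16 * z2n ((M : M5) 2 2) + 32 * z2n ((M : M5) 2 3) + 64 * z2n ((M : M5) 3 1) + 128 * z2n ((M : M5) 3 2) +
    256 * z2n ((M : M5) 3 3) with hA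
  set u := z2n ((M : M5) 1 4) + 2 * z2n ((M : M5) 2 4) + 4 * z2n ((M : M5) 3 4) with hu
  set f := z2n ((M : M5) 0 1) + 2 * z2n ((M : M5) 0 2) + 4 * z2n ((M : M5) 0 3) with hf
  set c := z2n ((M : M5) 0 4) with hc0
  have b := fun i j => (bnd ((M : M5) i j)).1
  have b11 := b 1 1; have b12 := b 1 2; have b13 := b 1 3; have b21 := b 2 1; have b22 := b 2 2
  have b23 := b 2 3; have b31 := b 3 1; have b32 := b 3 2; have b33 := b 3 3; have b14 := b 1 4
  have b24 := b 2 4; have b34 := b 3 4; have b01 := b 0 1; have b02 := b 0 2; have b03 := b 0 3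
  have b04 := b 0 4
  have hA' : A < 512 := by omega
  have hu' : u < 8 := by omega
  have hf' : f < 8 := by omega
  have hM : fMat A u f c = (M : M5) := by
    have tb : ∀ n k : ℕ, n.testBit k = decide (n / 2 ^ k % 2 = 1) := fun n k => by
      rw [Nat.testBit_eq_decide_div_mod_eq]
    ext i j
    have e0 := fun i j => (bnd ((M : M5) i j)).2
    fin_cases i <;> fin_cases j <;>
      simp only [fMat, tb, Fin.isValue, Fin.mk_one, Fin.zero_eta, Fin.reduceFinMk, Matrix.cons_val', Matrix.cons_val,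
        Matrix.cons_val_zero, Matrix.cons_val_one] <;>
      first
        | exact h00.symm
        | exact h44.symm
        | exact (hc _ (by decide)).symm
        | exact (hr _ (by decide)).symm
        | (refine (congrArg b2z (decide_eq_decide.2 ?_)).trans (e0 _ _)
           omega)
  have hvA : hvalid A = true := by
    by_contra hA0
    have h := of_below col_inj_check.2 hA'
    rw [Bool.eq_false_iff.2 hA0, Bool.false_or, List.any_eq_true] at h
    obtain ⟨v, hv, hv'⟩ := h
    rw [List.mem_range] at hv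
    simp only [Bool.and_eq_true, bne_iff_ne, beq_iff_eq] at hv'
    have hc1 : c ≤ 1 := b04
    -- two affine points with one image
    have key : ∃ i < 16, i ≠ 0 ∧ act A u f c i = act A u f c 0 := by
      refine ⟨parThree (f &&& v) + 2 * v, ?_, ?_, ?_⟩
      · have := parThree_le (f &&& v); omega
      · omega
      · have hp := parThree_le (f &&& v)
        have e1 : (parThree (f &&& v) + 2 * v) &&& 1 = parThree (f &&& v) := by
          rw [Nat.and_one_is_mod]; omega
        have e2 : (parThree (f &&& v) + 2 * v) >>> 1 = v := by rw [Nat.shiftRight_eq_div_pow]; omega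
        have z0 : colMul A 0 = 0 := by simp [colMul, parThree]
        rw [act, act, e1, e2, hv'.2, Nat.xor_self]
        simp [z0, show parThree 0 = 0 from rfl]
    obtain ⟨i, hi, hi0, he⟩ := key
    have e := congrArg pt he
    rw [← fMat_pt hA' hf' hc1 hi, ← fMat_pt hA' hf' hc1 (by norm_num), hM] at e
    have hinj : Function.Injective ((M : M5) *ᵥ ·) :=
      Matrix.mulVec_injective_iff_isUnit.2 ((Matrix.isUnit_iff_isUnit_det _).2 (by rw [hdet]; exact isUnit_one))
    exact hi0 (pt_inj i hi 0 (by norm_num) (hinj e))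
  have hvx : hvalid (mk A u f c) = true := (hvalid_mk hA' hu' hf' b04).trans hvA
  exact ⟨mk A u f c, hvx, Subtype.ext (by rw [cSL_coe hvx, cMat_mk hA' hu' hf', hM])⟩

theorem cSL_one : cSL hOne = 1 := by
  have h : hvalid hOne = true := by decide
  apply Subtype.ext
  rw [cSL_coe h]
  decide +kernel

end CfsgLib.InvChar.HeRec.Tri
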