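/-!
# Words in two generators of the Levi complement inside the centraliser
-/

set_option autoImplicit false

namespace CfsgLib.InvChar.HeRec.Tri

/-- Words for the row parts, in base three. -/
def lWordsF : List Nat := [0, 17167, 12137, 16729, 463606, 448, 616, 392]

/-- Words for the matrix parts, with the matrices. -/
def lWordsA : List (Nat × Nat) := [
  (84, 476), (85, 51484), (86, 98168), (87, 157139), (92, 5750), (93, 150631),
  (94, 52456), (95, 3533), (98, 19574), (99, 150173), (102, 95984), (103, 3617),
  (106, 1351291), (107, 174202), (110, 58310), (111, 4040), (114, 150817), (115, 1367),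
  (116, 465100), (117, 168395), (122, 25), (123, 505105), (124, 16754), (125, 17413),
  (140, 6533), (141, 1850), (142, 150892), (143, 36932), (156, 111281), (157, 32048),
  (158, 16681), (159, 465098), (161, 327721), (163, 3635), (165, 157216), (167, 700),
  (169, 169775), (171, 150577), (172, 5719), (174, 115655), (177, 17465), (179, 351346),
  (181, 1349), (183, 155239), (185, 18701), (187, 58072), (188, 117358), (190, 10844),
  (204, 879061), (205, 117356), (206, 698), (207, 4336), (212, 6313), (213, 504950),
  (214, 327937), (215, 334340), (225, 17225), (226, 130), (229, 39284), (230, 36934),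
  (233, 644), (234, 19646), (236, 98170), (239, 12389), (241, 38356), (242, 37087),
  (244, 1852), (247, 5827), (249, 347650), (250, 452437), (253, 19439), (254, 12841),
  (266, 524842), (267, 36412), (270, 50029), (271, 332170), (273, 0), (275, 170576),
  (277, 13030), (279, 522661), (281, 450494), (282, 5576), (285, 156622), (286, 32066),
  (298, 111424), (299, 117827), (302, 505103), (303, 17467), (305, 287927), (307, 4370),
  (309, 19408), (311, 531112), (313, 10826), (314, 12877), (317, 50215), (318, 471410),
  (330, 177055), (331, 12875), (334, 36448), (335, 238), (337, 1587649), (339, 10691),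
  (340, 168361), (342, 458), (345, 10898), (346, 18869), (348, 346730), (351, 174851),
  (354, 38545), (355, 465739), (358, 23), (359, 50290), (369, 56527), (370, 1514581),
  (372, 38392), (375, 98321), (377, 111208), (379, 351377), (380, 465586), (382, 95953),
  (394, 12391), (395, 509318), (396, 109103), (397, 97682), (401, 1410583), (403, 16756),
  (405, 32767), (407, 154436), (409, 39037), (410, 56830), (412, 1183), (415, 6236),
  (417, 18871), (419, 333871), (421, 17243), (423, 150575), (425, 2155), (426, 161),
  (428, 170261), (431, 98134), (442, 150629), (443, 59011), (444, 646), (445, 327229),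
  (458, 463369), (459, 115657), (460, 1214), (461, 6551), (465, 170558), (467, 56525),
  (468, 36446), (470, 157354), (473, 6451), (474, 111455), (477, 50027), (478, 13028),
  (481, 450274), (482, 117283), (485, 1421), (486, 19592), (489, 5578), (491, 51722),
  (492, 1572209), (494, 109258), (498, 294916), (499, 10660), (500, 1357855), (501, 39253)]

end CfsgLib.InvChar.HeRec.Tri
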