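import Cfsg.Agent.Lib.InvChar.HeRec.Trichotomy.L5Local
import Cfsg.Agent.Lib.InvChar.HeRec.Trichotomy.L5Words

/-!
# Data for the parabolic subgroup over the column group

When the normaliser of the column group moves `t` it is the graph of a homomorphism from the stabiliser of the
last coordinate in `SL(5, 2)`, and this homomorphism extends the frame.
-/

set_option autoImplicit false
set_option maxRecDepth 100000

namespace CfsgLib.InvChar.HeRec.Tri

open Subgroup Matrix CfsgLib.Mathieu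

/-- The last basis vector. -/
def e4 : Fin 5 → ZMod 2 := ![0, 0, 0, 0, 1]

/-- The matrices fixing the last coordinate. -/
def RowSub : Subgroup SL5 where
  carrier := {M | vecMul e4 (M : M5) = e4}
  one_mem' := by show vecMul e4 ((1 : SL5) : M5) = e4; rw [Matrix.SpecialLinearGroup.coe_one, vecMul_one]
  mul_mem' {M N} hM hN := by
    show vecMul e4 ((M * N : SL5) : M5) = e4
    rw [Matrix.SpecialLinearGroup.coe_mul, ← vecMul_vecMul, show vecMul e4 (M : M5) = e4 from hM]
    exact hN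
  inv_mem' {M} hM := by
    show vecMul e4 ((M⁻¹ : SL5) : M5) = e4
    conv_lhs => rw [← (show vecMul e4 (M : M5) = e4 from hM)]
    rw [vecMul_vecMul, ← Matrix.SpecialLinearGroup.coe_mul, mul_inv_cancel, Matrix.SpecialLinearGroup.coe_one, vecMul_one]

/-- The matrices fixing the last coordinate and the last basis vector. -/
def LinSub : Subgroup SL5 where
  carrier := {M | vecMul e4 (M : M5) = e4 ∧ (M : M5) *ᵥ e4 = e4}
  one_mem' := ⟨RowSub.one_mem, by rw [Matrix.SpecialLinearGroup.coe_one, one_mulVec]⟩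
  mul_mem' {M N} hM hN := ⟨RowSub.mul_mem hM.1 hN.1, by
    rw [Matrix.SpecialLinearGroup.coe_mul, ← mulVec_mulVec, hN.2, hM.2]⟩
  inv_mem' {M} hM := ⟨RowSub.inv_mem hM.1, by
    conv_lhs => rw [← hM.2]
    rw [mulVec_mulVec, ← Matrix.SpecialLinearGroup.coe_mul, inv_mul_cancel, Matrix.SpecialLinearGroup.coe_one, one_mulVec]⟩

theorem mem_RowSub {M : SL5} : M ∈ RowSub ↔ vecMul e4 (M : M5) = e4 := Iff.rfl

theorem mem_LinSub {M : SL5} : M ∈ LinSub ↔ vecMul e4 (M : M5) = e4 ∧ (M : M5) *ᵥ e4 = e4 := Iff.rfl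

/-- The vector of the number `u + 8 c`. -/
def vE (k : ℕ) : Fin 5 → ZMod 2 :=
  ![b2z (k.testBit 3), b2z (k.testBit 0), b2z (k.testBit 1), b2z (k.testBit 2), 0]

/-- The column transvection with the given number. -/
def colT (k : ℕ) : SL5 := cSL (eC k)

theorem colT_mat : ∀ k < 16, cMat (eC k) = 1 + vecMulVec (vE k) e4 := by decide +kernel

theorem vE_facts : (∀ w : Fin 5 → ZMod 2, w 4 = 0 → ∃ k < 16, vE k = w) ∧
    (∀ j < 16, ∀ k < 16, vE (j ^^^ k) = vE j + vE k ∧ (vE j = vE k → j = k)) := by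
  decide +kernel

theorem colT_coe {k : ℕ} (hk : k < 16) : (colT k : M5) = 1 + vecMulVec (vE k) e4 := by
  rw [colT, cSL_coe (eC_check k hk).1, colT_mat k hk]

theorem colT_row {k : ℕ} (hk : k < 16) : colT k ∈ RowSub := by
  rw [mem_RowSub, colT_coe hk, vecMul_add, vecMul_one, vecMul_vecMulVec,
    show e4 ⬝ᵥ vE k = 0 by simp [e4, vE, dotProduct, Fin.sum_univ_five], zero_smul, add_zero]

theorem colT_mul {j k : ℕ} (hj : j < 16) (hk : k < 16) : colT j * colT k = colT (j ^^^ k) := by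
  obtain ⟨hlt, he, -⟩ := (eC_check k hk).2.2.2.2.2.2 j hj
  rw [colT, colT, colT, ← cSL_mul (eC_check j hj).1 (eC_check k hk).1 (by rw [he]; exact (eC_check _ hlt).1), he]

theorem colT_inj {j k : ℕ} (hj : j < 16) (hk : k < 16) (h : colT j = colT k) : j = k :=
  ((eC_check k hk).2.2.2.2.2.2 j hj).2.2 (cSL_inj (eC_check j hj).1 (eC_check k hk).1 h)

/-- A matrix fixing the last coordinate permutes the column transvections. -/
theorem colT_conj {M : SL5} (hM : M ∈ RowSub) {k : ℕ} (hk : k < 16) :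
    ∃ j < 16, M * colT k = colT j * M := by
  have hv : ((M : M5) *ᵥ vE k) 4 = 0 := by
    have := congrArg (fun v => v ⬝ᵥ vE k) (mem_RowSub.1 hM)
    simp only [← dotProduct_mulVec] at this
    simpa [e4, dotProduct, Fin.sum_univ_five, vE] using this
  obtain ⟨j, hj, e⟩ := vE_facts.1 _ hv
  refine ⟨j, hj, Subtype.ext ?_⟩
  rw [Matrix.SpecialLinearGroup.coe_mul, Matrix.SpecialLinearGroup.coe_mul, colT_coe hk, colT_coe hj, mul_add, add_mul,
    mul_one, one_mul, mul_vecMulVec, vecMulVec_mul, e, mem_RowSub.1 hM]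

attribute [local irreducible] cSL

/-- The matrix whose columns are given numbers, fixing the last coordinate and basis vector. -/
def colM (a b c d : ℕ) : M5 := fun i => ![vE a i, vE b i, vE c i, vE d i, e4 i]

theorem colM_vE {a b c d : ℕ} (k : ℕ) :
    colM a b c d *ᵥ vE k = b2z (k.testBit 3) • vE a + b2z (k.testBit 0) • vE b + b2z (k.testBit 1) • vE c +
      b2z (k.testBit 2) • vE d := by
  ext i
  fin_cases i <;> simp [colM, vE, Matrix.mulVec, dotProduct, Fin.sum_univ_five] <;> ring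

/-- The Levi complement as codes. -/
def isLevi (x : ℕ) : Prop := (x >>> 9) &&& 7 = 0 ∧ x >>> 15 = 0

theorem levi_mk {A f : ℕ} (hA : A < 512) (hf : f < 8) : isLevi (mk A 0 f 0) := by
  obtain ⟨-, h2, -, h4⟩ := fields 0 hA (show 0 < 8 by norm_num) hf
  exact ⟨h2, h4⟩

theorem of_levi {x : ℕ} (hx : hvalid x = true) (h : isLevi x) :
    ∃ A f, x = mk A 0 f 0 ∧ A < 512 ∧ f < 8 ∧ hvalid A = true := by
  obtain ⟨A, u, f, c, rfl, hA, hu, hf, -, hvA⟩ := of_valid hx
  obtain ⟨-, h2, -, h4⟩ := fields c hA hu hf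
  obtain ⟨h, h'⟩ := h
  rw [h2] at h; rw [h4] at h'
  subst h; subst h'
  exact ⟨A, f, rfl, hA, hf, hvA⟩

/-- A code is a column element times a Levi element. -/
theorem code_split {x : ℕ} (hx : hvalid x = true) :
    ∃ k < 16, ∃ y, hvalid y = true ∧ isLevi y ∧ hmul (eC k) y = x := by
  obtain ⟨A, u, f, c, rfl, hA, hu, hf, hc, hvA⟩ := of_valid hx
  refine ⟨u + 8 * c, by omega, mk A 0 f 0, (hvalid_mk hA (by norm_num) hf (by norm_num)).trans hvA,
    levi_mk hA hf, ?_⟩
  obtain ⟨u1, -⟩ := units_check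
  have u1' := of_below u1 hA
  simp only [Bool.and_eq_true, beq_iff_eq] at u1'
  have hc0 : ∀ u < 8, colMul 273 0 ^^^ u = u := by decide +kernel
  rw [eC, show (u + 8 * c) % 8 = u by omega, show (u + 8 * c) / 8 = c by omega,
    hmul_mk (by norm_num) hu (by norm_num) hA (by norm_num) hf, u1'.1, u1'.2.2.2, hc0 u hu]
  simp [parThree]

theorem levi_mat {x : ℕ} (hx : hvalid x = true) (h : isLevi x) : cSL x ∈ LinSub := by
  obtain ⟨A, f, rfl, hA, hf, -⟩ := of_levi hx h
  rw [mem_LinSub, cSL_coe hx, cMat_mk hA (by norm_num) hf]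
  constructor <;> ext i <;> fin_cases i <;>
    simp [fMat, e4, Matrix.mulVec, Matrix.vecMul, dotProduct, Fin.sum_univ_five, b2z]

theorem levi_of_lin {x : ℕ} (hx : hvalid x = true) (h : cSL x ∈ LinSub) : isLevi x := by
  obtain ⟨A, u, f, c, rfl, hA, hu, hf, hc, hvA⟩ := of_valid hx
  have h' := h.2
  rw [cSL_coe hx, cMat_mk hA hu hf] at h'
  have e0 := congrFun h' 0; have e1 := congrFun h' 1; have e2 := congrFun h' 2; have e3 := congrFun h' 3
  simp [fMat, e4, Matrix.mulVec, dotProduct, Fin.sum_univ_five] at e0 e1 e2 e3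
  have hu0 : ∀ u < 8, b2z (decide (u % 2 = 1)) = 0 → b2z (u.testBit 1) = 0 → b2z (u.testBit 2) = 0 → u = 0 := by
    decide +kernel
  have hc0 : ∀ c < 2, b2z (decide (c % 2 = 1)) = 0 → c = 0 := by decide +kernel
  rw [hu0 u hu e1 e2 e3, hc0 c (by omega) e0]
  exact levi_mk hA hf

/-- The generators of the Levi complement. -/
def lGen : List ℕ := [8459, 24717]

/-- A word in base three. -/
def lWord : ℕ → ℕ → List ℕ
  | 0, _ => []
  | k + 1, n => if n = 0 then [] else (n % 3 - 1) :: lWord k (n / 3)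

/-- Evaluation. -/
def lEval (g : List ℕ) (w : List ℕ) : ℕ := w.foldl (fun x i => hmul x (g.getD i 0)) hOne

theorem lWords_check : (∀ f < 8, lEval lGen (lWord 14 (lWordsF.getD f 0)) = mk 273 0 f 0 ∧
      ∀ i ∈ lWord 14 (lWordsF.getD f 0), i < 2) ∧
    (∀ A < 512, hvalid A = true → ∃ p ∈ lWordsA, p.1 = A ∧ lEval lGen (lWord 14 p.2) = A ∧
      ∀ i ∈ lWord 14 p.2, i < 2) := by
  decide +kernel

/-- The relators fixing the class of complements. -/
def lRels : List (List ℕ) := [[0, 0, 0], [1, 1, 1, 1, 1, 1, 1], [0, 0, 1, 1, 0, 1, 0, 0, 1, 1, 0, 1]]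

/-- Lifts of the generators. -/
def lLift (a b : ℕ) : List ℕ := [hmul (eC a) 8459, hmul (eC b) 24717]

theorem lRels_check : ∀ a < 16, ∀ b < 16, (∀ r ∈ lRels, ∃ k < 16, lEval (lLift a b) r = eC k) ∧
    ((∀ r ∈ lRels, lEval (lLift a b) r = hOne) →
      ∃ w < 16, hmul (hmul (eC w) 8459) (eC w) = hmul (eC a) 8459 ∧
        hmul (hmul (eC w) 24717) (eC w) = hmul (eC b) 24717) := by
  decide +kernel

variable {G : Type*} [Group G] [Finite G] {t : G} {ψ : ℕ → G}

omit [Finite G] in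
theorem lEval_mem (hψ : IsFrame t ψ) (H : Subgroup G) {g : List ℕ}
    (hg : ∀ i < 2, hvalid (g.getD i 0) = true ∧ ψ (g.getD i 0) ∈ H) (w : List ℕ) (hw : ∀ i ∈ w, i < 2) :
    hvalid (lEval g w) = true ∧ ψ (lEval g w) ∈ H := by
  suffices ∀ x, hvalid x = true → ψ x ∈ H →
      hvalid (w.foldl (fun x i => hmul x (g.getD i 0)) x) = true ∧
        ψ (w.foldl (fun x i => hmul x (g.getD i 0)) x) ∈ H from
    this hOne (by decide) (by rw [Swap.ψ_one hψ]; exact one_mem H)
  induction w with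
  | nil => exact fun x h1 h2 => ⟨h1, h2⟩
  | cons i w ih =>
    intro x h1 h2
    obtain ⟨h3, h4⟩ := hg i (hw i List.mem_cons_self)
    exact ih (fun j hj => hw j (List.mem_cons_of_mem _ hj)) _ (Swap.hvalid_hmul h1 h3)
      (by rw [hψ.map_mul _ _ h1 h3]; exact mul_mem h2 h4)

omit [Finite G] in
/-- A subgroup containing the two generators contains the Levi complement. -/
theorem levi_mem (hψ : IsFrame t ψ) {H : Subgroup G} (h1 : ψ 8459 ∈ H) (h2 : ψ 24717 ∈ H) {x : ℕ}
    (hx : hvalid x = true) (hl : isLevi x) : ψ x ∈ H := by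
  obtain ⟨A, f, rfl, hA, hf, hvA⟩ := of_levi hx hl
  have hg : ∀ i < 2, hvalid (lGen.getD i 0) = true ∧ ψ (lGen.getD i 0) ∈ H := by
    intro i hi
    interval_cases i
    · exact ⟨by decide, h1⟩
    · exact ⟨by decide, h2⟩
  obtain ⟨e1, w1⟩ := lWords_check.1 f hf
  obtain ⟨p, -, -, e2, w2⟩ := lWords_check.2 A hA hvA
  obtain ⟨v1, m1⟩ := lEval_mem hψ H hg _ w1
  obtain ⟨v2, m2⟩ := lEval_mem hψ H hg _ w2
  rw [e1] at v1 m1
  rw [e2] at v2 m2
  obtain ⟨u1, u2⟩ := units_check
  have u1' := of_below u1 hA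
  simp only [Bool.and_eq_true, beq_iff_eq] at u1'
  have hr := beq_iff_eq.1 (of_below u2 hf)
  have he : hmul A (mk 273 0 f 0) = mk A 0 f 0 := by
    conv_lhs => rw [show A = mk A 0 0 0 by simp [mk]]
    rw [hmul_mk hA (by norm_num) (by norm_num) (by norm_num) (by norm_num) hf, u1'.2.1, u1'.2.2.1,
      show rowMul 0 273 = 0 from rfl]
    simp [parThree]
  rw [← he, hψ.map_mul _ _ v2 v1]
  exact mul_mem m2 m1

omit [Finite G] in
/-- What centralises the column group lies in it. -/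
theorem cent_eGrp (hψ : IsFrame t ψ) {g : G} (h : ∀ e ∈ eGrp hψ, g * e = e * g) : g ∈ eGrp hψ := by
  obtain ⟨x, hx, rfl⟩ := Swap.code_of_comm hψ (h t (t_mem_eGrp hψ))
  obtain ⟨A, u, f, c, rfl, hA, hu, hf, hc, hvA⟩ := of_valid hx
  have key : ∀ v < 8, colMul A v = v ∧ parThree (f &&& v) = 0 := by
    intro v hv
    have hv' : hvalid (mk 273 v 0 0) = true := (hvalid_mk (by norm_num) hv (by norm_num) (by norm_num)).trans
      (by decide)
    have e : mk 273 v 0 0 = eC v := by rw [eC, Nat.mod_eq_of_lt hv, Nat.div_eq_of_lt hv]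
    have h' := (Swap.mul_eq_iff hψ hx hv' hv' hx).1 (h _ ⟨v, by omega, by rw [e]⟩)
    obtain ⟨u1, u2⟩ := units_check
    have u1' := of_below u1 hA
    simp only [Bool.and_eq_true, beq_iff_eq] at u1'
    have hcu : ∀ u < 8, colMul 273 u = u := by decide +kernel
    rw [hmul_mk hA hu hf (by norm_num) hv (by norm_num), hmul_mk (by norm_num) hv (by norm_num) hA hu hf,
      u1'.2.1, u1'.1, u1'.2.2.2, beq_iff_eq.1 (of_below u2 hf), hcu u hu] at h'
    have hvlt := Nat.xor_lt_two_pow (n := 3) (colMul_lt A v) hu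
    have f1 := fields (c ^^^ 0 ^^^ parThree (f &&& v)) hA hvlt (show f ^^^ 0 < 8 by simpa using hf)
    have f2 := fields (0 ^^^ c ^^^ parThree (0 &&& u)) hA (Nat.xor_lt_two_pow (n := 3) hu hv)
      (show 0 ^^^ f < 8 by simpa using hf)
    rw [h'] at f1
    have e1 := f1.2.1.symm.trans f2.2.1
    have e2 := f1.2.2.2.symm.trans f2.2.2.2
    rw [Nat.xor_comm u v] at e1
    simp only [Nat.xor_zero, Nat.zero_xor, Nat.zero_and, show parThree 0 = 0 from rfl] at e2
    refine ⟨Nat.xor_left_inj.1 e1, ?_⟩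
    have e3 : c ^^^ parThree (f &&& v) = c ^^^ 0 := by rw [e2, Nat.xor_zero]
    exact Nat.xor_right_inj.1 e3
  have hA' := of_below one_check.1 hA
  rw [(key 1 (by norm_num)).1, (key 2 (by norm_num)).1, (key 4 (by norm_num)).1] at hA'
  have hf' := of_below one_check.2 hf
  rw [(key 1 (by norm_num)).2, (key 2 (by norm_num)).2, (key 4 (by norm_num)).2] at hf'
  simp only [BEq.rfl, Bool.and_self, Bool.not_true, Bool.false_or, beq_iff_eq] at hA' hf'
  subst hA' hf'
  exact ⟨u + 8 * c, by omega, by rw [eC, show (u + 8 * c) % 8 = u by omega, show (u + 8 * c) / 8 = c by omega]⟩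

end CfsgLib.InvChar.HeRec.Tri
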