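import Cfsg.Agent.Lib.InvChar.HeRec.Trichotomy.L5ParData
import Cfsg.Agent.Lib.Solvable.Gaschutz

/-!
# The parabolic subgroup over the column group

When the normaliser of the column group moves `t` it is the graph of a homomorphism from the stabiliser of the
last coordinate in `SL(5, 2)`, and this homomorphism extends the frame.
-/

set_option autoImplicit false
set_option maxRecDepth 100000

namespace CfsgLib.InvChar.HeRec.Tri

open Subgroup Matrix CfsgLib.Mathieu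

attribute [local irreducible] cSL

variable {G : Type*} [Group G] [Finite G] {t : G} {ψ : ℕ → G}

/-- **A complement containing the Levi complement.** -/
theorem exists_complement (hψ : IsFrame t ψ) {g : G} (hg : g ∈ normalizer (eGrp hψ : Set G))
    (hgt : g * t * g⁻¹ ≠ t) :
    ∃ K : Subgroup G, K ≤ normalizer (eGrp hψ : Set G) ∧ K ⊓ eGrp hψ = ⊥ ∧
      (∀ n ∈ normalizer (eGrp hψ : Set G), ∃ e ∈ eGrp hψ, ∃ k ∈ K, n = e * k) ∧
      ∀ x, hvalid x = true → isLevi x → ψ x ∈ K := by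
  classical
  set N := normalizer (eGrp hψ : Set G) with hN
  have hEN : eGrp hψ ≤ N := le_normalizer
  have hCN : ∀ x, hvalid x = true → ψ x ∈ N := fun x hx =>
    normalizer_of hψ (mem_normalizer_of_cent hψ (Swap.ψ_comm_t hψ hx))
  set E' := (eGrp hψ).subgroupOf N with hE'
  haveI : E'.Normal := ⟨fun x hx y => (mem_normalizer_iff.1 y.2 _).1 hx⟩
  haveI : IsMulCommutative E' := ⟨⟨fun a b => Subtype.ext (Subtype.ext (by
    obtain ⟨i, hi, ei⟩ := a.2
    obtain ⟨j, hj, ej⟩ := b.2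
    show ((a : N) : G) * (b : N) = (b : N) * (a : N)
    rw [← show ψ (eC i) = ((a : N) : G) from ei, ← show ψ (eC j) = ((b : N) : G) from ej,
      ← hψ.map_mul _ _ (eC_check i hi).1 (eC_check j hj).1, ← hψ.map_mul _ _ (eC_check j hj).1 (eC_check i hi).1,
      ((eC_check j hj).2.2.2.2.2.2 i hi).2.1, ((eC_check i hi).2.2.2.2.2.2 j hj).2.1, Nat.xor_comm]))⟩⟩
  let Lv : Subgroup G := closure {ψ 8459, ψ 24717}
  have hLv : ∀ x ∈ Lv, ∃ y, hvalid y = true ∧ cSL y ∈ LinSub ∧ ψ y = x := by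
    intro x hx
    have hx' : x ∈ Submonoid.closure ({ψ 8459, ψ 24717} : Set G) := by
      rw [← Subgroup.closure_toSubmonoid_of_finite]; exact hx
    induction hx' using Submonoid.closure_induction with
    | mem a ha =>
      rcases ha with rfl | rfl
      · exact ⟨8459, by decide, levi_mat (by decide) ⟨by decide, by decide⟩, rfl⟩
      · exact ⟨24717, by decide, levi_mat (by decide) ⟨by decide, by decide⟩, rfl⟩
    | one => exact ⟨hOne, by decide, by rw [cSL_one]; exact one_mem _, Swap.ψ_one hψ⟩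
    | mul a b ha hb iha ihb =>
      obtain ⟨y, hy, hy', rfl⟩ := iha (by rw [← mem_toSubmonoid, Subgroup.closure_toSubmonoid_of_finite]; exact ha)
      obtain ⟨z, hz, hz', rfl⟩ := ihb (by rw [← mem_toSubmonoid, Subgroup.closure_toSubmonoid_of_finite]; exact hb)
      exact ⟨hmul y z, Swap.hvalid_hmul hy hz, by rw [cSL_mul hy hz (Swap.hvalid_hmul hy hz)]; exact mul_mem hy' hz',
        hψ.map_mul _ _ hy hz⟩
  set U := (centralizer ({t} : Set G)).subgroupOf N with hU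
  set A' := Lv.subgroupOf N with hA'
  have hdisj : A' ⊓ E' = ⊥ := by
    rw [eq_bot_iff]
    rintro ⟨x, hxN⟩ ⟨h1, h2⟩
    obtain ⟨y, hy, hy', rfl⟩ := hLv x h1
    obtain ⟨k, hk, ek⟩ := (mem_eGrp hψ).1 h2
    have e := hψ.inj _ _ (eC_check k hk).1 hy ek
    subst e
    have h4 := (levi_of_lin hy hy')
    have : ∀ k < 16, isLevi (eC k) → k = 0 := by unfold isLevi; decide +kernel
    rw [mem_bot]
    have h5 : ψ (eC k) = 1 := by rw [this k hk h4, eC_special.1, Swap.ψ_one hψ]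
    exact Subtype.ext h5
  have hsup : E' ⊔ A' = U := by
    refine le_antisymm (sup_le (fun x hx => ?_) fun x hx => ?_) fun x hx => ?_
    · obtain ⟨k, hk, ek⟩ := (mem_eGrp hψ).1 hx
      exact (hψ.mem_iff _).2 ⟨_, (eC_check k hk).1, ek⟩
    · obtain ⟨y, hy, -, ey⟩ := hLv _ hx
      exact (hψ.mem_iff _).2 ⟨y, hy, ey⟩
    · obtain ⟨y, hy, ey⟩ := (hψ.mem_iff _).1 hx
      obtain ⟨k, hk, l, hl, hl', e⟩ := code_split hy
      have hsplit : x = ⟨ψ (eC k), hCN _ (eC_check k hk).1⟩ * ⟨ψ l, hCN _ hl⟩ := Subtype.ext (by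
        show (x : G) = ψ (eC k) * ψ l
        rw [← hψ.map_mul _ _ (eC_check k hk).1 hl, e, ey]; rfl)
      rw [hsplit]
      exact mul_mem_sup ⟨k, hk, rfl⟩ (levi_mem hψ (subset_closure (Or.inl rfl)) (subset_closure (Or.inr rfl)) hl hl')
  have htE : t ∈ eGrp hψ := t_mem_eGrp hψ
  have hidx : U.index = 15 := by
    rw [index_eq_card]
    have hmem : ∀ q : N ⧸ U, ∃ k : Fin 15, (q.out : G) * t * (q.out : G)⁻¹ = ψ (eC (k + 1)) := by
      intro q
      obtain ⟨k, hk, ek⟩ := (mem_eGrp hψ).1 ((mem_normalizer_iff.1 q.out.2 t).1 htE)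
      have hk0 : k ≠ 0 := fun h => by
        rw [h, eC_special.1, Swap.ψ_one hψ] at ek
        have ht1 : t = 1 := conj_eq_one_iff.1 ek.symm
        rw [← hψ.map_z, ← Swap.ψ_one hψ] at ht1
        exact absurd (hψ.inj _ _ (by decide) (by decide) ht1) (by decide)
      exact ⟨⟨k - 1, by omega⟩, by rw [← ek]; congr; show k = k - 1 + 1; omega⟩
    choose f hf using hmem
    refine (Nat.card_eq_of_bijective f ⟨fun p q h => ?_, fun k => ?_⟩).trans (Nat.card_fin 15)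
    · rw [← p.out_eq, ← q.out_eq]
      refine QuotientGroup.eq.2 (mem_subgroupOf.2 (mem_centralizer_singleton_iff.2 ?_))
      show (p.out : G)⁻¹ * q.out * t = t * ((p.out : G)⁻¹ * q.out)
      calc (p.out : G)⁻¹ * q.out * t = (p.out : G)⁻¹ * ((q.out : G) * t * (q.out : G)⁻¹) * q.out := by group
        _ = t * ((p.out : G)⁻¹ * q.out) := by rw [hf q, ← h, ← hf p]; group
    · have hk16 : (k : ℕ) + 1 < 16 := by omega
      obtain ⟨n, hn, e⟩ := eGrp_trans hψ hg hgt (e := ψ (eC (k + 1))) ⟨_, hk16, rfl⟩ fun h => by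
        rw [← Swap.ψ_one hψ] at h
        have := hψ.inj _ _ (eC_check _ hk16).1 (by decide) h
        rw [← eC_special.1] at this
        have := ((eC_check 0 (by norm_num)).2.2.2.2.2.2 _ hk16).2.2 this
        omega
      refine ⟨((⟨n, hn⟩ : N) : N ⧸ U), ?_⟩
      obtain ⟨u, hu⟩ := QuotientGroup.mk_out_eq_mul U (⟨n, hn⟩ : N)
      have h1 := hf ((⟨n, hn⟩ : N) : N ⧸ U)
      rw [hu] at h1
      have hut : ((u : N) : G) * t = t * (u : N) := mem_centralizer_singleton_iff.1 (mem_subgroupOf.1 u.2)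
      have h2 : n * t * n⁻¹ = ψ (eC ((f ((⟨n, hn⟩ : N) : N ⧸ U) : ℕ) + 1)) := by
        rw [← h1]
        show n * t * n⁻¹ = n * (u : N) * t * (n * (u : N))⁻¹
        rw [mul_assoc n _ t, hut]; group
      rw [e] at h2
      have hf16 : (f ((⟨n, hn⟩ : N) : N ⧸ U) : ℕ) + 1 < 16 := by omega
      have := ((eC_check _ hk16).2.2.2.2.2.2 _ hf16).2.2
        (hψ.inj _ _ (eC_check _ hf16).1 (eC_check _ hk16).1 h2.symm)
      exact Fin.ext (by omega)
  have hcop : (Nat.card E').Coprime U.index := by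
    rw [hidx, Nat.card_congr (subgroupOfEquivOfLe hEN).toEquiv, card_eGrp]; norm_num
  obtain ⟨H, hH⟩ := CfsgLib.Solvable.gaschutz_exists (K := E') (U := U) (A := A')
    (hsup ▸ le_sup_left) hcop hdisj hsup
  set K0 := H.map N.subtype with hK0
  have hK0E : ∀ x ∈ K0, x ∈ eGrp hψ → x = 1 := by
    rintro _ ⟨y, hy, rfl⟩ hyE
    have : y ∈ E' ⊓ H := ⟨hyE, hy⟩
    rw [hH.disjoint.eq_bot, mem_bot] at this
    rw [this]; rfl
  have hdec : ∀ n ∈ N, ∃ e ∈ eGrp hψ, ∃ k ∈ K0, n = e * k := by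
    intro n hn
    obtain ⟨⟨a, b⟩, hab, -⟩ := Subgroup.IsComplement.existsUnique hH ⟨n, hn⟩
    exact ⟨((a : N) : G), a.2, ((b : N) : G), mem_map_of_mem _ b.2, (congrArg Subtype.val hab).symm⟩
  have hlift : ∀ {x : ℕ}, hvalid x = true → ∃ a < 16, ψ (hmul (eC a) x) ∈ K0 := by
    intro x hx
    obtain ⟨e, he, k, hk, hek⟩ := hdec _ (hCN x hx)
    obtain ⟨a, ha, rfl⟩ := (mem_eGrp hψ).1 he
    refine ⟨a, ha, ?_⟩
    rw [hψ.map_mul _ _ (eC_check a ha).1 hx, hek, ← mul_assoc, ← hψ.map_mul _ _ (eC_check a ha).1 (eC_check a ha).1,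
      (eC_check a ha).2.2.1, Swap.ψ_one hψ, one_mul]
    exact hk
  obtain ⟨a, ha, ha'⟩ := hlift (show hvalid 8459 = true by decide)
  obtain ⟨b, hb, hb'⟩ := hlift (show hvalid 24717 = true by decide)
  have va := Swap.hvalid_hmul (eC_check a ha).1 (show hvalid 8459 = true by decide)
  have vb := Swap.hvalid_hmul (eC_check b hb).1 (show hvalid 24717 = true by decide)
  obtain ⟨hrelE, hrel⟩ := lRels_check a ha b hb
  obtain ⟨w, hw, hwa, hwb⟩ := hrel fun r hr => by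
    have hr2 : ∀ r ∈ lRels, ∀ i ∈ r, i < 2 := by decide
    obtain ⟨hv, hm⟩ := lEval_mem hψ K0 (g := lLift a b) (fun i hi => by
      interval_cases i
      · exact ⟨va, ha'⟩
      · exact ⟨vb, hb'⟩) r (hr2 r hr)
    obtain ⟨k, hk, e⟩ := hrelE r hr
    have h1 := hK0E _ hm ⟨k, hk, by rw [e]⟩
    rw [← Swap.ψ_one hψ] at h1
    exact hψ.inj _ _ hv (by decide) h1
  set W := ψ (eC w) with hW
  have hWW : W * W = 1 := by
    rw [hW, ← hψ.map_mul _ _ (eC_check w hw).1 (eC_check w hw).1, (eC_check w hw).2.2.1, Swap.ψ_one hψ]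
  have hWi : W⁻¹ = W := inv_eq_of_mul_eq_one_right hWW
  have hWN : W ∈ N := hEN ⟨w, hw, rfl⟩
  refine ⟨K0.map (MulAut.conj W).toMonoidHom, ?_, ?_, ?_, ?_⟩
  · rintro _ ⟨x, hx, rfl⟩
    exact mul_mem (mul_mem hWN (map_subtype_le H hx)) (inv_mem hWN)
  · rw [eq_bot_iff]
    rintro _ ⟨⟨x, hx, rfl⟩, hxE⟩
    have hx1 : x ∈ eGrp hψ := (mem_normalizer_iff.1 hWN x).2 hxE
    rw [mem_bot, hK0E x hx hx1, map_one]
  · intro n hn
    obtain ⟨e, he, k, hk, rfl⟩ := hdec n hn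
    have hkN := map_subtype_le H hk
    refine ⟨e * (k * W * k⁻¹) * W, mul_mem (mul_mem he ((mem_normalizer_iff.1 hkN W).1 ⟨w, hw, rfl⟩)) ⟨w, hw, rfl⟩,
      W * k * W⁻¹, ⟨k, hk, by simp⟩, ?_⟩
    calc e * k = e * (k * (W * W) * k⁻¹) * k := by rw [hWW]; group
      _ = e * (k * W * k⁻¹) * (W * W) * k * W⁻¹ := by rw [hWW]; group
      _ = e * (k * W * k⁻¹) * W * (W * k * W⁻¹) := by group
  · intro x hx hl
    have hgen : ∀ {y : ℕ} (z : ℕ), hvalid y = true → hvalid z = true → ψ y ∈ K0 →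
        hmul (hmul (eC w) z) (eC w) = y → ψ z ∈ K0.map (MulAut.conj W).toMonoidHom := by
      intro y z hy hz hyK e
      refine ⟨ψ y, hyK, ?_⟩
      show W * ψ y * W⁻¹ = ψ z
      rw [← e, hψ.map_mul _ _ (Swap.hvalid_hmul (eC_check w hw).1 hz) (eC_check w hw).1,
        hψ.map_mul _ _ (eC_check w hw).1 hz, ← hW, hWi]
      simp only [mul_assoc, hWW, mul_one]
      rw [← mul_assoc, hWW, one_mul]
    exact levi_mem hψ (hgen 8459 va (by decide) ha' hwa) (hgen 24717 vb (by decide) hb' hwb) hx hl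

/-- The gluing data of the parabolic subgroup. -/
structure ParGlue (ψ : ℕ → G) where
  graph : Subgroup (G × SL5)
  code : ∀ x, hvalid x = true → (ψ x, cSL x) ∈ graph
  row : ∀ p ∈ graph, p.2 ∈ RowSub
  surj : ∀ M ∈ RowSub, ∃ g, (g, M) ∈ graph
  inj_fst : ∀ g, (g, (1 : SL5)) ∈ graph → g = 1
  inj_snd : ∀ M, ((1 : G), M) ∈ graph → M = 1

/-- The action of a group element and of a matrix on the column group agree. -/
def Acts (ψ : ℕ → G) (k : G) (M : SL5) : Prop :=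
  ∀ w < 16, ∃ j < 16, k * ψ (eC w) * k⁻¹ = ψ (eC j) ∧ M * colT w = colT j * M

omit [Finite G] in
theorem acts_mul {k k' : G} {M M' : SL5} (h : Acts ψ k M) (h' : Acts ψ k' M') : Acts ψ (k * k') (M * M') := by
  intro w hw
  obtain ⟨j, hj, e1, e2⟩ := h' w hw
  obtain ⟨i, hi, e3, e4⟩ := h j hj
  refine ⟨i, hi, ?_, ?_⟩
  · rw [← e3, ← e1]; group
  · rw [mul_assoc, e2, ← mul_assoc, e4, mul_assoc]

omit [Finite G] in
theorem acts_code (hψ : IsFrame t ψ) {x : ℕ} (hx : hvalid x = true) : Acts ψ (ψ x) (cSL x) := by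
  intro w hw
  obtain ⟨j, hj, e⟩ := (mem_eGrp hψ).1 (cent_conj hψ hx hw)
  refine ⟨j, hj, e.symm, ?_⟩
  have h := (Swap.mul_eq_iff hψ hx (eC_check w hw).1 (eC_check j hj).1 hx).1
    (mul_inv_eq_iff_eq_mul.1 e.symm)
  have v1 := Swap.hvalid_hmul hx (eC_check w hw).1
  rw [colT, colT, ← cSL_mul hx (eC_check w hw).1 v1,
    ← cSL_mul (eC_check j hj).1 hx (Swap.hvalid_hmul (eC_check j hj).1 hx), h]

/-- Every element of the normaliser acts as some matrix. -/
theorem exists_acts (hψ : IsFrame t ψ) {k : G} (hk : k ∈ normalizer (eGrp hψ : Set G)) :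
    ∃ M ∈ LinSub, Acts ψ k M := by
  classical
  have himg : ∀ w, ∃ j, w < 16 → j < 16 ∧ k * ψ (eC w) * k⁻¹ = ψ (eC j) := fun w => by
    by_cases hw : w < 16
    · obtain ⟨j, hj, e⟩ := (mem_eGrp hψ).1 ((mem_normalizer_iff.1 hk _).1 ⟨w, hw, rfl⟩)
      exact ⟨j, fun _ => ⟨hj, e.symm⟩⟩
    · exact ⟨0, fun h => absurd h hw⟩
  choose φ hφ using himg
  have hadd : ∀ v < 16, ∀ w < 16, φ (v ^^^ w) = φ v ^^^ φ w := by
    intro v hv w hw
    obtain ⟨hlt, he, -⟩ := (eC_check w hw).2.2.2.2.2.2 v hv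
    obtain ⟨h1, e1⟩ := hφ v hv
    obtain ⟨h2, e2⟩ := hφ w hw
    obtain ⟨h3, e3⟩ := hφ _ hlt
    obtain ⟨hlt', he', -⟩ := (eC_check (φ w) h2).2.2.2.2.2.2 (φ v) h1
    refine ((eC_check _ hlt').2.2.2.2.2.2 _ h3).2.2 (hψ.inj _ _ (eC_check _ h3).1 (eC_check _ hlt').1 ?_)
    rw [← e3, ← he, ← he', hψ.map_mul _ _ (eC_check v hv).1 (eC_check w hw).1,
      hψ.map_mul _ _ (eC_check _ h1).1 (eC_check _ h2).1, ← e1, ← e2]
    group
  set M := colM (φ 8) (φ 1) (φ 2) (φ 4) with hM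
  have hinj : ∀ v < 16, φ v = 0 → v = 0 := by
    intro v hv h0
    obtain ⟨-, e1⟩ := hφ v hv
    rw [h0, eC_special.1, Swap.ψ_one hψ] at e1
    have h1 := conj_eq_one_iff.1 e1
    rw [← Swap.ψ_one hψ, ← eC_special.1] at h1
    exact ((eC_check 0 (by norm_num)).2.2.2.2.2.2 v hv).2.2 (hψ.inj _ _ (eC_check v hv).1 (eC_check 0 (by norm_num)).1 h1)
  have hz : φ 0 = 0 := by
    have h := hadd 0 (by norm_num) 0 (by norm_num)
    rwa [Nat.xor_self, Nat.xor_self] at h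
  have hMv : ∀ w < 16, M *ᵥ vE w = vE (φ w) := by
    have hv0 : vE 0 = 0 := by decide +kernel
    have step : ∀ v < 16, ∀ w < 16, M *ᵥ vE v = vE (φ v) → M *ᵥ vE w = vE (φ w) →
        M *ᵥ vE (v ^^^ w) = vE (φ (v ^^^ w)) := by
      intro v hv w hw h1 h2
      rw [(vE_facts.2 v hv w hw).1, mulVec_add, h1, h2, hadd v hv w hw,
        (vE_facts.2 _ (hφ v hv).1 _ (hφ w hw).1).1]
    have b0 : M *ᵥ vE 0 = vE (φ 0) := by rw [hz, hv0, mulVec_zero]
    have b1 : M *ᵥ vE 1 = vE (φ 1) := by rw [hM, colM_vE]; simp [Nat.testBit, b2z]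
    have b2 : M *ᵥ vE 2 = vE (φ 2) := by rw [hM, colM_vE]; simp [Nat.testBit, b2z]
    have b4 : M *ᵥ vE 4 = vE (φ 4) := by rw [hM, colM_vE]; simp [Nat.testBit, b2z]
    have b8 : M *ᵥ vE 8 = vE (φ 8) := by rw [hM, colM_vE]; simp [Nat.testBit, b2z]
    have b3 := step 1 (by norm_num) 2 (by norm_num) b1 b2
    have b5 := step 1 (by norm_num) 4 (by norm_num) b1 b4
    have b6 := step 2 (by norm_num) 4 (by norm_num) b2 b4
    have b7 := step 3 (by norm_num) 4 (by norm_num) b3 b4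
    intro w hw
    interval_cases w
    exacts [b0, b1, b2, b3, b4, b5, b6, b7, b8, step 1 (by norm_num) 8 (by norm_num) b1 b8,
      step 2 (by norm_num) 8 (by norm_num) b2 b8, step 3 (by norm_num) 8 (by norm_num) b3 b8,
      step 4 (by norm_num) 8 (by norm_num) b4 b8, step 5 (by norm_num) 8 (by norm_num) b5 b8,
      step 6 (by norm_num) 8 (by norm_num) b6 b8, step 7 (by norm_num) 8 (by norm_num) b7 b8]
  have hrow : vecMul e4 M = e4 := by
    ext i; fin_cases i <;> simp [hM, colM, e4, vE, Matrix.vecMul, dotProduct, Fin.sum_univ_five]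
  have hcol : M *ᵥ e4 = e4 := by
    ext i; fin_cases i <;> simp [hM, colM, e4, Matrix.mulVec, dotProduct, Fin.sum_univ_five]
  have hdet : M.det = 1 := by
    refine (by decide : ∀ a : ZMod 2, a ≠ 0 → a = 1) _ fun h0 => ?_
    obtain ⟨x, hx, hMx⟩ := exists_mulVec_eq_zero_iff.2 h0
    have hx4 : x 4 = 0 := by
      have := congrArg (fun v => e4 ⬝ᵥ v) hMx
      simp only [dotProduct_mulVec, hrow] at this
      simpa [e4, dotProduct, Fin.sum_univ_five] using this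
    obtain ⟨w, hw, rfl⟩ := vE_facts.1 x hx4
    rw [hMv w hw] at hMx
    have hv0 : vE 0 = 0 := by decide +kernel
    rw [← hv0] at hMx
    rw [hinj w hw ((vE_facts.2 _ (hφ w hw).1 0 (by norm_num)).2 hMx), hv0] at hx
    exact hx rfl
  refine ⟨⟨M, hdet⟩, ⟨hrow, hcol⟩, fun w hw => ⟨φ w, (hφ w hw).1, (hφ w hw).2, Subtype.ext ?_⟩⟩
  show M * (colT w : M5) = (colT (φ w) : M5) * M
  rw [colT_coe hw, colT_coe (hφ w hw).1]
  rw [mul_add, add_mul, mul_one, one_mul, mul_vecMulVec, vecMulVec_mul, hMv w hw, hrow]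

/-- **The parabolic subgroup.** -/
theorem exists_parGlue (hψ : IsFrame t ψ) {g : G} (hg : g ∈ normalizer (eGrp hψ : Set G))
    (hgt : g * t * g⁻¹ ≠ t) :
    ∃ P : ParGlue ψ, ∀ p ∈ P.graph, p.1 ∈ normalizer (eGrp hψ : Set G) := by
  classical
  obtain ⟨K, hKN, hKE, hdec, hKL⟩ := exists_complement hψ hg hgt
  let S : Set (G × SL5) := {p | ∃ a < 16, ∃ k ∈ K, ∃ M ∈ LinSub,
    Acts ψ k M ∧ p = (ψ (eC a) * k, colT a * M)}
  have hone : (1 : G × SL5) ∈ S := ⟨0, by norm_num, 1, one_mem _, 1, one_mem _,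
    fun w hw => ⟨w, hw, by group, by rw [one_mul, mul_one]⟩, by
      rw [eC_special.1, Swap.ψ_one hψ, colT, eC_special.1, cSL_one]; simp [Prod.ext_iff]⟩
  have hmul' : ∀ p ∈ S, ∀ q ∈ S, p * q ∈ S := by
    rintro _ ⟨a, ha, k, hk, M, hM, hA, rfl⟩ _ ⟨b, hb, k', hk', M', hM', hA', rfl⟩
    obtain ⟨j, hj, e1, e2⟩ := hA b hb
    obtain ⟨hlt, he, -⟩ := (eC_check j hj).2.2.2.2.2.2 a ha
    refine ⟨a ^^^ j, hlt, k * k', mul_mem hk hk', M * M', mul_mem hM hM', acts_mul hA hA', Prod.ext ?_ ?_⟩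
    · show ψ (eC a) * k * (ψ (eC b) * k') = _
      rw [← he, hψ.map_mul _ _ (eC_check a ha).1 (eC_check j hj).1, ← e1]; group
    · show colT a * M * (colT b * M') = _
      rw [← colT_mul ha hj, mul_assoc, ← mul_assoc M, e2]
      simp [mul_assoc]
  have hpow : ∀ p ∈ S, ∀ n : ℕ, p ^ n ∈ S := fun p hp n => by
    induction n with
    | zero => simpa using hone
    | succ n ih => rw [pow_succ]; exact hmul' _ ih _ hp
  let Γ : Subgroup (G × SL5) :=
    { carrier := S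
      one_mem' := hone
      mul_mem' := fun {p q} hp hq => hmul' p hp q hq
      inv_mem' := fun {p} hp => by
        rw [show p⁻¹ = p ^ (orderOf p - 1) from inv_eq_of_mul_eq_one_left (by
          rw [← pow_succ, Nat.sub_add_cancel (orderOf_pos p), pow_orderOf_eq_one])]
        exact hpow p hp _ }
  have hsplit : ∀ {a : ℕ} {M : SL5}, a < 16 → M ∈ LinSub → colT a * M = 1 → a = 0 ∧ M = 1 := by
    intro a M ha hM h
    have hT : colT a ∈ LinSub := by
      rw [eq_inv_of_mul_eq_one_left h]; exact inv_mem hM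
    have h' := levi_of_lin (eC_check a ha).1 hT
    have : ∀ k < 16, isLevi (eC k) → k = 0 := by unfold isLevi; decide +kernel
    obtain rfl := this a ha h'
    rw [colT, eC_special.1, cSL_one, one_mul] at h
    exact ⟨rfl, h⟩
  have hlin1 : ∀ {M : SL5}, M ∈ LinSub → (∀ w < 16, M * colT w = colT w * M) → M = 1 := by
    intro M hM h
    obtain ⟨x, hx, rfl⟩ := (exists_code_iff M).1 (by
      have := h 8 (by norm_num)
      rwa [colT, eC_special.2.1] at this)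
    have hcen : ψ x ∈ eGrp hψ := cent_eGrp hψ (by
      rintro _ ⟨w, hw, rfl⟩
      rw [← hψ.map_mul _ _ hx (eC_check w hw).1, ← hψ.map_mul _ _ (eC_check w hw).1 hx]
      refine congrArg ψ (cSL_inj (Swap.hvalid_hmul hx (eC_check w hw).1)
        (Swap.hvalid_hmul (eC_check w hw).1 hx) ?_)
      rw [cSL_mul hx (eC_check w hw).1 (Swap.hvalid_hmul hx (eC_check w hw).1),
        cSL_mul (eC_check w hw).1 hx (Swap.hvalid_hmul (eC_check w hw).1 hx)]
      exact h w hw)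
    obtain ⟨k, hk, e⟩ := (mem_eGrp hψ).1 hcen
    obtain rfl := hψ.inj _ _ (eC_check k hk).1 hx e
    have : ∀ k < 16, isLevi (eC k) → k = 0 := by unfold isLevi; decide +kernel
    rw [show k = 0 from this k hk (levi_of_lin hx hM), eC_special.1, cSL_one]
  refine ⟨⟨Γ, fun x hx => ?_, ?_, fun M hM => ?_, fun g' hg' => ?_, fun M hM => ?_⟩, ?_⟩
  · obtain ⟨a, ha, y, hy, hl, rfl⟩ := code_split hx
    refine ⟨a, ha, ψ y, hKL y hy hl, cSL y, levi_mat hy hl, acts_code hψ hy, Prod.ext ?_ ?_⟩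
    · exact hψ.map_mul _ _ (eC_check a ha).1 hy
    · exact cSL_mul (eC_check a ha).1 hy (Swap.hvalid_hmul (eC_check a ha).1 hy)
  · rintro _ ⟨a, ha, k, hk, M, hM, -, rfl⟩
    exact mul_mem (colT_row ha) hM.1
  · -- every matrix fixing the last coordinate occurs
    have hlast : ((M : M5) *ᵥ e4) 4 = 1 := by
      have h := congrArg (fun v => v ⬝ᵥ e4) (mem_RowSub.1 hM)
      simp only [← dotProduct_mulVec] at h
      simpa [e4, dotProduct, Fin.sum_univ_five] using h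
    obtain ⟨a, ha, ea⟩ := vE_facts.1 ((M : M5) *ᵥ e4 + e4) (by
      rw [Pi.add_apply, hlast, show e4 4 = 1 from rfl]; decide)
    have hTT : colT a * colT a = 1 := by rw [colT_mul ha ha, Nat.xor_self, colT, eC_special.1, cSL_one]
    set M0 := colT a * M with hM0
    have hM0L : M0 ∈ LinSub := by
      refine ⟨mul_mem (colT_row ha) hM, ?_⟩
      have hve : e4 ⬝ᵥ ((M : M5) *ᵥ e4) = 1 := by simpa [e4, dotProduct, Fin.sum_univ_five] using hlast
      rw [hM0, Matrix.SpecialLinearGroup.coe_mul, ← mulVec_mulVec, colT_coe ha, add_mulVec, one_mulVec,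
        vecMulVec_mulVec, hve, MulOpposite.op_one, one_smul, ea, ← add_assoc,
        show (M : M5) *ᵥ e4 + (M : M5) *ᵥ e4 = 0 from funext fun i => CharTwo.add_self_eq_zero _, zero_add]
    obtain ⟨w0, hw0, e0⟩ := colT_conj (mem_RowSub.2 hM0L.1) (show (8 : ℕ) < 16 by norm_num)
    have hw00 : w0 ≠ 0 := fun h => by
      rw [h, colT, colT, eC_special.1, cSL_one, one_mul, mul_eq_left, ← cSL_one] at e0
      have h1 := cSL_inj (eC_check 8 (by norm_num)).1 (by decide) e0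
      rw [← eC_special.1] at h1
      have := ((eC_check 0 (by norm_num)).2.2.2.2.2.2 8 (by norm_num)).2.2 h1
      omega
    obtain ⟨n, hn, en⟩ := eGrp_trans hψ hg hgt (e := ψ (eC w0)) ⟨w0, hw0, rfl⟩ fun h => by
      rw [← Swap.ψ_one hψ, ← eC_special.1] at h
      exact hw00 (((eC_check 0 (by norm_num)).2.2.2.2.2.2 w0 hw0).2.2
        (hψ.inj _ _ (eC_check w0 hw0).1 (eC_check 0 (by norm_num)).1 h))
    obtain ⟨e, he, k1, hk1, rfl⟩ := hdec n hn
    obtain ⟨i, hi, rfl⟩ := (mem_eGrp hψ).1 he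
    have hk1t : k1 * t * k1⁻¹ = ψ (eC w0) := by
      have h1 : ψ (eC i) * ψ (eC w0) = ψ (eC w0) * ψ (eC i) := by
        rw [← hψ.map_mul _ _ (eC_check i hi).1 (eC_check w0 hw0).1,
          ← hψ.map_mul _ _ (eC_check w0 hw0).1 (eC_check i hi).1, ((eC_check w0 hw0).2.2.2.2.2.2 i hi).2.1,
          ((eC_check i hi).2.2.2.2.2.2 w0 hw0).2.1, Nat.xor_comm]
      calc k1 * t * k1⁻¹ = (ψ (eC i))⁻¹ * (ψ (eC i) * k1 * t * (ψ (eC i) * k1)⁻¹) * ψ (eC i) := by group
        _ = (ψ (eC i))⁻¹ * (ψ (eC i) * ψ (eC w0)) := by rw [en, mul_assoc, ← h1]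
        _ = ψ (eC w0) := by group
    obtain ⟨M1, hM1, hA1⟩ := exists_acts hψ (hKN hk1)
    obtain ⟨j, hj, e1, e2⟩ := hA1 8 (by norm_num)
    rw [eC_special.2.1, hψ.map_z, hk1t] at e1
    obtain rfl := ((eC_check j hj).2.2.2.2.2.2 w0 hw0).2.2 (hψ.inj _ _ (eC_check w0 hw0).1 (eC_check j hj).1 e1)
    have hz8 : cSL hZ = colT 8 := (congrArg cSL eC_special.2.1).symm
    obtain ⟨x, hx, ex⟩ := (exists_code_iff (M1⁻¹ * M0)).1 (by
      rw [hz8, mul_assoc, e0, ← mul_assoc, ← mul_assoc, eq_mul_inv_of_mul_eq e2.symm, hM0]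
      group)
    have hxL : cSL x ∈ LinSub := ex ▸ mul_mem (inv_mem hM1) hM0L
    refine ⟨ψ (eC a) * (k1 * ψ x), a, ha, k1 * ψ x, mul_mem hk1 (hKL x hx (levi_of_lin hx hxL)),
      M1 * cSL x, mul_mem hM1 hxL, acts_mul hA1 (acts_code hψ hx), ?_⟩
    rw [ex, mul_inv_cancel_left]
    exact Prod.ext rfl (by show M = colT a * M0; rw [hM0, ← mul_assoc, hTT, one_mul])
  · obtain ⟨a, ha, k, hk, M, hM, hA, e⟩ := hg'
    have e1 : g' = ψ (eC a) * k := congrArg Prod.fst e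
    obtain ⟨rfl, rfl⟩ := hsplit ha hM (congrArg Prod.snd e).symm
    have hkE : k ∈ eGrp hψ := cent_eGrp hψ (by
      rintro _ ⟨w, hw, rfl⟩
      obtain ⟨j, hj, e2, e3⟩ := hA w hw
      rw [one_mul, mul_one] at e3
      obtain rfl := colT_inj hw hj e3
      exact mul_inv_eq_iff_eq_mul.1 e2)
    have : k ∈ K ⊓ eGrp hψ := ⟨hk, hkE⟩
    rw [hKE, mem_bot] at this
    rw [e1, this, eC_special.1, Swap.ψ_one hψ, mul_one]
  · obtain ⟨a, ha, k, hk, M', hM', hA, e⟩ := hM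
    have e1 : ψ (eC a) * k = 1 := (congrArg Prod.fst e).symm
    have hkE : k ∈ K ⊓ eGrp hψ := ⟨hk, by
      rw [eq_inv_of_mul_eq_one_right e1]; exact (eGrp hψ).inv_mem ⟨a, ha, rfl⟩⟩
    rw [hKE, mem_bot] at hkE
    subst hkE
    rw [mul_one, ← Swap.ψ_one hψ, ← eC_special.1] at e1
    obtain rfl := ((eC_check 0 (by norm_num)).2.2.2.2.2.2 a ha).2.2
      (hψ.inj _ _ (eC_check a ha).1 (eC_check 0 (by norm_num)).1 e1)
    have hM1 : M' = 1 := hlin1 hM' fun w hw => by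
      obtain ⟨j, hj, e2, e3⟩ := hA w hw
      have := hψ.inj _ _ (eC_check w hw).1 (eC_check j hj).1 (by rw [← e2]; group)
      rwa [← ((eC_check j hj).2.2.2.2.2.2 w hw).2.2 this] at e3
    have e4 : M = colT 0 * M' := congrArg Prod.snd e
    rw [e4, hM1, colT, eC_special.1, cSL_one, mul_one]
  · rintro _ ⟨a, ha, k, hk, M, -, -, rfl⟩
    exact mul_mem (Subgroup.le_normalizer ⟨a, ha, rfl⟩) (hKN hk)

end CfsgLib.InvChar.HeRec.Tri
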