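import Cfsg.Agent.Lib.InvChar.HeRec.Trichotomy.L5Affine

/-!
# The two parabolic subgroups can be made to commute on their exchanges

The lifts `n`, `n'` of the exchanges of the first two and of the last two coordinates satisfy `(n n')² ∈ {1, j}`;
in the second case one parabolic subgroup is conjugated by `t`.
-/

set_option autoImplicit false
set_option maxRecDepth 100000

namespace CfsgLib.InvChar.HeRec.Tri

open Subgroup Matrix CfsgLib.Mathieu

attribute [local irreducible] cSL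

/-- Exchange of the coordinates `3` and `4`. -/
def w34 : SL5 := ⟨swM 3 4, swM_det.2.2.2⟩

/-- The matrices of the shape left by the commuting relations. -/
def tM (a b c d : ZMod 2) : M5 :=
  ![![1, 0, 0, a, b], ![0, 1, 0, c, d], ![0, 0, 1, 0, 0], ![0, 0, 0, 1, 0], ![0, 0, 0, 0, 1]]

theorem chain_check : ∀ e ∈ [(hZ, 16657, 277, 785), (8465, 8465, 275, 275), (275, 275, 8465, 8465),
      (305, 1297, 1297, 305), (1297, 305, 305, 1297)],
    hvalid e.1 = true ∧ hvalid e.2.1 = true ∧ hvalid e.2.2.1 = true ∧ hvalid e.2.2.2 = true ∧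
    swM 3 4 * cMat e.1 = cMat e.2.1 * swM 3 4 ∧ swM 0 1 * cMat e.2.1 = cMat e.2.2.1 * swM 0 1 ∧
    swM 3 4 * cMat e.2.2.1 = cMat e.2.2.2 * swM 3 4 ∧ swM 0 1 * cMat e.2.2.2 = cMat e.1 * swM 0 1 := by
  decide +kernel

theorem elem_mats :
    cMat 8465 = !![1, 0, 1, 0, 0; 0, 1, 0, 0, 0; 0, 0, 1, 0, 0; 0, 0, 0, 1, 0; 0, 0, 0, 0, 1] ∧
    cMat 275 = !![1, 0, 0, 0, 0; 0, 1, 1, 0, 0; 0, 0, 1, 0, 0; 0, 0, 0, 1, 0; 0, 0, 0, 0, 1] ∧
    cMat 305 = !![1, 0, 0, 0, 0; 0, 1, 0, 0, 0; 0, 0, 1, 1, 0; 0, 0, 0, 1, 0; 0, 0, 0, 0, 1] ∧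
    cMat 1297 = !![1, 0, 0, 0, 0; 0, 1, 0, 0, 0; 0, 0, 1, 0, 1; 0, 0, 0, 1, 0; 0, 0, 0, 0, 1] := by
  decide +kernel

theorem shape_of_comm {T : M5} (h00 : T 0 0 = 1) (h1 : T * cMat 8465 = cMat 8465 * T)
    (h2 : T * cMat 275 = cMat 275 * T) (h3 : T * cMat 305 = cMat 305 * T)
    (h4 : T * cMat 1297 = cMat 1297 * T) : T = tM (T 0 3) (T 0 4) (T 1 3) (T 1 4) := by
  obtain ⟨m1, m2, m3, m4⟩ := elem_mats
  rw [m1] at h1; rw [m2] at h2; rw [m3] at h3; rw [m4] at h4
  have e1 := fun i j => congrFun (congrFun h1 i) j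
  have e2 := fun i j => congrFun (congrFun h2 i) j
  have e3 := fun i j => congrFun (congrFun h3 i) j
  have e4 := fun i j => congrFun (congrFun h4 i) j
  simp [Matrix.mul_apply, Fin.sum_univ_five, Fin.forall_fin_succ] at e1 e2 e3 e4
  ext i j
  fin_cases i <;> fin_cases j <;> simp_all [tM]

theorem twist_fin : ∀ a b c d : ZMod 2, swM 0 1 * tM a b c d * swM 0 1 * tM a b c d = 1 →
    swM 3 4 * tM a b c d * swM 3 4 * tM a b c d = 1 → tM a b c d = cMat hOne ∨ tM a b c d = cMat 49941 := by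
  decide +kernel

theorem twist_codes : hvalid 49941 = true ∧ hvalid 277 = true ∧ hvalid 785 = true ∧ hvalid 16657 = true ∧
    hmul (hmul 785 277) 49941 = hmul hZ 16657 ∧ swM 0 1 * cMat hZ = cMat 785 * swM 0 1 ∧
    swM 0 1 * cMat 16657 = cMat 277 * swM 0 1 ∧ swM 3 4 * cMat hZ = cMat 16657 * swM 3 4 ∧
    swM 0 1 * swM 0 1 = 1 ∧ swM 3 4 * swM 3 4 = 1 := by
  decide +kernel

variable {G : Type*} [Group G] {t : G} {ψ : ℕ → G}

theorem code_00 {a : ℕ} (ha : hvalid a = true) : cMat a 0 0 = 1 := by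
  simp [cMat, fMat]

/-- **Commuting lifts of the exchanges.** -/
theorem exists_commuting (hψ : IsFrame t ψ) {Γ2 Γ4 : Subgroup (G × SL5)} (p2 : IsPart ψ Γ2)
    (p4 : IsPart ψ Γ4) (col : ∀ p ∈ Γ4, p.2 ∈ ColSub) {n n' : G} (hn : (n, w01) ∈ Γ2) (hn' : (n', w34) ∈ Γ4) :
    ∃ (Γ : Subgroup (G × SL5)) (m : G), IsPart ψ Γ ∧ (∀ p ∈ Γ, p.2 ∈ ColSub) ∧ (m, w34) ∈ Γ ∧
      n * m = m * n := by
  obtain ⟨vJ, v277, v785, vf, eJ, k1, k2, k3, s1, s3⟩ := twist_codes
  have W1 : w01 * w01 = 1 := Subtype.ext s1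
  have W3 : w34 * w34 = 1 := Subtype.ext s3
  have nn : n * n = 1 := p2.inj_fst _ (by have := mul_mem hn hn; rwa [Prod.mk_mul_mk, W1] at this)
  have mm : n' * n' = 1 := p4.inj_fst _ (by have := mul_mem hn' hn'; rwa [Prod.mk_mul_mk, W3] at this)
  have ni : n⁻¹ = n := inv_eq_of_mul_eq_one_right nn
  have mi : n'⁻¹ = n' := inv_eq_of_mul_eq_one_right mm
  have cn : ∀ z, n * (n * z) = z := fun z => by rw [← mul_assoc, nn, one_mul]
  have cm : ∀ z, n' * (n' * z) = z := fun z => by rw [← mul_assoc, mm, one_mul]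
  set y := n * n' * (n * n') with hy
  have chain : ∀ e ∈ [(hZ, 16657, 277, 785), (8465, 8465, 275, 275), (275, 275, 8465, 8465),
      (305, 1297, 1297, 305), (1297, 305, 305, 1297)], y * ψ e.1 = ψ e.1 * y := by
    intro e he
    obtain ⟨v0, v1, v2, v3, a, b, c, d⟩ := chain_check e he
    have A := p4.move hn' v0 v1 (sl_comm v0 v1 a)
    have B := p2.move hn v1 v2 (sl_comm v1 v2 b)
    have C := p4.move hn' v2 v3 (sl_comm v2 v3 c)
    have D := p2.move hn v3 v0 (sl_comm v3 v0 d)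
    calc y * ψ e.1 = n * n' * (n * (n' * ψ e.1)) := by simp only [hy, mul_assoc]
      _ = n * n' * (n * ψ e.2.1 * n') := by rw [A]; simp only [mul_assoc]
      _ = n * (n' * ψ e.2.2.1) * n * n' := by rw [B]; simp only [mul_assoc]
      _ = n * ψ e.2.2.2 * n' * n * n' := by rw [C]; simp only [mul_assoc]
      _ = ψ e.1 * y := by rw [D, hy]; simp only [mul_assoc]
  have hyt : y * t = t * y := by
    have := chain _ List.mem_cons_self
    rwa [hψ.map_z] at this
  obtain ⟨a, ha, hay⟩ := Swap.code_of_comm hψ hyt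
  have hcom : ∀ e ∈ [(hZ, 16657, 277, 785), (8465, 8465, 275, 275), (275, 275, 8465, 8465),
      (305, 1297, 1297, 305), (1297, 305, 305, 1297)], cMat a * cMat e.1 = cMat e.1 * cMat a := by
    intro e he
    obtain ⟨v0, -⟩ := chain_check e he
    have h := chain e he
    rw [← hay] at h
    have h' := (Swap.mul_eq_iff hψ ha v0 v0 ha).1 h
    rw [← cMat_mul ha v0, ← cMat_mul v0 ha, h']
  have hshape := shape_of_comm (code_00 ha) (hcom (8465, 8465, 275, 275) (by simp))
    (hcom (275, 275, 8465, 8465) (by simp)) (hcom (305, 1297, 1297, 305) (by simp))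
    (hcom (1297, 305, 305, 1297) (by simp))
  have inv1 : w01 * cSL a * w01 * cSL a = 1 := by
    have h1 : n * ψ a * n * ψ a = 1 := by
      simp only [hay, hy, mul_assoc, cn, cm, nn, mm, mul_one]
    refine p2.inj_snd _ ?_
    have := mul_mem (mul_mem (mul_mem hn (p2.code a ha)) hn) (p2.code a ha)
    rwa [Prod.mk_mul_mk, Prod.mk_mul_mk, Prod.mk_mul_mk, h1] at this
  have inv3 : w34 * cSL a * w34 * cSL a = 1 := by
    have h1 : n' * ψ a * n' * ψ a = 1 := by
      simp only [hay, hy, mul_assoc, cn, cm, nn, mm, mul_one]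
    refine p4.inj_snd _ ?_
    have := mul_mem (mul_mem (mul_mem hn' (p4.code a ha)) hn') (p4.code a ha)
    rwa [Prod.mk_mul_mk, Prod.mk_mul_mk, Prod.mk_mul_mk, h1] at this
  have m1 : swM 0 1 * cMat a * swM 0 1 * cMat a = 1 := by
    have := congrArg Subtype.val inv1
    simp only [Matrix.SpecialLinearGroup.coe_mul, cSL_coe ha, Matrix.SpecialLinearGroup.coe_one] at this
    exact this
  have m3 : swM 3 4 * cMat a * swM 3 4 * cMat a = 1 := by
    have := congrArg Subtype.val inv3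
    simp only [Matrix.SpecialLinearGroup.coe_mul, cSL_coe ha, Matrix.SpecialLinearGroup.coe_one] at this
    exact this
  rw [hshape] at m1 m3
  rcases twist_fin _ _ _ _ m1 m3 with h | h
  · rw [← hshape] at h
    obtain rfl : a = hOne := cSL_inj ha (by decide) (Subtype.ext (by rw [cSL_coe ha, cSL_coe (by decide), h]))
    rw [Swap.ψ_one hψ] at hay
    refine ⟨Γ4, n', p4, col, hn', ?_⟩
    have e : n * n' = (n * n')⁻¹ := eq_inv_of_mul_eq_one_left hay.symm
    rwa [_root_.mul_inv_rev, ni, mi] at e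
  · rw [← hshape] at h
    obtain rfl : a = 49941 := cSL_inj ha vJ (Subtype.ext (by rw [cSL_coe ha, cSL_coe vJ, h]))
    set σ : G × SL5 := (t, 1) with hσ
    have htt : t * t = 1 := by
      rw [← hψ.map_z, ← hψ.map_mul _ _ valid_z' valid_z', show hmul hZ hZ = hOne by decide, Swap.ψ_one hψ]
    have ti : t⁻¹ = t := inv_eq_of_mul_eq_one_right htt
    have mem' : ∀ p : G × SL5, p ∈ Γ4.map (MulAut.conj σ).toMonoidHom ↔ (t * p.1 * t, p.2) ∈ Γ4 := by
      intro p
      constructor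
      · rintro ⟨q, hq, rfl⟩
        have e : (t * (σ * q * σ⁻¹).1 * t, (σ * q * σ⁻¹).2) = q := by
          refine Prod.ext ?_ ?_
          · show t * (t * q.1 * t⁻¹) * t = q.1
            rw [ti, ← mul_assoc, ← mul_assoc, htt, one_mul, mul_assoc, htt, mul_one]
          · show (1 : SL5) * q.2 * 1⁻¹ = q.2
            rw [inv_one, one_mul, mul_one]
        exact e.symm ▸ hq
      · intro h
        refine ⟨_, h, Prod.ext ?_ ?_⟩
        · show t * (t * p.1 * t) * t⁻¹ = p.1
          rw [ti, ← mul_assoc, ← mul_assoc, htt, one_mul, mul_assoc, htt, mul_one]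
        · show (1 : SL5) * p.2 * 1⁻¹ = p.2
          rw [inv_one, one_mul, mul_one]
    refine ⟨Γ4.map (MulAut.conj σ).toMonoidHom, t * n' * t, ⟨fun x hx => ?_, fun g hg => ?_, fun M hM => ?_⟩,
      fun p hp => col (t * p.1 * t, p.2) ((mem' p).1 hp), ?_, ?_⟩
    · rw [mem']
      show (t * ψ x * t, cSL x) ∈ Γ4
      rw [← Swap.ψ_comm_t hψ hx, mul_assoc, htt, mul_one]
      exact p4.code x hx
    · have := p4.inj_fst _ ((mem' _).1 hg)
      calc g = t * (t * g * t) * t := by rw [← mul_assoc, ← mul_assoc, htt, one_mul, mul_assoc, htt, mul_one]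
        _ = 1 := by rw [this, mul_one, htt]
    · refine p4.inj_snd _ ?_
      have := (mem' _).1 hM
      rwa [mul_one, htt] at this
    · rw [mem']
      show (t * (t * n' * t) * t, w34) ∈ Γ4
      rw [← mul_assoc, ← mul_assoc, htt, one_mul, mul_assoc, htt, mul_one]
      exact hn'
    · have A : n * t = ψ 785 * n := by rw [← hψ.map_z]; exact p2.move hn valid_z' v785 (sl_comm valid_z' v785 k1)
      have B : n * ψ 16657 = ψ 277 * n := p2.move hn vf v277 (sl_comm vf v277 k2)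
      have C : n' * t = ψ 16657 * n' := by
        rw [← hψ.map_z]; exact p4.move hn' valid_z' vf (sl_comm valid_z' vf k3)
      have D : n * n' = ψ 49941 * (n' * n) := by
        rw [hay, hy]
        calc n * n' = n * n' * (n * (n' * n') * n) := by rw [mm, mul_one, nn, mul_one]
          _ = n * n' * (n * n') * (n' * n) := by simp only [mul_assoc]
      calc n * (t * n' * t) = n * t * (n' * t) := by simp only [mul_assoc]
        _ = ψ 785 * (n * ψ 16657) * n' := by rw [A, C]; simp only [mul_assoc]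
        _ = ψ 785 * ψ 277 * (n * n') := by rw [B]; simp only [mul_assoc]
        _ = ψ 785 * ψ 277 * ψ 49941 * (n' * n) := by rw [D]; simp only [mul_assoc]
        _ = t * ψ 16657 * n' * n := by
          rw [← hψ.map_mul _ _ v785 v277, ← hψ.map_mul _ _ (Swap.hvalid_hmul v785 v277) vJ, eJ,
            hψ.map_mul _ _ valid_z' vf, hψ.map_z]
          simp only [mul_assoc]
        _ = t * n' * t * n := by rw [mul_assoc t n' t, C]; simp only [mul_assoc]

end CfsgLib.InvChar.HeRec.Tri
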